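import Groth.Agent.GaExt80.Lift
import Mathlib.RingTheory.Spectrum.Prime.Chevalley
import Mathlib.RingTheory.Flat.Localization

/-!
# Liftings of sections along extensions by the multiplicative group exist Zariski locally
-/

set_option autoImplicit false
set_option backward.isDefEq.respectTransparency.types false
set_option linter.style.haveILetI false

universe u

open CategoryTheory Limits AlgebraicGeometry Opposite TensorProduct
open Groth.Agent.Adeq2Lib Groth.Agent.DualNorm79 Groth.Agent.DualGm79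

namespace Groth.Agent.GaExt80

open GaDual80 (sMap toBase)

section Algebra

variable {A B : Type u} [CommRing A] [CommRing B] [Algebra A B] [Module.FaithfullyFlat A B]

omit [Module.FaithfullyFlat A B] in
/-- Whether an element with the descent relation lies in a prime depends only on the prime of the base. -/
theorem mem_of_rel {w : B ⊗[A] B} (hw : IsUnit w) {l : B} (hl : Rel w l) (Q₁ Q₂ : PrimeSpectrum B)
    (h : PrimeSpectrum.comap (algebraMap A B) Q₁ = PrimeSpectrum.comap (algebraMap A B) Q₂) (h2 : l ∈ Q₂.asIdeal) :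
    l ∈ Q₁.asIdeal := by
  obtain ⟨q, hq1, hq2⟩ := SchFinLib.exists_prime_tensor (A := A) Q₁ Q₂ h
  have h1 : (1 : B) ⊗ₜ[A] l ∈ q.asIdeal := by
    show (Algebra.TensorProduct.includeRight : B →ₐ[A] B ⊗[A] B).toRingHom l ∈ q.asIdeal
    rw [← Ideal.mem_comap, ← PrimeSpectrum.comap_asIdeal]
    exact (congrArg PrimeSpectrum.asIdeal hq2).symm ▸ h2
  rw [hl, q.isPrime.mul_mem_iff_mem_or_mem] at h1
  have h3 : l ⊗ₜ[A] (1 : B) ∈ q.asIdeal :=
    h1.resolve_left fun h => q.isPrime.ne_top (Ideal.eq_top_of_isUnit_mem _ h hw)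
  rw [← hq1]
  exact h3

/-- A cocycle becomes a coboundary Zariski locally on the base. -/
theorem exists_basic_cob [Algebra.FinitePresentation A B] {w : B ⊗[A] B} (hw : IsUnit w) (hc : IsCoc w)
    (P : PrimeSpectrum A) : ∃ f : A, f ∉ P.asIdeal ∧ ∀ (A' B' : Type u) [CommRing A'] [CommRing B'] [Algebra A' B']
      (ρ : A →+* A') (ψ : B →+* B') (hψ : ∀ c, ψ (algebraMap A B c) = algebraMap A' B' (ρ c)),
      IsUnit (ρ f) → Cob (sqMap ρ ψ hψ w) := by
  obtain ⟨s, hs, hsum⟩ := exists_sum_eq_one hw hc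
  obtain ⟨Q, hQ⟩ := PrimeSpectrum.comap_surjective_of_faithfullyFlat (A := A) (B := B) P
  obtain ⟨x, hx, hxQ⟩ : ∃ x ∈ s, x.2 ∉ Q.asIdeal := by
    by_contra! hne
    exact Q.isPrime.ne_top ((Ideal.eq_top_iff_one _).2 (hsum ▸ Ideal.sum_mem _ fun x hx =>
      Ideal.mul_mem_left _ _ (hne x hx)))
  obtain ⟨_, ⟨f, rfl⟩, hPf, hfU⟩ := PrimeSpectrum.isTopologicalBasis_basic_opens.exists_subset_of_mem_open
    (show P ∈ PrimeSpectrum.comap (algebraMap A B) '' (PrimeSpectrum.basicOpen x.2 : Set (PrimeSpectrum B)) from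
      ⟨Q, hxQ, hQ⟩)
    (PrimeSpectrum.isOpenMap_comap_of_hasGoingDown_of_finitePresentation _ (PrimeSpectrum.basicOpen x.2).isOpen)
  refine ⟨f, hPf, fun A' B' _ _ _ ρ ψ hψ hf => ⟨ψ x.2, ?_, (hs x hx).map ρ ψ hψ⟩⟩
  by_contra hnu
  obtain ⟨M, hM, hlM⟩ := exists_max_ideal_of_mem_nonunits hnu
  haveI := hM.isPrime
  let Q₁ : PrimeSpectrum B := PrimeSpectrum.comap ψ ⟨M, inferInstance⟩
  have hf' : PrimeSpectrum.comap (algebraMap A B) Q₁ ∈ PrimeSpectrum.basicOpen f := fun hmem => by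
    have h1 : algebraMap A' B' (ρ f) ∈ M := by
      rw [← hψ]
      exact hmem
    exact hM.ne_top (Ideal.eq_top_of_isUnit_mem _ h1 (hf.map _))
  obtain ⟨Q₂, hQ₂, hQ₂'⟩ := hfU hf'
  exact hQ₂ (mem_of_rel hw (hs x hx) Q₂ Q₁ hQ₂' hlM)

end Algebra

variable {S : Scheme.{u}} {A : Type u} [CommRing A] (a : Spec (CommRingCat.of A) ⟶ S)
variable {I Q : AffVan.AbT S} {jI : GmS S ⟶ I} {π : I ⟶ Q} {w₀ : jI ≫ π = 0}
  (hE : (ShortComplex.mk jI π w₀).ShortExact)

include hE in
/-- Sections of the quotient lift on a basic open neighbourhood of every point. -/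
theorem exists_basic_lift (u : Q.obj.obj (op (Over.mk a))) (P : PrimeSpectrum A) :
    ∃ f : A, f ∉ P.asIdeal ∧ ∃ z, (π.hom.app (op (Over.mk (sMap a (algebraMap A (Localization.Away f)))))).hom z =
      AffVan.rA Q (toBase a (algebraMap A (Localization.Away f))) u := by
  obtain ⟨B, iB, iA, hff, hlfp, t, ht⟩ := exists_locLift a hE u
  haveI : Algebra.FinitePresentation A B :=
    RingHom.finitePresentation_algebraMap.1 ((HasRingHomProperty.Spec_iff (P := @LocallyOfFinitePresentation)).1 hlfp)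
  obtain ⟨f, hf, hcob⟩ := exists_basic_cob (isUnit_coc hE ht) (isCoc_coc hE ht) P
  refine ⟨f, hf, ?_⟩
  let A' := Localization.Away f
  let B' := A' ⊗[A] B
  haveI : LocallyOfFinitePresentation (Spec.map (CommRingCat.ofHom (algebraMap A' B'))) :=
    (HasRingHomProperty.Spec_iff (P := @LocallyOfFinitePresentation)).2
      (RingHom.finitePresentation_algebraMap.2 inferInstance)
  let ψ : B →+* B' := (Algebra.TensorProduct.includeRight : B →ₐ[A] A' ⊗[A] B).toRingHom
  have hψ : ∀ c, ψ (algebraMap A B c) = algebraMap A' B' (algebraMap A A' c) := fun c =>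
    ((Algebra.TensorProduct.includeRight : B →ₐ[A] A' ⊗[A] B).commutes c)
  let a' := sMap a (algebraMap A A')
  let c : cv a' B' ⟶ cv a B := Over.homMk (Spec.map (CommRingCat.ofHom ψ)) (by
    show _ ≫ _ ≫ a = _ ≫ Spec.map (CommRingCat.ofHom (algebraMap A A')) ≫ a
    rw [← Category.assoc, ← Category.assoc, ← Spec.map_comp, ← Spec.map_comp]
    exact congrArg (fun w => Spec.map w ≫ a) (CommRingCat.hom_ext (RingHom.ext hψ)))
  obtain ⟨ht', hw⟩ := coc_nat hE (algebraMap A A') ψ hψ (toBase a (algebraMap A A')) rfl c rfl ht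
  refine lift_of_cob hE ht' ?_
  rw [hw]
  exact hcob A' B' _ ψ hψ (IsLocalization.Away.algebraMap_isUnit f)

end Groth.Agent.GaExt80
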