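import Groth.Agent.GaExt80.Semi

/-!
# Descent along Frobenius of the additive group
-/

set_option autoImplicit false
set_option backward.isDefEq.respectTransparency.types false
set_option linter.style.haveILetI false

universe u

open CategoryTheory Limits AlgebraicGeometry Opposite TensorProduct
open Groth.Agent.Adeq2Lib Groth.Agent.DualNorm79 Groth.Agent.DualGm79

namespace Groth.Agent.GaExt80

open GaDual80 (GaS sMap)

section Glue

variable {S : Scheme.{u}} {A : Type u} [CommRing A] (a : Spec (CommRingCat.of A) ⟶ S)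
  (B : Type u) [CommRing B] [Algebra A B] [Module.FaithfullyFlat A B]
  [LocallyOfFinitePresentation (Spec.map (CommRingCat.ofHom (algebraMap A B)))]

/-- Sections glue along a faithfully flat algebra of finite presentation. -/
theorem glue_cv {G : AffVan.AbT S} {t : G.obj.obj (op (cv a B))}
    (hd : AffVan.rA G (pr₁ a B) t = AffVan.rA G (pr₀ a B) t) : ∃ z, AffVan.rA G (cvMap a B) z = t := by
  have hpb : IsPullback (Spec.map (CommRingCat.ofHom (Algebra.TensorProduct.includeLeftRingHom : B →+* B ⊗[A] B)))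
      (Spec.map (CommRingCat.ofHom (Algebra.TensorProduct.includeRight : B →ₐ[A] B ⊗[A] B).toRingHom))
      (Spec.map (CommRingCat.ofHom (algebraMap A B))) (Spec.map (CommRingCat.ofHom (algebraMap A B))) :=
    isPullback_SpecMap_of_isPushout _ _ _ _ (CommRingCat.isPushout_tensorProduct A B B)
  obtain ⟨z, hz⟩ := AffVan.glueA G (fun _ : PUnit.{1} => cv a B) (fun _ => cvMap a B) (cover_mem a B)
    (fun _ => t) fun _ _ W p q hpq => by
      let m₂ : W ⟶ cv a (B ⊗[A] B) :=
        Over.homMk (hpb.lift p.left q.left (congrArg CommaMorphism.left hpq)) (by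
          show hpb.lift _ _ _ ≫ Spec.map (CommRingCat.ofHom (algebraMap A (B ⊗[A] B))) ≫ a = W.hom
          rw [← Over.w p]
          show _ = p.left ≫ Spec.map (CommRingCat.ofHom (algebraMap A B)) ≫ a
          conv_rhs => rw [← hpb.lift_fst p.left q.left (congrArg CommaMorphism.left hpq), Category.assoc,
            ← Spec.map_comp_assoc]
          rfl)
      have h0 : m₂ ≫ pr₀ a B = p := Over.OverMorphism.ext (hpb.lift_fst _ _ _)
      have h1 : m₂ ≫ pr₁ a B = q := Over.OverMorphism.ext (hpb.lift_snd _ _ _)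
      rw [← h0, ← h1, ← AffVan.rA_comp, ← AffVan.rA_comp, hd]
  exact ⟨z, hz PUnit.unit⟩

theorem eq_of_cv {G : AffVan.AbT S} {x y : G.obj.obj (op (Over.mk a))}
    (h : AffVan.rA G (cvMap a B) x = AffVan.rA G (cvMap a B) y) : x = y :=
  AffVan.eq_of_cover G (fun _ : PUnit.{1} => cv a B) (fun _ => cvMap a B) (cover_mem a B) _ _ fun _ => h

end Glue

variable {S : Scheme.{u}} {C : Type u} [CommRing C] (a : Spec (CommRingCat.of C) ⟶ S)
  {G : AffVan.AbT S}

section Tower

variable (A : Type u) [CommRing A] [Algebra C A] {R R' : Type u} [CommRing R] [Algebra C R] [Algebra A R]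
  [IsScalarTower C A R]

theorem tower_comp :
    Spec.map (CommRingCat.ofHom (algebraMap A R)) ≫ Spec.map (CommRingCat.ofHom (algebraMap C A)) ≫ a =
      Spec.map (CommRingCat.ofHom (algebraMap C R)) ≫ a := by
  rw [← Category.assoc, ← Spec.map_comp, ← CommRingCat.ofHom_comp, ← IsScalarTower.algebraMap_eq]

/-- Forgetting the intermediate ring. -/
noncomputable def cmp : cv (sMap a (algebraMap C A)) R ⟶ cv a R :=
  Over.homMk (𝟙 (Spec (CommRingCat.of R))) ((Category.id_comp _).trans (tower_comp a A).symm)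

/-- Introducing the intermediate ring. -/
noncomputable def cmpInv : cv a R ⟶ cv (sMap a (algebraMap C A)) R :=
  Over.homMk (𝟙 (Spec (CommRingCat.of R))) ((Category.id_comp _).trans (tower_comp a A))

theorem cmpInv_cmp : cmpInv a A (R := R) ≫ cmp a A = 𝟙 _ :=
  Over.OverMorphism.ext (Category.id_comp _)

theorem cmp_cvHom_tower : cmp a A (R := R) ≫ cvHom a (IsScalarTower.toAlgHom C A R) =
    cvMap (sMap a (algebraMap C A)) R :=
  Over.OverMorphism.ext (Category.id_comp _)

theorem cmp_comp {R' : Type u} [CommRing R'] [Algebra C R'] [Algebra A R'] [IsScalarTower C A R']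
    (m : cv (sMap a (algebraMap C A)) R' ⟶ cv (sMap a (algebraMap C A)) R) (φ : R →ₐ[C] R')
    (hm : m.left = Spec.map (CommRingCat.ofHom φ.toRingHom)) :
    m ≫ cmp a A = cmp a A ≫ cvHom a φ :=
  Over.OverMorphism.ext ((Category.comp_id _).trans (hm.trans (Category.id_comp _).symm))

variable [Module.FaithfullyFlat A R] [LocallyOfFinitePresentation (Spec.map (CommRingCat.ofHom (algebraMap A R)))]

theorem res_tower_injective {x y : G.obj.obj (op (cv a A))}
    (h : AffVan.rA G (cvHom a (IsScalarTower.toAlgHom C A R)) x =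
      AffVan.rA G (cvHom a (IsScalarTower.toAlgHom C A R)) y) : x = y := by
  refine eq_of_cv (sMap a (algebraMap C A)) R ?_
  rw [← cmp_cvHom_tower a A (R := R), ← AffVan.rA_comp, ← AffVan.rA_comp, h]

theorem glue_tower {s : G.obj.obj (op (cv a R))}
    (h : AffVan.rA G (cvHom a ((Algebra.TensorProduct.includeRight : R →ₐ[A] R ⊗[A] R).restrictScalars C)) s =
      AffVan.rA G (cvHom a ((Algebra.TensorProduct.includeLeft : R →ₐ[A] R ⊗[A] R).restrictScalars C)) s) :
    ∃ t : G.obj.obj (op (cv a A)), AffVan.rA G (cvHom a (IsScalarTower.toAlgHom C A R)) t = s := by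
  obtain ⟨t, ht⟩ := glue_cv (sMap a (algebraMap C A)) R (t := AffVan.rA G (cmp a A) s) (by
    rw [AffVan.rA_comp, AffVan.rA_comp,
      cmp_comp a A (pr₁ (sMap a (algebraMap C A)) R)
        ((Algebra.TensorProduct.includeRight : R →ₐ[A] R ⊗[A] R).restrictScalars C) rfl,
      cmp_comp a A (pr₀ (sMap a (algebraMap C A)) R)
        ((Algebra.TensorProduct.includeLeft : R →ₐ[A] R ⊗[A] R).restrictScalars C) rfl,
      ← AffVan.rA_comp, ← AffVan.rA_comp, h])
  refine ⟨t, ?_⟩
  have h1 := congrArg (AffVan.rA G (cmpInv a A (R := R))) ht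
  rw [← cmp_cvHom_tower a A (R := R), AffVan.rA_comp, AffVan.rA_comp, ← Category.assoc, cmpInv_cmp,
    Category.id_comp, AffVan.rA_id] at h1
  exact h1

end Tower

variable (p : ℕ) [hp : Fact p.Prime] [hC : CharP C p]

include hC in
/-- An additive section vanishing on the kernel of Frobenius descends along Frobenius. -/
theorem exists_desc {s : G.obj.obj (op (cv a (Polynomial C)))} (hs : IsAdd a s)
    (h0 : at' a (AdjoinRoot.root (Polynomial.X ^ p : Polynomial C)) s = 0) :
    ∃ t, at' a (Polynomial.X ^ p : Polynomial C) t = s ∧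
      ∀ {F : AffVan.AbT S} (φ : G ⟶ F) (v : F.obj.obj (op (cv a (Polynomial C)))),
        (φ.hom.app (op (cv a (Polynomial C)))).hom s = at' a (Polynomial.X ^ p : Polynomial C) v →
          (φ.hom.app (op (cv a (Polynomial C)))).hom t = v := by
  haveI : Nontrivial C := CharP.nontrivial_of_char_ne_one hp.out.ne_one
  let g : Polynomial (Polynomial C) := Polynomial.X ^ p - Polynomial.C Polynomial.X
  have hg : g.Monic := Polynomial.monic_X_pow_sub_C _ hp.out.ne_zero
  let B := AdjoinRoot g
  haveI : Module.Free (Polynomial C) B := hg.free_adjoinRoot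
  haveI : Module.Finite (Polynomial C) B := hg.finite_adjoinRoot
  haveI : Nontrivial B := RingHom.domain_nontrivial
    (AdjoinRoot.lift (Polynomial.aeval (Polynomial.X ^ p)).toRingHom Polynomial.X (by simp [g]) :
      B →+* Polynomial C)
  haveI : Module.FaithfullyFlat (Polynomial C) B := inferInstance
  haveI : LocallyOfFinitePresentation (Spec.map (CommRingCat.ofHom (algebraMap (Polynomial C) B))) :=
    (HasRingHomProperty.Spec_iff (P := @LocallyOfFinitePresentation)).2
      (RingHom.finitePresentation_algebraMap.2 inferInstance)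
  let r : B := AdjoinRoot.root g
  have hr : r ^ p = algebraMap (Polynomial C) B Polynomial.X := by
    have h := AdjoinRoot.eval₂_root g
    simp only [g, Polynomial.eval₂_sub, Polynomial.eval₂_X_pow, Polynomial.eval₂_C] at h
    exact sub_eq_zero.1 h
  obtain ⟨t, ht⟩ := glue_tower a (Polynomial C) (s := at' a r s) (by
    rw [res_at', res_at', ← sub_eq_zero, ← hs.sub']
    haveI : CharP (B ⊗[Polynomial C] B) p := by
      refine (CharP.charP_iff_prime_eq_zero hp.out).2 ?_
      rw [← map_natCast (algebraMap C (B ⊗[Polynomial C] B)), CharP.cast_eq_zero, map_zero]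
    obtain ⟨φ, hφ⟩ := ev_root (C := C) p
      (x := (Algebra.TensorProduct.includeRight : B →ₐ[Polynomial C] B ⊗[Polynomial C] B).restrictScalars C r -
        (Algebra.TensorProduct.includeLeft : B →ₐ[Polynomial C] B ⊗[Polynomial C] B).restrictScalars C r) (by
      rw [sub_pow_char, ← map_pow, ← map_pow, hr, sub_eq_zero]
      exact ((Algebra.TensorProduct.includeRight : B →ₐ[Polynomial C] B ⊗[Polynomial C] B).commutes _).trans
        ((Algebra.TensorProduct.includeLeft : B →ₐ[Polynomial C] B ⊗[Polynomial C] B).commutes _).symm)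
    rw [← hφ, ← res_at', h0, map_zero])
  refine ⟨t, ?_, fun φ v hv => res_tower_injective a (Polynomial C) (R := B) ?_⟩
  · let σ : B →ₐ[C] Polynomial C := AdjoinRoot.liftAlgHom g (Polynomial.aeval (Polynomial.X ^ p)) Polynomial.X (by
      simp [g])
    have h := congrArg (AffVan.rA G (cvHom a σ)) ht
    rw [AffVan.rA_comp, res_at', show σ r = Polynomial.X from AdjoinRoot.liftAlgHom_root _ _ _ _, at'_X,
      cvHom_eq a _ σ (Polynomial.aeval (Polynomial.X ^ p)) (Polynomial.algHom_ext (by show σ (AdjoinRoot.of g Polynomial.X) = _; exact (AdjoinRoot.liftAlgHom_of _ _ _ _ _).trans (by simp)))]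
      at h
    exact h
  · rw [← nat_res, ht, at'_nat, hv, at'_at', map_pow, Polynomial.aeval_X, hr,
      show algebraMap (Polynomial C) B Polynomial.X = IsScalarTower.toAlgHom C (Polynomial C) B Polynomial.X
        from rfl, ← res_at', at'_X]

variable {I Q : AffVan.AbT S} {jI : GmS S ⟶ I} {π : I ⟶ Q} {w₀ : jI ≫ π = 0}
  (hE : (ShortComplex.mk jI π w₀).ShortExact)

include hE hC in
/-- Additive sections lift to additive sections over semiperfect rings. -/
theorem exists_additive_lift (hF : Function.Surjective (frobenius C p))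
    {u : Q.obj.obj (op (cv a (Polynomial C)))} (hu : IsAdd a u) :
    ∃ s, IsAdd a s ∧ (π.hom.app (op (cv a (Polynomial C)))).hom s = u := by
  obtain ⟨s, hs, hπ, h0⟩ := exists_add_lift_kernel a hE p hu hF
  obtain ⟨t, ht, hnat⟩ := exists_desc a p hs h0
  have hπt := hnat π u hπ
  refine ⟨t, (isAdd_iff_df a).2 ?_, hπt⟩
  let R₂ := MvPolynomial (Fin 2) C
  obtain ⟨m, hm⟩ := exists_jI_eq hE (df a (MvPolynomial.X 0 : R₂) (MvPolynomial.X 1) t) (by
    rw [df_nat, hπt, ← isAdd_iff_df]
    exact hu)
  suffices gv m = 1 by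
    rw [← hm, show m = 0 from gv_ext (this.trans gv_zero.symm), map_zero]
  haveI : CharP R₂ p := inferInstance
  refine MvPolynomial.expand_injective hp.out.pos ?_
  rw [map_one]
  let φ : R₂ →ₐ[C] R₂ := MvPolynomial.expand p
  show φ.toRingHom (gv m) = 1
  rw [← gv_res (cvHom a φ) φ.toRingHom rfl, ← gv_zero (b := sMap a (algebraMap C R₂))]
  refine congrArg gv (jI_injective hE _ ?_)
  rw [nat_res, hm, res_df, map_zero, MvPolynomial.expand_X, MvPolynomial.expand_X, df, ← add_pow_char]
  have key : ∀ w : R₂, at' a (w ^ p) t = at' a w s := fun w => by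
    rw [← ht, at'_at', map_pow, Polynomial.aeval_X]
  rw [key, key, key, hs.add, add_sub_cancel_left, sub_self]

end Groth.Agent.GaExt80
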