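import Groth.Agent.GaExt80.PerfRoots
import Groth.Agent.GaExt80.SemiDesc
import Groth.Agent.GaExt80.LocLift
import Mathlib.RingTheory.Polynomial.IsIntegral
import Mathlib.RingTheory.Spectrum.Prime.Topology

/-!
# Additive sections lift fppf locally on the base in positive characteristic
-/

set_option autoImplicit false
set_option backward.isDefEq.respectTransparency.types false
set_option linter.style.haveILetI false

universe u

open CategoryTheory Limits AlgebraicGeometry Opposite TensorProduct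
open Groth.Agent.Adeq2Lib Groth.Agent.DualNorm79 Groth.Agent.DualGm79

namespace Groth.Agent.GaExt80

open GaDual80 (GaS sMap toBase)

variable {S : Scheme.{u}}

section Coeff

variable {I Q : AffVan.AbT S} {jI : GmS S ⟶ I} {π : I ⟶ Q} {w₀ : jI ≫ π = 0}
  (hE : (ShortComplex.mk jI π w₀).ShortExact)

include hE in
/-- A lifting over an extension descends to every subring containing finitely many prescribed elements. -/
theorem exists_coeff_lift {A : Type u} [CommRing A] {a : Spec (CommRingCat.of A) ⟶ S} (u : Q.obj.obj (op (Over.mk a)))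
    {Ai : Type u} [CommRing Ai] {ai : Spec (CommRingCat.of Ai) ⟶ S} (ρi : A →+* Ai) (mi : Over.mk ai ⟶ Over.mk a)
    (hmi : mi.left = Spec.map (CommRingCat.ofHom ρi))
    (hz : ∃ z, (π.hom.app (op (Over.mk ai))).hom z = AffVan.rA Q mi u) :
    ∃ F : Finset Ai, ∀ (A' : Type u) [CommRing A'] (ρ : A →+* A') (σ : A' →+* Ai)
      (a' : Spec (CommRingCat.of A') ⟶ S) (m : Over.mk a' ⟶ Over.mk a), m.left = Spec.map (CommRingCat.ofHom ρ) →
      σ.comp ρ = ρi → Function.Surjective (PrimeSpectrum.comap σ) → ↑F ⊆ Set.range σ →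
      ∃ z, (π.hom.app (op (Over.mk a'))).hom z = AffVan.rA Q m u := by
  classical
  obtain ⟨B, iB, iA, hff, hlfp, t, ht⟩ := exists_locLift a hE u
  haveI : Algebra.FinitePresentation A B :=
    RingHom.finitePresentation_algebraMap.1 ((HasRingHomProperty.Spec_iff (P := @LocallyOfFinitePresentation)).1 hlfp)
  letI := ρi.toAlgebra
  let Bi := Ai ⊗[A] B
  haveI : LocallyOfFinitePresentation (Spec.map (CommRingCat.ofHom (algebraMap Ai Bi))) :=
    (HasRingHomProperty.Spec_iff (P := @LocallyOfFinitePresentation)).2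
      (RingHom.finitePresentation_algebraMap.2 inferInstance)
  let ψi : B →+* Bi := (Algebra.TensorProduct.includeRight : B →ₐ[A] Ai ⊗[A] B).toRingHom
  have hψi : ∀ c, ψi (algebraMap A B c) = algebraMap Ai Bi (ρi c) := fun c =>
    ((Algebra.TensorProduct.includeRight : B →ₐ[A] Ai ⊗[A] B).commutes c)
  let ci : cv ai Bi ⟶ cv a B := Over.homMk (Spec.map (CommRingCat.ofHom ψi)) (by
    show _ ≫ _ ≫ a = _ ≫ ai
    have hw : mi.left ≫ a = ai := Over.w mi
    rw [← hw, hmi, ← Category.assoc, ← Category.assoc, ← Spec.map_comp, ← Spec.map_comp]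
    exact congrArg (fun w => Spec.map w ≫ a) (CommRingCat.hom_ext (RingHom.ext hψi)))
  obtain ⟨hti, hwi⟩ := coc_nat hE ρi ψi hψi mi hmi ci rfl ht
  obtain ⟨z₀, hz₀⟩ := hz
  obtain ⟨mu, ι, s, l, c, hmu, hl, hsum⟩ :=
    exists_coeffs ρi ψi hψi (isUnit_coc hE ht) (isCoc_coc hE ht) (hwi ▸ cob_of_lift hE hti hz₀)
  refine ⟨s.image c, fun A' _ ρ σ a' m hm hσρ hσ hF => ?_⟩
  letI := ρ.toAlgebra
  let B' := A' ⊗[A] B
  haveI : LocallyOfFinitePresentation (Spec.map (CommRingCat.ofHom (algebraMap A' B'))) :=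
    (HasRingHomProperty.Spec_iff (P := @LocallyOfFinitePresentation)).2
      (RingHom.finitePresentation_algebraMap.2 inferInstance)
  let ψ : B →+* B' := (Algebra.TensorProduct.includeRight : B →ₐ[A] A' ⊗[A] B).toRingHom
  have hψ : ∀ c, ψ (algebraMap A B c) = algebraMap A' B' (ρ c) := fun c =>
    ((Algebra.TensorProduct.includeRight : B →ₐ[A] A' ⊗[A] B).commutes c)
  let cm : cv a' B' ⟶ cv a B := Over.homMk (Spec.map (CommRingCat.ofHom ψ)) (by
    show _ ≫ _ ≫ a = _ ≫ a'
    have hw : m.left ≫ a = a' := Over.w m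
    rw [← hw, hm, ← Category.assoc, ← Category.assoc, ← Spec.map_comp, ← Spec.map_comp]
    exact congrArg (fun w => Spec.map w ≫ a) (CommRingCat.hom_ext (RingHom.ext hψ)))
  obtain ⟨ht', hw'⟩ := coc_nat hE ρ ψ hψ m hm cm rfl ht
  refine lift_of_cob hE ht' ?_
  have hpo := CommRingCat.isPushout_tensorProduct A A' B
  let τc : CommRingCat.of B' ⟶ CommRingCat.of Bi :=
    hpo.desc (CommRingCat.ofHom ((algebraMap Ai Bi).comp σ)) (CommRingCat.ofHom ψi)
      (CommRingCat.hom_ext (RingHom.ext fun x => by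
        show algebraMap Ai Bi (σ (ρ x)) = ψi (algebraMap A B x)
        rw [hψi, ← hσρ]
        rfl))
  let τ : B' →+* Bi := τc.hom
  have hτ : ∀ x, τ (algebraMap A' B' x) = algebraMap Ai Bi (σ x) := fun x =>
    RingHom.congr_fun (congrArg CommRingCat.Hom.hom (hpo.inl_desc _ _ _)) x
  have hτψ : ∀ b, τ (ψ b) = ψi b := fun b =>
    RingHom.congr_fun (congrArg CommRingCat.Hom.hom (hpo.inr_desc _ _ _)) b
  have hd : ∀ i ∈ s, ∃ d, σ d = c i := fun i hi => hF (Finset.mem_image_of_mem c hi)
  choose! d hd using hd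
  let n := ∑ i ∈ s, algebraMap A' B' (d i) * ψ (l i)
  have hn : Rel (coc hE ht') n := Rel.sum _ _ fun i hi => (hw' ▸ (hl i hi).map ρ ψ hψ).smul _
  have hτn : τ n = mu := by
    simp only [n, map_sum, map_mul, hτ, hτψ]
    rw [← hsum]
    exact Finset.sum_congr rfl fun i hi => by rw [hd i hi]
  exact ⟨n, isUnit_of_rel σ τ hτ hσ (isUnit_coc hE ht') hn (hτn ▸ hmu), hn⟩

end Coeff

section BaseChange

variable {C : Type u} [CommRing C] (a : Spec (CommRingCat.of C) ⟶ S) {G : AffVan.AbT S}
  (D : Type u) [CommRing D] [Algebra C D] (a' : Spec (CommRingCat.of D) ⟶ S)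
  (ha : a' = sMap a (algebraMap C D))

/-- The map of polynomial rings. -/
noncomputable abbrev polyMap : Polynomial C →ₐ[C] Polynomial D := Polynomial.mapAlgHom (Algebra.ofId C D)

/-- Forgetting a new base, for an equal structure map. -/
noncomputable def chg (R : Type u) [CommRing R] [Algebra C R] [Algebra D R] [IsScalarTower C D R] :
    cv a' R ⟶ cv a R :=
  Over.homMk (𝟙 (Spec (CommRingCat.of R))) (by
    show 𝟙 _ ≫ Spec.map _ ≫ a = Spec.map _ ≫ a'
    rw [ha, Category.id_comp, tower_comp a D])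

/-- The map of affine lines. -/
noncomputable def lineMap : cv a' (Polynomial D) ⟶ cv a (Polynomial C) :=
  chg a D a' ha (Polynomial D) ≫ cvHom a (polyMap (C := C) D)

/-- Restriction of sections on the affine line to a new base. -/
noncomputable def bX (s : G.obj.obj (op (cv a (Polynomial C)))) : G.obj.obj (op (cv a' (Polynomial D))) :=
  AffVan.rA G (lineMap a D a' ha) s

theorem lineMap_left : (lineMap a D a' ha).left = Spec.map (CommRingCat.ofHom (polyMap (C := C) D).toRingHom) :=
  Category.id_comp _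

variable {D} {R : Type u} [CommRing R] [Algebra C R] [Algebra D R] [IsScalarTower C D R]

theorem at'_bX (x : R) (s : G.obj.obj (op (cv a (Polynomial C)))) :
    at' a' x (bX a D a' ha s) = AffVan.rA G (chg a D a' ha R) (at' a x s) := by
  rw [at', at', bX, AffVan.rA_comp, AffVan.rA_comp]
  refine congrArg (fun w => AffVan.rA G w s) (Over.OverMorphism.ext ?_)
  show Spec.map _ ≫ 𝟙 _ ≫ Spec.map _ = 𝟙 _ ≫ Spec.map _
  rw [Category.id_comp, Category.id_comp, ← Spec.map_comp]
  refine congrArg Spec.map (CommRingCat.hom_ext (Polynomial.ringHom_ext (fun c => ?_) ?_))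
  · simp [← IsScalarTower.algebraMap_apply]
  · simp

theorem df_bX (x y : R) (s : G.obj.obj (op (cv a (Polynomial C)))) :
    df a' x y (bX a D a' ha s) = AffVan.rA G (chg a D a' ha R) (df a x y s) := by
  rw [df, df, at'_bX, at'_bX, at'_bX, map_sub, map_sub]

theorem isAdd_bX {s : G.obj.obj (op (cv a (Polynomial C)))} (hs : IsAdd a s) : IsAdd a' (bX a D a' ha s) := by
  rw [isAdd_iff_df, df_bX, df, hs.add, add_sub_cancel_left, sub_self, map_zero]

theorem bX_nat {F : AffVan.AbT S} (φ : F ⟶ G) (s : F.obj.obj (op (cv a (Polynomial C)))) :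
    (φ.hom.app (op (cv a' (Polynomial D)))).hom (bX a D a' ha s) =
      bX a D a' ha ((φ.hom.app (op (cv a (Polynomial C)))).hom s) :=
  nat_res φ _ s

theorem gv_bX (m : (GmS S).obj.obj (op (cv a (Polynomial C)))) :
    gv (bX a D a' ha m) = polyMap (C := C) D (gv m) :=
  gv_res (lineMap a D a' ha) (polyMap (C := C) D).toRingHom (lineMap_left a D a' ha) m

theorem bX_bX {E : Type u} [CommRing E] [Algebra C E] [Algebra D E] [IsScalarTower C D E]
    (a'' : Spec (CommRingCat.of E) ⟶ S) (ha' : a'' = sMap a' (algebraMap D E))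
    (ha'' : a'' = sMap a (algebraMap C E)) (s : G.obj.obj (op (cv a (Polynomial C)))) :
    bX a' E a'' ha' (bX a D a' ha s) = bX a E a'' ha'' s := by
  rw [bX, bX, bX, AffVan.rA_comp]
  refine congrArg (fun w => AffVan.rA G w s) (Over.OverMorphism.ext ?_)
  rw [Over.comp_left, lineMap_left, lineMap_left, lineMap_left, ← Spec.map_comp]
  refine congrArg Spec.map (CommRingCat.hom_ext (Polynomial.ringHom_ext (fun c => ?_) ?_))
  · simp [← IsScalarTower.algebraMap_apply]
  · simp

end BaseChange

/-- Surjectivity on spectra for polynomial rings over an integral injection. -/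
theorem comap_mapRingHom_surjective {C D E : Type u} [CommRing C] [CommRing D] [CommRing E] [Algebra C D]
    [Algebra C E] (φ : D →ₐ[C] E) (hφ : Function.Injective φ) (hE : ∀ x : E, IsIntegral C x) :
    Function.Surjective (PrimeSpectrum.comap (Polynomial.mapRingHom φ.toRingHom)) := by
  refine RingHom.IsIntegral.comap_surjective (fun x => ?_) (Polynomial.map_injective _ hφ)
  letI := φ.toRingHom.toAlgebra
  haveI : IsScalarTower C D E := IsScalarTower.of_algebraMap_eq fun c => (φ.commutes c).symm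
  exact Polynomial.isIntegral_iff_isIntegral_coeff.2 fun i => (hE _).tower_top

variable {I Q : AffVan.AbT S} {jI : GmS S ⟶ I} {π : I ⟶ Q} {w₀ : jI ≫ π = 0}
  (hE : (ShortComplex.mk jI π w₀).ShortExact)

include hE in
/-- Additive sections lift to additive sections after a finite free extension of the base. -/
theorem exists_additive_lift_fppf {C : Type u} [CommRing C] (a : Spec (CommRingCat.of C) ⟶ S) (p : ℕ)
    [hp : Fact p.Prime] [CharP C p] {u : Q.obj.obj (op (cv a (Polynomial C)))} (hu : IsAdd a u) :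
    ∃ (D : Type u) (_ : CommRing D) (_ : Algebra C D), Module.Free C D ∧ Module.Finite C D ∧ Nontrivial D ∧
      ∃ s, IsAdd (sMap a (algebraMap C D)) s ∧
        (π.hom.app (op (cv (sMap a (algebraMap C D)) (Polynomial D)))).hom s = bX a D _ rfl u := by
  classical
  haveI : Nontrivial C := CharP.nontrivial_of_char_ne_one hp.out.ne_one
  let P := PerfRoots p C
  haveI : CharP P p := charP_perfRoots p C
  let aP := sMap a (algebraMap C P)
  obtain ⟨z, hzadd, hz⟩ := exists_additive_lift aP p hE (frobenius_perfRoots_surjective p C) (isAdd_bX a aP rfl hu)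
  obtain ⟨F, hF⟩ := exists_coeff_lift hE u (polyMap (C := C) P).toRingHom (lineMap a P aP rfl)
    (lineMap_left a P aP rfl) ⟨z, hz⟩
  obtain ⟨D, _, _, hfree, hfin, hnt, φ, hφ, hFD⟩ := exists_stage p C (F.biUnion fun f => f.coeffs)
  let aD := sMap a (algebraMap C D)
  letI : Algebra D P := φ.toRingHom.toAlgebra
  haveI : IsScalarTower C D P := IsScalarTower.of_algebraMap_eq fun c => (φ.commutes c).symm
  have hσ : (Polynomial.mapRingHom φ.toRingHom).comp (polyMap (C := C) D).toRingHom = (polyMap (C := C) P).toRingHom :=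
    Polynomial.ringHom_ext (fun c => by simp; rfl) (by simp)
  obtain ⟨zD, hzD⟩ := hF (Polynomial D) (polyMap (C := C) D).toRingHom (Polynomial.mapRingHom φ.toRingHom)
    (sMap aD (algebraMap D (Polynomial D))) (lineMap a D aD rfl) (lineMap_left a D aD rfl) hσ
    (comap_mapRingHom_surjective φ hφ (isIntegral_perfRoots p C)) fun f hf => by
      refine Polynomial.mem_map_range _ |>.2 fun i => ?_
      by_cases hi : f.coeff i = 0
      · exact hi ▸ zero_mem _
      · obtain ⟨d, hd⟩ := hFD (Finset.mem_biUnion.2 ⟨f, hf, Polynomial.coeff_mem_coeffs hi⟩)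
        exact ⟨d, hd⟩
  have haP : aP = sMap aD (algebraMap D P) := (tower_comp a D).symm
  obtain ⟨g, hg⟩ := exists_jI_eq hE (z - bX aD P aP haP zD) (by
    rw [map_sub, hz, bX_nat, hzD]
    exact sub_eq_zero.2 (bX_bX a aD rfl aP haP rfl u).symm)
  let gs : Finset P := (gv g).coeffs ∪ (Ring.inverse (gv g)).coeffs
  obtain ⟨gens, hgens⟩ := Module.Finite.fg_top (R := C) (M := D)
  obtain ⟨D', _, _, hfree', hfin', hnt', φ', hφ', hFD'⟩ := exists_stage p C (gs ∪ gens.image φ)
  have hrange : φ.range ≤ φ'.range := by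
    rintro _ ⟨d, rfl⟩
    have hle : (⊤ : Submodule C D) ≤ (Subalgebra.toSubmodule φ'.range).comap φ.toLinearMap := by
      rw [← hgens, Submodule.span_le]
      intro x hx
      exact hFD' (Finset.mem_union_right _ (Finset.mem_image_of_mem φ hx))
    exact hle Submodule.mem_top
  let j : D →ₐ[C] D' := (AlgEquiv.ofInjective φ' hφ').symm.toAlgHom.comp
    (φ.codRestrict φ'.range fun d => hrange ⟨d, rfl⟩)
  have hj : ∀ d, φ' (j d) = φ d := fun d =>
    congrArg Subtype.val ((AlgEquiv.ofInjective φ' hφ').apply_symm_apply (φ.codRestrict φ'.range _ d))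
  letI : Algebra D D' := j.toRingHom.toAlgebra
  haveI : IsScalarTower C D D' := IsScalarTower.of_algebraMap_eq fun c => (j.commutes c).symm
  letI : Algebra D' P := φ'.toRingHom.toAlgebra
  haveI : IsScalarTower C D' P := IsScalarTower.of_algebraMap_eq fun c => (φ'.commutes c).symm
  haveI : IsScalarTower D D' P := IsScalarTower.of_algebraMap_eq fun d => (hj d).symm
  let aD' := sMap a (algebraMap C D')
  have haD' : aD' = sMap aD (algebraMap D D') := (tower_comp a D).symm
  have haP' : aP = sMap aD' (algebraMap D' P) := (tower_comp a D').symm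
  have hlift : ∀ f : Polynomial P, f.coeffs ⊆ gs → ∃ f' : Polynomial D', Polynomial.map φ'.toRingHom f' = f :=
    fun f hf => by
      refine (Polynomial.mem_map_range _).2 fun i => ?_
      by_cases hi : f.coeff i = 0
      · exact hi ▸ zero_mem _
      · obtain ⟨d, hd⟩ := hFD' (Finset.mem_union_left _ (hf (Polynomial.coeff_mem_coeffs hi)))
        exact ⟨d, hd⟩
  obtain ⟨f₁, hf₁⟩ := hlift (gv g) Finset.subset_union_left
  obtain ⟨f₂, hf₂⟩ := hlift (Ring.inverse (gv g)) Finset.subset_union_right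
  have hinj : Function.Injective (Polynomial.map φ'.toRingHom) := Polynomial.map_injective _ hφ'
  have hf₁u : IsUnit f₁ := IsUnit.of_mul_eq_one f₂ (hinj (by
    rw [Polynomial.map_mul, hf₁, hf₂, Polynomial.map_one, Ring.mul_inverse_cancel _ (isUnit_gv g)]))
  obtain ⟨g', hg'⟩ := exists_gm (S := S) aD' hf₁u
  let z' := bX aD D' aD' haD' zD + (jI.hom.app (op (cv aD' (Polynomial D')))).hom g'
  have hπ' : (π.hom.app (op (cv aD' (Polynomial D')))).hom z' = bX a D' aD' rfl u := by
    rw [map_add, π_jI hE, add_zero, bX_nat, hzD]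
    exact bX_bX a aD rfl aD' haD' rfl u
  refine ⟨D', inferInstance, inferInstance, hfree', hfin', hnt', z', (isAdd_iff_df aD').2 ?_, hπ'⟩
  let RD := MvPolynomial (Fin 2) D'
  let RP := MvPolynomial (Fin 2) P
  obtain ⟨m, hm⟩ := exists_jI_eq hE (df aD' (MvPolynomial.X 0 : RD) (MvPolynomial.X 1) z') (by
    rw [df_nat, hπ', ← isAdd_iff_df]
    exact isAdd_bX a aD' rfl hu)
  suffices gv m = 1 by rw [← hm, show m = 0 from gv_ext (this.trans gv_zero.symm), map_zero]
  have hzP : bX aD' P aP haP' z' = z := by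
    show AffVan.rA I _ (bX aD D' aD' haD' zD + _) = _
    rw [map_add, ← nat_res]
    have h1 : AffVan.rA (GmS S) (lineMap aD' P aP haP') g' = g := by
      refine gv_ext ((gv_bX aD' aP haP' g').trans ?_)
      rw [hg']
      exact hf₁
    rw [h1, hg]
    exact (congrArg (· + _) (bX_bX aD aD' haD' aP haP' haP zD)).trans (add_sub_cancel _ _)
  let ιR : RD →ₐ[D'] RP := MvPolynomial.mapAlgHom (Algebra.ofId D' P)
  let k : cv aP RP ⟶ cv aD' RD := chg aD' P aP haP' RP ≫ cvHom aD' ιR
  refine MvPolynomial.map_injective φ'.toRingHom hφ' ?_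
  rw [map_one, ← gv_res k (MvPolynomial.map φ'.toRingHom) (Category.id_comp _)]
  suffices h : AffVan.rA (GmS S) k m = 0 by rw [h, gv_zero]
  refine jI_injective hE _ ?_
  rw [nat_res, hm, map_zero, ← AffVan.rA_comp, res_df, ← df_bX aD' aP haP', hzP]
  rw [show ιR (MvPolynomial.X 0) = MvPolynomial.X 0 from MvPolynomial.map_X _ _,
    show ιR (MvPolynomial.X 1) = MvPolynomial.X 1 from MvPolynomial.map_X _ _]
  exact (isAdd_iff_df aP).1 hzadd

end Groth.Agent.GaExt80
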