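import Groth.Agent.GaExt80.AlphaPts

/-!
# Homomorphisms out of the kernels of Frobenius as additive sections
-/

set_option autoImplicit false
set_option backward.isDefEq.respectTransparency.types false
set_option linter.style.haveILetI false

universe u

open CategoryTheory Limits AlgebraicGeometry Opposite TensorProduct MonObj
open Groth.Agent.Adeq2Lib Groth.Agent.DualNorm79 Groth.Agent.DualGm79
open Groth.Agent.GrpSchLib.AffineHopf (sp spMap spMap_mul)

namespace Groth.Agent.GaExt80

variable (p : ℕ) [hp : Fact p.Prime] (R : Type u) [CommRing R] [hR : CharP R p] (n : ℕ)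
  {G : AffVan.AbT (Spec (CommRingCat.of R))}

/-- The base point. -/
noncomputable abbrev bs : Spec (CommRingCat.of R) ⟶ Spec (CommRingCat.of R) := 𝟙 _

variable {R} in
/-- The two presentations of a spectrum over the base. -/
noncomputable def toCv (B : Type u) [CommRing B] [Algebra R B] : sp R B ⟶ cv (bs R) B :=
  Over.homMk (𝟙 (Spec (CommRingCat.of B))) ((Category.id_comp _).trans (Category.comp_id _))

variable {R} in
/-- The two presentations of a spectrum over the base. -/
noncomputable def ofCv (B : Type u) [CommRing B] [Algebra R B] : cv (bs R) B ⟶ sp R B :=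
  Over.homMk (𝟙 (Spec (CommRingCat.of B))) ((Category.id_comp _).trans (Category.comp_id _).symm)

omit hR in
theorem toCv_ofCv (B : Type u) [CommRing B] [Algebra R B] : toCv B ≫ ofCv B = 𝟙 (sp R B) :=
  Over.OverMorphism.ext (Category.id_comp _)

omit hR in
theorem spMap_toCv {B B' : Type u} [CommRing B] [Algebra R B] [CommRing B'] [Algebra R B'] (φ : B →ₐ[R] B') :
    spMap φ ≫ toCv B = toCv B' ≫ cvHom (bs R) φ :=
  Over.OverMorphism.ext ((Category.comp_id _).trans (Category.id_comp _).symm)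

variable {p R n}

/-- The value of a section at a point. -/
noncomputable def atN {B : Type u} [CommRing B] [Algebra R B] (b : B) (hb : b ^ p ^ n = 0)
    (s : G.obj.obj (op (cv (bs R) (AlphaPn.A p n R)))) : G.obj.obj (op (cv (bs R) B)) :=
  AffVan.rA G (cvHom (bs R) (AlphaPn.lift p n R b hb)) s

section At

variable {B B' : Type u} [CommRing B] [Algebra R B] [CommRing B'] [Algebra R B']

theorem res_atN (φ : B →ₐ[R] B') (b : B) (hb : b ^ p ^ n = 0) (s : G.obj.obj (op (cv (bs R) (AlphaPn.A p n R))))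
    (hb' : (φ b) ^ p ^ n = 0) : AffVan.rA G (cvHom (bs R) φ) (atN b hb s) = atN (φ b) hb' s := by
  rw [atN, atN, AffVan.rA_comp,
    cvHom_eq (bs R) _ φ (AlphaPn.lift p n R (φ b) hb') (AlphaPn.algHom_ext (by simp))]

theorem atN_congr {b b' : B} (h : b = b') (hb : b ^ p ^ n = 0) (hb' : b' ^ p ^ n = 0)
    (s : G.obj.obj (op (cv (bs R) (AlphaPn.A p n R)))) : atN b hb s = atN b' hb' s := by
  subst h
  rfl

theorem atN_x (s : G.obj.obj (op (cv (bs R) (AlphaPn.A p n R)))) :
    atN (AlphaPn.x p n R) (AlphaPn.x_pow p n R) s = s := by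
  rw [atN, show AlphaPn.lift p n R (AlphaPn.x p n R) (AlphaPn.x_pow p n R) = AlgHom.id R _ from
    AlphaPn.algHom_ext (by simp), cvHom_id, AffVan.rA_id]

theorem atN_nat {F : AffVan.AbT (Spec (CommRingCat.of R))} (φ : F ⟶ G) (b : B) (hb : b ^ p ^ n = 0)
    (s : F.obj.obj (op (cv (bs R) (AlphaPn.A p n R)))) :
    (φ.hom.app (op (cv (bs R) B))).hom (atN b hb s) = atN b hb ((φ.hom.app (op (cv (bs R) (AlphaPn.A p n R)))).hom s) :=
  nat_res φ _ s

theorem atN_sub (b : B) (hb : b ^ p ^ n = 0) (s t : G.obj.obj (op (cv (bs R) (AlphaPn.A p n R)))) :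
    atN b hb (s - t) = atN b hb s - atN b hb t := map_sub _ _ _

end At

include hR in
theorem add_pow_q {B : Type u} [CommRing B] [Algebra R B] {b c : B} (hb : b ^ p ^ n = 0) (hc : c ^ p ^ n = 0) :
    (b + c) ^ p ^ n = 0 := AlphaPn.add_pow_eq_zero p n R (Commute.all _ _) hb hc

/-- Additive sections on the kernel of Frobenius. -/
def IsAddN (s : G.obj.obj (op (cv (bs R) (AlphaPn.A p n R)))) : Prop :=
  ∀ (B : Type u) [CommRing B] [Algebra R B] (b c : B) (hb : b ^ p ^ n = 0) (hc : c ^ p ^ n = 0),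
    atN (b + c) (add_pow_q (R := R) hb hc) s = atN b hb s + atN c hc s

theorem IsAddN.zero {s : G.obj.obj (op (cv (bs R) (AlphaPn.A p n R)))} (hs : IsAddN s) (B : Type u) [CommRing B]
    [Algebra R B] (h : (0 : B) ^ p ^ n = 0) : atN (0 : B) h s = 0 := by
  have h1 := hs B 0 0 h h
  rw [atN_congr (add_zero (0 : B)) _ h] at h1
  exact left_eq_add.1 h1

/-- The point of a ring element. -/
noncomputable def ptN {B : Type u} [CommRing B] [Algebra R B] (b : B) (hb : b ^ p ^ n = 0) :
    cv (bs R) B ⟶ sp R (AlphaPn.A p n R) :=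
  cvHom (bs R) (AlphaPn.lift p n R b hb) ≫ ofCv _

theorem coo_ptN {B : Type u} [CommRing B] [Algebra R B] (b : B) (hb : b ^ p ^ n = 0) :
    coo (ptN (R := R) b hb) = (Scheme.ΓSpecIso (CommRingCat.of B)).inv b := by
  let e : CommRingCat.of (AlphaPn.A p n R) ⟶ CommRingCat.of B :=
    CommRingCat.ofHom (AlphaPn.lift p n R b hb).toRingHom
  show (Spec.map e ≫ 𝟙 _).appTop ((Scheme.ΓSpecIso (CommRingCat.of (AlphaPn.A p n R))).inv (AlphaPn.x p n R)) = _
  rw [Category.comp_id, ← ConcreteCategory.comp_apply, ← Scheme.ΓSpecIso_inv_naturality e, ConcreteCategory.comp_apply]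
  exact congrArg _ (AlphaPn.lift_x b hb)

theorem ptN_add {B : Type u} [CommRing B] [Algebra R B] (b c : B) (hb : b ^ p ^ n = 0) (hc : c ^ p ^ n = 0) :
    ptN (R := R) (b + c) (add_pow_q (R := R) hb hc) = ptN (R := R) b hb * ptN (R := R) c hc :=
  coo_injective (by rw [coo_mul, coo_ptN, coo_ptN, coo_ptN, map_add])

/-- A homomorphism lifts if its universal value lifts to an additive section. -/
theorem exists_lift_hom_alpha {I Q : AffVan.AbT (Spec (CommRingCat.of R))} (π : I ⟶ Q) (f : αS p R n ⟶ Q)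
    (h : ∀ u, IsAddN (G := Q) (p := p) (n := n) u →
      ∃ s, IsAddN (G := I) (p := p) (n := n) s ∧ (π.hom.app (op (cv (bs R) (AlphaPn.A p n R)))).hom s = u) :
    ∃ g : αS p R n ⟶ I, g ≫ π = f := by
  let idp : (αS p R n).obj.obj (op (sp R (AlphaPn.A p n R))) := ULift.up (Additive.ofMul (𝟙 _))
  let u₀ := (f.hom.app (op (sp R (AlphaPn.A p n R)))).hom idp
  have hval : ∀ {T : Over (Spec (CommRingCat.of R))} (x : (αS p R n).obj.obj (op T)),
      (f.hom.app (op T)).hom x = AffVan.rA Q (pp x) u₀ := fun {T} x => by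
    rw [← nat_res]
    exact congrArg _ (ULift.ext _ _ (congrArg Additive.ofMul (Category.comp_id (pp x)).symm))
  obtain ⟨s, hs, hsu⟩ := h (AffVan.rA Q (ofCv _) u₀) fun B _ _ b c hb hc => by
    simp only [atN, AffVan.rA_comp]
    let X : (αS p R n).obj.obj (op (cv (bs R) B)) := ULift.up (Additive.ofMul (ptN b hb))
    let Y : (αS p R n).obj.obj (op (cv (bs R) B)) := ULift.up (Additive.ofMul (ptN c hc))
    have hXY : X + Y = ULift.up (Additive.ofMul (ptN (b + c) (add_pow_q (R := R) hb hc))) :=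
      ULift.ext _ _ (congrArg Additive.ofMul (ptN_add b c hb hc).symm)
    have h1 := map_add (f.hom.app (op (cv (bs R) B))).hom X Y
    rw [hXY, hval, hval X, hval Y] at h1
    exact h1
  let v : ∀ {T : Over (Spec (CommRingCat.of R))}, (αS p R n).obj.obj (op T) → I.obj.obj (op T) := fun {T} x =>
    AffVan.rA I (pp x ≫ toCv _) s
  have hv : ∀ {T : Over (Spec (CommRingCat.of R))} (x y : (αS p R n).obj.obj (op T)), v (x + y) = v x + v y := by
    intro T x y
    let M := AlphaPn.A p n R ⊗[R] AlphaPn.A p n R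
    let iL : AlphaPn.A p n R →ₐ[R] M := Algebra.TensorProduct.includeLeft
    let iR : AlphaPn.A p n R →ₐ[R] M := Algebra.TensorProduct.includeRight
    let P := pairA (pp x) (pp y) ≫ toCv M
    have hL : pp x ≫ toCv _ = P ≫ cvHom (bs R) iL := by
      rw [Category.assoc, ← spMap_toCv, ← Category.assoc]
      exact congrArg (· ≫ toCv _) (pairA_fst _ _).symm
    have hR' : pp y ≫ toCv _ = P ≫ cvHom (bs R) iR := by
      rw [Category.assoc, ← spMap_toCv, ← Category.assoc]
      exact congrArg (· ≫ toCv _) (pairA_snd _ _).symm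
    have hl : iL (AlphaPn.x p n R) ^ p ^ n = 0 := by rw [← map_pow, AlphaPn.x_pow, map_zero]
    have hr : iR (AlphaPn.x p n R) ^ p ^ n = 0 := by rw [← map_pow, AlphaPn.x_pow, map_zero]
    have hS : pp (x + y) ≫ toCv _ =
        P ≫ cvHom (bs R) (AlphaPn.lift p n R (iL (AlphaPn.x p n R) + iR (AlphaPn.x p n R)) (add_pow_q (R := R) hl hr)) := by
      rw [Category.assoc, ← spMap_toCv, ← Category.assoc]
      refine congrArg (· ≫ toCv _) (coo_injective ?_)
      show coo (pp x * pp y) = _
      rw [coo_mul]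
      rw [coo, coo, coo, SekSuwaLib.ptRingHom_comp _ _
        (AlphaPn.lift p n R (iL (AlphaPn.x p n R) + iR (AlphaPn.x p n R)) (add_pow_q (R := R) hl hr)).toRingHom rfl]
      show _ = SekSuwaLib.ptRingHom (pairA (pp x) (pp y)) (AlphaPn.lift p n R _ _ (AlphaPn.x p n R))
      rw [AlphaPn.lift_x, map_add]
      congr 1
      · exact (congrArg (fun e => SekSuwaLib.ptRingHom e (AlphaPn.x p n R)) (pairA_fst (pp x) (pp y)).symm).trans
          (SekSuwaLib.ptRingHom_comp _ _ iL.toRingHom rfl _)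
      · exact (congrArg (fun e => SekSuwaLib.ptRingHom e (AlphaPn.x p n R)) (pairA_snd (pp x) (pp y)).symm).trans
          (SekSuwaLib.ptRingHom_comp _ _ iR.toRingHom rfl _)
    show AffVan.rA I (pp (x + y) ≫ toCv _) s = AffVan.rA I (pp x ≫ toCv _) s + AffVan.rA I (pp y ≫ toCv _) s
    clear_value P
    rw [hS, hL, hR', ← AffVan.rA_comp, ← AffVan.rA_comp, ← AffVan.rA_comp, ← map_add]
    refine congrArg _ ((hs M _ _ hl hr).trans ?_)
    have e : ∀ i : AlphaPn.A p n R →ₐ[R] M, ∀ h, atN (i (AlphaPn.x p n R)) h s = AffVan.rA I (cvHom (bs R) i) s :=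
      fun i h => by
        rw [atN]
        congr 2
        exact congrArg _ (AlphaPn.algHom_ext (by simp))
    rw [e, e]
  let nat' : (αS p R n).obj ⟶ I.obj :=
    { app := fun T => AddCommGrpCat.ofHom (X := (αS p R n).obj.obj T) (Y := I.obj.obj T)
        (AddMonoidHom.mk' (fun x => v (T := T.unop) x) fun x y => hv (T := T.unop) x y)
      naturality := fun T T' m => AddCommGrpCat.ext fun x => by
        show AffVan.rA I ((m.unop ≫ pp (T := T.unop) x) ≫ toCv _) s = AffVan.rA I m.unop (AffVan.rA I (pp x ≫ toCv _) s)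
        rw [AffVan.rA_comp, Category.assoc] }
  refine ⟨⟨nat'⟩, Sheaf.hom_ext (NatTrans.ext (funext fun T => AddCommGrpCat.ext fun x => ?_))⟩
  show (π.hom.app (op T.unop)).hom (AffVan.rA I (pp (T := T.unop) x ≫ toCv _) s) = (f.hom.app (op T.unop)).hom x
  rw [nat_res, hsu, AffVan.rA_comp, Category.assoc, toCv_ofCv, Category.comp_id]
  exact (hval (T := T.unop) x).symm

end Groth.Agent.GaExt80
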