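import Groth.Agent.GaExt80.AlphaOne

/-!
# The first extension group of the kernel of Frobenius by the multiplicative group
-/

set_option autoImplicit false
set_option backward.isDefEq.respectTransparency.types false
set_option linter.style.haveILetI false

universe u

open CategoryTheory Limits AlgebraicGeometry Opposite
open Groth.Agent.Adeq2Lib Groth.Agent.DualNorm79 Groth.Agent.DualGm79
open scoped DualNumber
open TrivSqZeroExt

namespace Groth.Agent.GaExt80

variable {p : ℕ} [hp : Fact p.Prime] {R : Type u} [CommRing R] [hR : CharP R p]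
  {G : AffVan.AbT (Spec (CommRingCat.of R))}

section Def

variable {B B' : Type u} [CommRing B] [Algebra R B] [CommRing B'] [Algebra R B']

include hR in
/-- The defect of additivity. -/
noncomputable def dd (b c : B) (hb : b ^ p ^ 1 = 0) (hc : c ^ p ^ 1 = 0)
    (s : G.obj.obj (op (cv (bs R) (AlphaPn.A p 1 R)))) : G.obj.obj (op (cv (bs R) B)) :=
  atN (b + c) (add_pow_q (R := R) hb hc) s - atN b hb s - atN c hc s

theorem dd_congr {b b' c c' : B} (h : b = b') (h' : c = c') (hb : b ^ p ^ 1 = 0) (hc : c ^ p ^ 1 = 0)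
    (hb' : b' ^ p ^ 1 = 0) (hc' : c' ^ p ^ 1 = 0) (s : G.obj.obj (op (cv (bs R) (AlphaPn.A p 1 R)))) :
    dd b c hb hc s = dd b' c' hb' hc' s := by
  subst h h'
  rfl

theorem res_dd (φ : B →ₐ[R] B') (b c : B) (hb : b ^ p ^ 1 = 0) (hc : c ^ p ^ 1 = 0) (hb' : φ b ^ p ^ 1 = 0)
    (hc' : φ c ^ p ^ 1 = 0) (s : G.obj.obj (op (cv (bs R) (AlphaPn.A p 1 R)))) :
    AffVan.rA G (cvHom (bs R) φ) (dd b c hb hc s) = dd (φ b) (φ c) hb' hc' s := by
  rw [dd, dd, map_sub, map_sub, res_atN φ b hb s hb', res_atN φ c hc s hc',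
    res_atN φ (b + c) _ s (by rw [map_add]; exact add_pow_q (R := R) hb' hc')]
  congr 2
  exact atN_congr (map_add φ b c) _ _ s

theorem dd_cocycle (b c e : B) (hb : b ^ p ^ 1 = 0) (hc : c ^ p ^ 1 = 0) (he : e ^ p ^ 1 = 0)
    (s : G.obj.obj (op (cv (bs R) (AlphaPn.A p 1 R)))) :
    dd c e hc he s + dd b (c + e) hb (add_pow_q (R := R) hc he) s =
      dd (b + c) e (add_pow_q (R := R) hb hc) he s + dd b c hb hc s := by
  rw [dd, dd, dd, dd, atN_congr (add_assoc b c e) _ (add_pow_q (R := R) hb (add_pow_q (R := R) hc he)) s]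
  abel

theorem dd_zero_right {s : G.obj.obj (op (cv (bs R) (AlphaPn.A p 1 R)))} (b : B) (hb : b ^ p ^ 1 = 0)
    (h0 : ∀ (T : Type u) [CommRing T] [Algebra R T] (h : (0 : T) ^ p ^ 1 = 0), atN (0 : T) h s = 0)
    (h : (0 : B) ^ p ^ 1 = 0) : dd b 0 hb h s = 0 := by
  rw [dd, h0, sub_zero, atN_congr (add_zero b) _ hb s, sub_self]

theorem dd_zero_left {s : G.obj.obj (op (cv (bs R) (AlphaPn.A p 1 R)))} (b : B) (hb : b ^ p ^ 1 = 0)
    (h0 : ∀ (T : Type u) [CommRing T] [Algebra R T] (h : (0 : T) ^ p ^ 1 = 0), atN (0 : T) h s = 0)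
    (h : (0 : B) ^ p ^ 1 = 0) : dd 0 b h hb s = 0 := by
  rw [dd, h0, sub_zero, atN_congr (zero_add b) _ hb s, sub_self]

theorem gv_atN (b : B) (hb : b ^ p ^ 1 = 0)
    (m : (GmS (Spec (CommRingCat.of R))).obj.obj (op (cv (bs R) (AlphaPn.A p 1 R)))) :
    gv (atN b hb m) = AlphaPn.lift p 1 R b hb (gv m) :=
  gv_res (cvHom (bs R) (AlphaPn.lift p 1 R b hb)) (AlphaPn.lift p 1 R b hb).toRingHom rfl m

end Def

theorem mp' {B B' : Type u} [CommRing B] [Algebra R B] [CommRing B'] [Algebra R B'] (φ : B →ₐ[R] B') {b : B}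
    {m : ℕ} (hb : b ^ m = 0) : φ b ^ m = 0 := by
  rw [← map_pow, hb, map_zero]

theorem inl_pow_zero {B : Type u} [CommRing B] {b : B} {m : ℕ} (hb : b ^ m = 0) : (inl b : B[ε]) ^ m = 0 :=
  (TrivSqZeroExt.inl_pow b m).trans (by rw [hb]; exact inl_zero B)

theorem dual_key {B : Type u} [CommRing B] (g : B[ε]) (hg : g.fst = 1) (c F : B) :
    g * inl F * (1 + inl c * ε) = inl F + inl ((g.snd + c) * F) * ε := by
  refine TrivSqZeroExt.ext ?_ ?_
  · simp [hg]
  · simp [hg]
    ring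

theorem lift_mk {B : Type u} [CommRing B] [Algebra R B] (b : B) (hb : b ^ p ^ 1 = 0) (f : Polynomial R) :
    AlphaPn.lift p 1 R b hb (AlphaPn.mk p 1 R f) = Polynomial.aeval b f := by
  rw [← AlphaPn.aeval_x, ← Polynomial.aeval_algHom_apply, AlphaPn.lift_x]

theorem mk_eq_of_coeff {f g : Polynomial R} (h : ∀ j < p, f.coeff j = g.coeff j) :
    AlphaPn.mk p 1 R f = AlphaPn.mk p 1 R g := by
  rw [← sub_eq_zero, ← map_sub]
  obtain ⟨c, hc⟩ := Polynomial.X_pow_dvd_iff.2 (fun d (hd : d < p ^ 1) => by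
    rw [Polynomial.coeff_sub, h d (by simpa using hd), sub_self] : ∀ d < p ^ 1, (f - g).coeff d = 0)
  rw [hc, map_mul, map_pow, AlphaPn.mk_X, AlphaPn.x_pow, zero_mul]

variable {I Q : AffVan.AbT (Spec (CommRingCat.of R))} {jI : GmS (Spec (CommRingCat.of R)) ⟶ I} {π : I ⟶ Q}
  {w₀ : jI ≫ π = 0} (hE : (ShortComplex.mk jI π w₀).ShortExact)

include hE in
/-- Additive sections on the kernel of Frobenius lift to additive sections. -/
theorem exists_add_lift_one (hF : Function.Surjective (frobenius R p))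
    {u : Q.obj.obj (op (cv (bs R) (AlphaPn.A p 1 R)))} (hu : IsAddN u) :
    ∃ s, IsAddN s ∧ (π.hom.app (op (cv (bs R) (AlphaPn.A p 1 R)))).hom s = u := by
  haveI : Nontrivial R := CharP.nontrivial_of_char_ne_one hp.out.ne_one
  let N := AlphaPn.A p 1 R
  let x : N := AlphaPn.x p 1 R
  have hx : x ^ p ^ 1 = 0 := AlphaPn.x_pow p 1 R
  have hz : ∀ (B : Type u) [CommRing B], (0 : B) ^ p ^ 1 = 0 := fun B _ => zero_pow (pow_ne_zero 1 hp.out.ne_zero)
  let ρ : N →ₐ[R] R := AlphaPn.lift p 1 R 0 (hz R)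
  obtain ⟨z₀, hz₀⟩ := lift_of_nil hE (cvHom (bs R) ρ) ρ.toRingHom rfl
    (fun r => ⟨algebraMap R N r, ρ.commutes r⟩)
    (fun P => ⟨PrimeSpectrum.comap (algebraMap R N) P, PrimeSpectrum.ext (Ideal.ext fun z => by
      show algebraMap R N (ρ z) ∈ P.asIdeal ↔ z ∈ P.asIdeal
      rw [← Ideal.Quotient.eq_zero_iff_mem, ← Ideal.Quotient.eq_zero_iff_mem]
      have h : (Ideal.Quotient.mkₐ R P.asIdeal).comp ((Algebra.ofId R N).comp ρ) = Ideal.Quotient.mkₐ R P.asIdeal := by
        refine AlphaPn.algHom_ext ?_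
        simp only [AlgHom.comp_apply, Ideal.Quotient.mkₐ_eq_mk, Algebra.ofId_apply]
        rw [AlphaPn.lift_x, map_zero, map_zero, eq_comm, Ideal.Quotient.eq_zero_iff_mem]
        exact P.2.mem_of_pow_mem (p ^ 1) (by rw [AlphaPn.x_pow]; exact zero_mem _)
      exact Iff.of_eq (congrArg (· = 0) (AlgHom.congr_fun h z)))⟩)
    u ⟨0, by rw [map_zero]; exact (hu.zero R (hz R)).symm⟩
  let z := z₀ - atN (0 : N) (hz N) z₀
  have hπ : (π.hom.app (op (cv (bs R) N))).hom z = u := by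
    rw [map_sub, atN_nat, hz₀, hu.zero, sub_zero]
  have h0 : ∀ (T : Type u) [CommRing T] [Algebra R T] (h : (0 : T) ^ p ^ 1 = 0), atN (0 : T) h z = 0 := fun T _ _ h => by
    show atN (0 : T) h (z₀ - _) = 0
    rw [atN_sub, sub_eq_zero]
    conv_rhs => rw [atN]
    rw [res_atN _ (0 : N) _ z₀ (by rw [map_zero]; exact h)]
    exact (atN_congr (map_zero _) _ _ z₀).symm
  clear_value z
  have hddπ : ∀ (B : Type u) [CommRing B] [Algebra R B] (b c : B) (hb : b ^ p ^ 1 = 0) (hc : c ^ p ^ 1 = 0),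
      (π.hom.app (op (cv (bs R) B))).hom (dd b c hb hc z) = 0 := fun B _ _ b c hb hc => by
    rw [dd, map_sub, map_sub, atN_nat, atN_nat, atN_nat, hπ, hu B b c hb hc, add_sub_cancel_left, sub_self]
  let DN := N[ε]
  let xL : DN := inl x
  have hxL : xL ^ p ^ 1 = 0 := inl_pow_zero hx
  have hεq : (ε : DN) ^ p ^ 1 = 0 := pow_p_eq_zero (by rw [sq]; exact DualNumber.eps_mul_eps)
  obtain ⟨m, hm⟩ := exists_jI_eq hE (dd xL (ε : DN) hxL hεq z) (hddπ DN _ _ _ _)
  have hfst : (gv m).fst = 1 := by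
    let φ : DN →ₐ[R] N := TrivSqZeroExt.fstHom R N N
    have h : AffVan.rA (GmS _) (cvHom (bs R) φ) m = 0 := jI_injective hE _ (by
      rw [nat_res, hm, res_dd φ _ _ _ _ (mp' φ hxL) (mp' φ hεq),
        map_zero, dd_congr (show φ xL = x from rfl) (show φ ε = 0 from rfl) _ _ hx (hz N), dd_zero_right x hx h0])
    have h1 := congrArg gv h
    rw [gv_res (cvHom (bs R) φ) φ.toRingHom rfl, gv_zero] at h1
    exact h1
  let D : Polynomial R := AdjoinRoot.modByMonicHom (Polynomial.monic_X_pow (p ^ 1)) (gv m).snd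
  have hmkD : AlphaPn.mk p 1 R D = (gv m).snd := AdjoinRoot.mk_leftInverse (Polynomial.monic_X_pow (p ^ 1)) _
  have hD0 : D.coeff 0 = 0 := by
    let φ : DN →ₐ[R] R[ε] := DualNumber.lift ⟨((TrivSqZeroExt.inlAlgHom R R R).comp ρ, ε),
      DualNumber.eps_mul_eps, fun _ => Commute.all _ _⟩
    have hφx : φ xL = 0 := by
      show φ (inl x) = 0
      rw [DualNumber.lift_apply_inl]
      show (inlAlgHom R R R) (ρ x) = 0
      rw [show ρ x = 0 from AlphaPn.lift_x _ _, map_zero]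
    have h : AffVan.rA (GmS _) (cvHom (bs R) φ) m = 0 := jI_injective hE _ (by
      rw [nat_res, hm, res_dd φ _ _ _ _ (mp' φ hxL) (mp' φ hεq),
        map_zero, dd_congr (b' := 0) (c' := φ ε) hφx rfl _ _ (hz _) (mp' φ hεq),
        dd_zero_left _ _ h0])
    have h1 := congrArg gv h
    rw [gv_res (cvHom (bs R) φ) φ.toRingHom rfl, gv_zero] at h1
    have h2 : (φ (gv m)).snd = (1 : R[ε]).snd := congrArg TrivSqZeroExt.snd h1
    rw [DualNumber.lift_apply_apply] at h2
    simp at h2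
    rw [← hmkD, lift_mk, Polynomial.coe_aeval_eq_eval, ← Polynomial.coeff_zero_eq_eval_zero] at h2
    exact h2
  obtain ⟨f, hf0, hode⟩ := exists_ode p (CharP.cast_eq_zero R p) (fun e => hF e) D hD0
  let fN := AlphaPn.mk p 1 R f
  have hfu : IsUnit fN := by
    have h : IsNilpotent (fN - 1) := by
      obtain ⟨g, hg⟩ := Polynomial.X_dvd_iff.2 (show (f - 1).coeff 0 = 0 by simp [hf0])
      refine ⟨p ^ 1, ?_⟩
      rw [show fN - 1 = AlphaPn.mk p 1 R (f - 1) by rw [map_sub, map_one], hg, map_mul, AlphaPn.mk_X, mul_pow,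
        AlphaPn.x_pow, zero_mul]
    simpa using h.isUnit_one_add
  obtain ⟨mf, hmf⟩ := exists_gm (bs R) hfu
  have hgvf : ∀ (B : Type u) [CommRing B] [Algebra R B] (b : B) (hb : b ^ p ^ 1 = 0),
      gv (atN b hb mf) = Polynomial.aeval b f := fun B _ _ b hb => by rw [gv_atN, hmf, lift_mk]
  let z₁ := z - (jI.hom.app (op (cv (bs R) N))).hom mf
  have hπ₁ : (π.hom.app (op (cv (bs R) N))).hom z₁ = u := by rw [map_sub, π_jI hE, sub_zero, hπ]
  have h₁0 : ∀ (T : Type u) [CommRing T] [Algebra R T] (h : (0 : T) ^ p ^ 1 = 0), atN (0 : T) h z₁ = 0 := fun T _ _ h => by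
    rw [atN_sub, h0, ← atN_nat, show atN (0 : T) h mf = 0 from gv_ext (by
      rw [hgvf, gv_zero, ← Polynomial.coeff_zero_eq_aeval_zero', hf0, map_one]), map_zero, sub_zero]
  have hdd₁ : dd xL (ε : DN) hxL hεq z₁ = 0 := by
    have key : m + atN xL hxL mf + atN (ε : DN) hεq mf = atN (xL + ε) (add_pow_q (R := R) hxL hεq) mf := by
      refine gv_ext ?_
      rw [gv_add, gv_add, hgvf, hgvf, hgvf, Polynomial.aeval_add_of_sq_eq_zero f xL ε (by
        rw [sq]; exact DualNumber.eps_mul_eps)]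
      have hi : ∀ q : Polynomial R, Polynomial.aeval xL q = inl (AlphaPn.mk p 1 R q) := fun q => by
        rw [← AlphaPn.aeval_x]
        exact Polynomial.aeval_algHom_apply (TrivSqZeroExt.inlAlgHom R N N) x q
      have he : Polynomial.aeval (ε : DN) f = 1 + algebraMap R DN (f.coeff 1) * ε := by
        have h := Polynomial.aeval_add_of_sq_eq_zero f 0 (ε : DN) (by rw [sq]; exact DualNumber.eps_mul_eps)
        rw [zero_add, ← Polynomial.coeff_zero_eq_aeval_zero', ← Polynomial.coeff_zero_eq_aeval_zero', hf0, map_one,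
          Polynomial.coeff_derivative] at h
        simpa using h
      have hd : AlphaPn.mk p 1 R f.derivative = ((gv m).snd + algebraMap R N (f.coeff 1)) * fN := by
        rw [mk_eq_of_coeff hode, map_mul, map_add, hmkD]
        exact congrArg (fun c => ((gv m).snd + c) * fN) ((AlphaPn.mk p 1 R).commutes _)
      rw [hi, hi, he, hd]
      exact dual_key (gv m) hfst (algebraMap R N (f.coeff 1)) fN
    rw [dd, atN_sub, atN_sub, atN_sub, ← atN_nat, ← atN_nat, ← atN_nat, ← key, map_add, map_add, hm, dd]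
    abel
  have hε : ∀ (B : Type u) [CommRing B] [Algebra R B] (t : B) (ht : (inl t : B[ε]) ^ p ^ 1 = 0)
      (he : (ε : B[ε]) ^ p ^ 1 = 0), dd (inl t : B[ε]) ε ht he z₁ = 0 := fun B _ _ t ht he => by
    have ht' : t ^ p ^ 1 = 0 := by
      have := congrArg TrivSqZeroExt.fst ht
      simpa using this
    let φ : DN →ₐ[R] B[ε] := DualNumber.lift ⟨((TrivSqZeroExt.inlAlgHom R B B).comp (AlphaPn.lift p 1 R t ht'), ε),
      DualNumber.eps_mul_eps, fun _ => Commute.all _ _⟩
    have e1 : φ xL = inl t := by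
      show φ (inl x) = inl t
      rw [DualNumber.lift_apply_inl]
      show (inlAlgHom R B B) (AlphaPn.lift p 1 R t ht' x) = inl t
      rw [show AlphaPn.lift p 1 R t ht' x = t from AlphaPn.lift_x _ _]
      rfl
    have e2 : φ ε = ε := DualNumber.lift_apply_eps _
    have h := congrArg (AffVan.rA I (cvHom (bs R) φ)) hdd₁
    rw [res_dd φ _ _ _ _ (by rw [e1]; exact ht) (by rw [e2]; exact he), map_zero,
      dd_congr e1 e2 _ _ ht he] at h
    exact h
  clear_value z₁
  let T₂ := AdjoinRoot (Polynomial.X ^ p ^ 1 : Polynomial N)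
  let x₀ : T₂ := algebraMap N T₂ x
  let y : T₂ := AdjoinRoot.root _
  have hx₀ : x₀ ^ p ^ 1 = 0 := by rw [← map_pow, hx, map_zero]
  have hy : y ^ p ^ 1 = 0 := by
    have := AdjoinRoot.eval₂_root (Polynomial.X ^ p ^ 1 : Polynomial N)
    simpa using this
  obtain ⟨m₂, hm₂⟩ := exists_jI_eq hE (dd x₀ y hx₀ hy z₁) (by
    rw [dd, map_sub, map_sub, atN_nat, atN_nat, atN_nat, hπ₁, hu T₂ x₀ y hx₀ hy, add_sub_cancel_left, sub_self])
  have hh : gv m₂ = 1 := by
    let TD := T₂[ε]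
    have het : (ε : TD) ^ p ^ 1 = 0 := pow_p_eq_zero (by rw [sq]; exact DualNumber.eps_mul_eps)
    have hyT : (inl y : TD) ^ p ^ 1 = 0 := inl_pow_zero hy
    have hxT : (inl x₀ : TD) ^ p ^ 1 = 0 := inl_pow_zero hx₀
    let Φ₀ : T₂ →ₐ[N] TD := AdjoinRoot.liftAlgHom _ (Algebra.ofId N TD) (inl y + ε) (by
      rw [Polynomial.eval₂_X_pow]
      exact add_pow_q (R := R) hyT het)
    let Φ : T₂ →ₐ[R] TD := Φ₀.restrictScalars R
    let ι₂ : T₂ →ₐ[N] TD := TrivSqZeroExt.inlAlgHom N T₂ T₂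
    let Ψ : T₂ →ₐ[R] TD := ι₂.restrictScalars R
    have eΦx : Φ x₀ = inl x₀ := Φ₀.commutes x
    have eΦy : Φ y = inl y + ε := by
      show Φ₀ (AdjoinRoot.root _) = _
      refine AdjoinRoot.lift_root ?_
      rw [Polynomial.eval₂_X_pow]
      exact add_pow_q (R := R) hyT het
    have hc := dd_cocycle (s := z₁) (inl x₀ : TD) (inl y) ε hxT hyT het
    rw [hε T₂ y hyT het, zero_add, dd_congr (b' := (inl (x₀ + y) : TD)) (c' := (ε : TD)) (inl_add T₂ x₀ y).symm rfl _ _
      (by rw [inl_add]; exact add_pow_q (R := R) hxT hyT) het, hε, zero_add] at hc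
    have heq : gv (AffVan.rA (GmS _) (cvHom (bs R) Φ) m₂) = gv (AffVan.rA (GmS _) (cvHom (bs R) Ψ) m₂) := by
      refine congrArg gv (jI_injective hE _ ?_)
      rw [nat_res, nat_res, hm₂, res_dd Φ _ _ _ _ (by rw [eΦx]; exact hxT) (by rw [eΦy]; exact add_pow_q (R := R) hyT het),
        res_dd Ψ _ _ _ _ hxT hyT, dd_congr eΦx eΦy _ _ hxT (add_pow_q (R := R) hyT het)]
      exact hc
    rw [gv_res (cvHom (bs R) Φ) Φ.toRingHom rfl, gv_res (cvHom (bs R) Ψ) Ψ.toRingHom rfl] at heq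
    haveI : Nontrivial N := RingHom.domain_nontrivial ρ.toRingHom
    have hmon : (Polynomial.X ^ p ^ 1 : Polynomial N).Monic := Polynomial.monic_X_pow _
    let H : Polynomial N := AdjoinRoot.modByMonicHom hmon (gv m₂)
    have hH : Polynomial.aeval y H = gv m₂ := (AdjoinRoot.aeval_eq H).trans (AdjoinRoot.mk_leftInverse hmon _)
    have hdeg : ∀ j, p ^ 1 ≤ j → H.coeff j = 0 := fun j hj => by
      obtain ⟨q, hq⟩ := AdjoinRoot.mk_surjective (gv m₂)
      rw [show H = q %ₘ (Polynomial.X ^ p ^ 1) by simp only [H, ← hq, AdjoinRoot.modByMonicHom_mk]]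
      refine Polynomial.coeff_eq_zero_of_natDegree_lt (lt_of_lt_of_le ?_ hj)
      refine lt_of_lt_of_eq (Polynomial.natDegree_modByMonic_lt q hmon ?_) (Polynomial.natDegree_X_pow _)
      intro h
      have := congrArg Polynomial.natDegree h
      simp [hp.out.ne_zero] at this
    have hder : Polynomial.aeval y H.derivative = 0 := by
      have h1 : Φ₀ (Polynomial.aeval y H) = ι₂ (Polynomial.aeval y H) := by rw [hH]; exact heq
      rw [← Polynomial.aeval_algHom_apply, ← Polynomial.aeval_algHom_apply,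
        show Φ₀ y = ι₂ y + ε from eΦy, Polynomial.aeval_add_of_sq_eq_zero H _ _ (by
          rw [sq]; exact DualNumber.eps_mul_eps), add_eq_left, Polynomial.aeval_algHom_apply] at h1
      have h2 := congrArg TrivSqZeroExt.snd (show
        (inl (Polynomial.aeval y H.derivative) : T₂[ε]) * ε = 0 from h1)
      simpa using h2
    have hder' : H.derivative = 0 := by
      rw [AdjoinRoot.aeval_eq, AdjoinRoot.mk_eq_zero, Polynomial.X_pow_dvd_iff] at hder
      refine Polynomial.ext fun j => ?_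
      rw [Polynomial.coeff_zero]
      by_cases hj : j < p ^ 1
      · exact hder j hj
      · rw [Polynomial.coeff_derivative, hdeg (j + 1) (by omega), zero_mul]
    have hHC : H = Polynomial.C (H.coeff 0) := Polynomial.ext fun j => by
      rw [Polynomial.coeff_C]
      split_ifs with hj
      · rw [hj]
      · obtain ⟨i, rfl⟩ : ∃ i, j = i + 1 := ⟨j - 1, by omega⟩
        by_cases hi : i + 1 < p ^ 1
        · have h := congrArg (fun q : Polynomial N => q.coeff i) hder'
          simp only [Polynomial.coeff_derivative, Polynomial.coeff_zero] at h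
          rw [← Nat.cast_add_one] at h
          have hu' : IsUnit ((i + 1 : ℕ) : N) := by
            have h' := GaDual80.isUnit_fac (p := p) (R := N) (CharP.cast_eq_zero N p)
              (show i + 1 < p by simpa using hi)
            rw [Nat.factorial_succ, Nat.cast_mul] at h'
            exact (IsUnit.mul_iff.1 h').1
          exact hu'.mul_left_eq_zero.1 h
        · exact hdeg _ (by omega)
    let ψ₀ : T₂ →ₐ[N] N := AdjoinRoot.liftAlgHom _ (AlgHom.id N N) 0 (by
      rw [Polynomial.eval₂_X_pow]; exact hz N)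
    let ψ : T₂ →ₐ[R] N := ψ₀.restrictScalars R
    have eψy : ψ y = 0 := by
      show ψ₀ (AdjoinRoot.root _) = _
      refine AdjoinRoot.lift_root ?_
      rw [Polynomial.eval₂_X_pow]
      exact hz N
    have hψ : AffVan.rA (GmS _) (cvHom (bs R) ψ) m₂ = 0 := jI_injective hE _ (by
      rw [nat_res, hm₂, res_dd ψ _ _ _ _ (mp' ψ hx₀) (mp' ψ hy), map_zero,
        dd_congr (show ψ x₀ = x from ψ₀.commutes x) eψy _ _ hx (hz N),
        dd_zero_right x hx h₁0])
    have h3 := congrArg gv hψ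
    rw [gv_res (cvHom (bs R) ψ) ψ.toRingHom rfl, gv_zero] at h3
    have h4 : ψ₀ (Polynomial.aeval y H) = 1 := by rw [hH]; exact h3
    rw [hHC, Polynomial.aeval_C, AlgHom.commutes] at h4
    rw [← hH, hHC, Polynomial.aeval_C]
    exact (congrArg (algebraMap N T₂) h4).trans (map_one _)
  have hdd : dd x₀ y hx₀ hy z₁ = 0 := by
    rw [← hm₂, show m₂ = 0 from gv_ext (hh.trans gv_zero.symm), map_zero]
  refine ⟨z₁, fun B _ _ b c hb hc => ?_, hπ₁⟩
  let L := AlphaPn.lift p 1 R b hb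
  let ω : T₂ →ₐ[R] B := AdjoinRoot.liftAlgHom _ L c (by rw [Polynomial.eval₂_X_pow]; exact hc)
  have e1 : ω x₀ = b := (AdjoinRoot.liftAlgHom_of _ _ _ _ x).trans (AlphaPn.lift_x _ _)
  have e2 : ω y = c := AdjoinRoot.liftAlgHom_root _ _ _ _
  have h := congrArg (AffVan.rA I (cvHom (bs R) ω)) hdd
  rw [res_dd ω _ _ _ _ (by rw [e1]; exact hb) (by rw [e2]; exact hc), map_zero, dd_congr e1 e2 _ _ hb hc, dd] at h
  rwa [sub_sub, sub_eq_zero] at h

/-- Homomorphisms out of the kernel of Frobenius lift. -/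
theorem liftP_alpha_one (hF : Function.Surjective (frobenius R p)) : LiftP (αS p R 1) :=
  fun _ π _ hE _ f => exists_lift_hom_alpha π f fun _ hu => exists_add_lift_one hE hF hu

end Groth.Agent.GaExt80
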