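import Groth.Agent.GaExt80.AlphaHom
import Groth.Agent.GaDual80.BidualP
import Mathlib.Algebra.DualNumber
import Mathlib.Algebra.Polynomial.Taylor

/-!
# Additive sections on the kernel of Frobenius lift
-/

set_option autoImplicit false
set_option backward.isDefEq.respectTransparency.types false
set_option linter.style.haveILetI false

universe u

open CategoryTheory Limits AlgebraicGeometry Opposite TensorProduct
open Groth.Agent.Adeq2Lib Groth.Agent.DualNorm79 Groth.Agent.DualGm79
open scoped DualNumber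
open Finset.HasAntidiagonal (antidiagonal)

namespace Groth.Agent.GaExt80

section Truncated

variable (p : ℕ) [hp : Fact p.Prime] {B : Type u} [CommRing B]

/-- The truncated exponential differential equation has a solution once a scalar is a `p`-th power. -/
theorem exists_ode (hB : (p : B) = 0) (hroot : ∀ e : B, ∃ b, b ^ p = e) (D : Polynomial B) (hD : D.coeff 0 = 0) :
    ∃ f : Polynomial B, f.coeff 0 = 1 ∧ ∀ j < p,
      f.derivative.coeff j = ((D + Polynomial.C (f.coeff 1)) * f).coeff j := by
  classical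
  let c : ℕ → B := fun m => Nat.rec (fun _ => (1 : B))
    (fun j prev => Function.update prev (j + 1)
      (Ring.inverse ((j + 1 : ℕ) : B) * ∑ x ∈ antidiagonal j, D.coeff x.1 * prev x.2)) m m
  have hstab : ∀ m k, k ≤ m → (Nat.rec (fun _ => (1 : B)) (fun j prev => Function.update prev (j + 1)
      (Ring.inverse ((j + 1 : ℕ) : B) * ∑ x ∈ antidiagonal j, D.coeff x.1 * prev x.2)) m : ℕ → B) k = c k := by
    intro m
    induction m with
    | zero => intro k hk; obtain rfl := Nat.le_zero.1 hk; rfl
    | succ m ih =>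
      intro k hk
      rcases eq_or_lt_of_le hk with rfl | hk'
      · rfl
      · rw [← ih k (by omega)]
        exact Function.update_of_ne (by omega) _ _
  have hc : ∀ j, c (j + 1) = Ring.inverse ((j + 1 : ℕ) : B) * ∑ x ∈ antidiagonal j, D.coeff x.1 * c x.2 := by
    intro j
    refine (Function.update_self (β := fun _ => B) _ _ _).trans ?_
    refine congrArg _ (Finset.sum_congr rfl fun x hx => ?_)
    rw [hstab j x.2 (by have := Finset.HasAntidiagonal.mem_antidiagonal.1 hx; omega)]
  let f₀ : Polynomial B := ∑ i ∈ Finset.range p, Polynomial.C (c i) * Polynomial.X ^ i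
  have hf₀ : ∀ i, f₀.coeff i = if i < p then c i else 0 := fun i => by
    simp [f₀, Polynomial.finset_sum_coeff, Polynomial.coeff_C_mul, Polynomial.coeff_X_pow]
  have hu : ∀ j, j + 1 < p → IsUnit ((j + 1 : ℕ) : B) := fun j hj => by
    have h := GaDual80.isUnit_fac (p := p) hB hj
    rw [Nat.factorial_succ, Nat.cast_mul] at h
    exact (IsUnit.mul_iff.1 h).1
  have hsum : ∀ j < p, (D * f₀).coeff j = ∑ x ∈ antidiagonal j, D.coeff x.1 * c x.2 := fun j hj => by
    rw [Polynomial.coeff_mul]
    refine Finset.sum_congr rfl fun x hx => ?_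
    rw [hf₀, if_pos (by have := Finset.HasAntidiagonal.mem_antidiagonal.1 hx; omega)]
  have hrec : ∀ j, j + 1 < p → f₀.derivative.coeff j = (D * f₀).coeff j := fun j hj => by
    rw [Polynomial.coeff_derivative, hf₀, if_pos hj, hsum j (by omega), hc j, mul_comm, ← mul_assoc,
      ← Nat.cast_add_one, Ring.mul_inverse_cancel _ (hu j hj), one_mul]
  have h0 : f₀.coeff 0 = 1 := by rw [hf₀, if_pos hp.out.pos]; rfl
  have h1 : f₀.coeff 1 = 0 := by
    rw [hf₀, if_pos hp.out.one_lt, show c 1 = c (0 + 1) from rfl, hc 0, Finset.Nat.antidiagonal_zero,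
      Finset.sum_singleton, hD, zero_mul, mul_zero]
  obtain ⟨b, hb⟩ := hroot ((D * f₀).coeff (p - 1))
  let E : Polynomial B := GaDual80.ex p (Polynomial.C b * Polynomial.X)
  have hE : ∀ i, E.coeff i = if i < p then Ring.inverse (i.factorial : B) * b ^ i else 0 := fun i => by
    have key : ∀ j ∈ Finset.range p, (Ring.inverse (j.factorial : Polynomial B) *
        (Polynomial.C b * Polynomial.X) ^ j).coeff i = if i = j then Ring.inverse (j.factorial : B) * b ^ j else 0 :=
      fun j hj => by
        rw [mul_pow, ← map_natCast (Polynomial.C : B →+* Polynomial B),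
          ← GaDual80.map_inverse _ (GaDual80.isUnit_fac hB (Finset.mem_range.1 hj)), ← map_pow, ← mul_assoc, ← map_mul,
          Polynomial.coeff_C_mul, Polynomial.coeff_X_pow, mul_ite, mul_one, mul_zero]
    rw [show E = ∑ j ∈ Finset.range p, Ring.inverse (j.factorial : Polynomial B) *
      (Polynomial.C b * Polynomial.X) ^ j from rfl, Polynomial.finset_sum_coeff, Finset.sum_congr rfl key,
      Finset.sum_ite_eq]
    simp
  have hEd : ∀ j, j + 1 < p → E.derivative.coeff j = b * E.coeff j := fun j hj => by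
    rw [Polynomial.coeff_derivative, hE, hE, if_pos hj, if_pos (by omega), ← Nat.cast_add_one]
    have h2 := Ring.mul_inverse_cancel _ (GaDual80.isUnit_fac (p := p) hB hj)
    have h3 := Ring.inverse_mul_cancel _ (GaDual80.isUnit_fac (p := p) hB (show j < p by omega))
    rw [Nat.factorial_succ, Nat.cast_mul] at h2 ⊢
    linear_combination (Ring.inverse (j.factorial : B) * b ^ (j + 1)) * h2 -
      (Ring.inverse (((j + 1 : ℕ) : B) * (j.factorial : B)) * ((j + 1 : ℕ) : B) * b ^ (j + 1)) * h3
  have hE0 : E.coeff 0 = 1 := by simp [hE, hp.out.pos]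
  have hE1 : E.coeff 1 = b := by simp [hE, hp.out.one_lt]
  have hcoef1 : (E * f₀).coeff 1 = b := by
    simp [Polynomial.coeff_mul, Finset.Nat.antidiagonal_succ, hE0, hE1, h0, h1]
  refine ⟨E * f₀, by rw [Polynomial.mul_coeff_zero, hE0, h0, mul_one], fun j hj => ?_⟩
  rw [hcoef1, Polynomial.derivative_mul]
  have hmul : ∀ (P Q Q' : Polynomial B), (∀ i ≤ j, Q.coeff i = Q'.coeff i) → (P * Q).coeff j = (P * Q').coeff j :=
    fun P Q Q' h => by
      rw [Polynomial.coeff_mul, Polynomial.coeff_mul]
      refine Finset.sum_congr rfl fun x hx => ?_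
      rw [h x.2 (by have := Finset.HasAntidiagonal.mem_antidiagonal.1 hx; omega)]
  have hd₀ : ∀ i ≤ j, f₀.derivative.coeff i =
      (D * f₀ - Polynomial.C (b ^ p) * Polynomial.X ^ (p - 1)).coeff i := fun i hi => by
    rw [Polynomial.coeff_sub, Polynomial.coeff_C_mul, Polynomial.coeff_X_pow]
    by_cases h : i + 1 < p
    · rw [if_neg (by omega), mul_zero, sub_zero, hrec i h]
    · rw [if_pos (by omega), mul_one, Polynomial.coeff_derivative, hf₀, if_neg (by omega), zero_mul, hb,
        show i = p - 1 by omega, sub_self]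
  have hdE : ∀ i ≤ j, E.derivative.coeff i =
      (Polynomial.C b * E + Polynomial.C (b ^ p) * Polynomial.X ^ (p - 1)).coeff i := fun i hi => by
    rw [Polynomial.coeff_add, Polynomial.coeff_C_mul, Polynomial.coeff_C_mul, Polynomial.coeff_X_pow]
    by_cases h : i + 1 < p
    · rw [if_neg (by omega), mul_zero, add_zero, hEd i h]
    · rw [if_pos (by omega), mul_one, Polynomial.coeff_derivative, hE, hE, if_neg (by omega), if_pos (by omega),
        zero_mul, show i = p - 1 by omega, GaDual80.fac_pred hB, show (-1 : B) = ((-1 : Bˣ) : B) from rfl,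
        Ring.inverse_unit]
      conv_rhs => arg 2; rw [show p = (p - 1) + 1 by have := hp.out.pos; omega, pow_succ]
      simp
      ring
  rw [Polynomial.coeff_add, hmul E f₀.derivative _ hd₀, mul_comm E.derivative f₀, hmul f₀ E.derivative _ hdE,
    mul_sub, mul_add, Polynomial.coeff_sub, Polynomial.coeff_add]
  have key : ∀ P : Polynomial B, P.coeff 0 = 1 →
      (P * (Polynomial.C (b ^ p) * Polynomial.X ^ (p - 1))).coeff j = if j = p - 1 then b ^ p else 0 := fun P hP => by
    rw [← mul_assoc, Polynomial.coeff_mul_X_pow']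
    by_cases h : p - 1 ≤ j
    · rw [if_pos h, if_pos (by omega), show j - (p - 1) = 0 by omega, Polynomial.mul_coeff_zero, hP,
        Polynomial.coeff_C_zero, one_mul]
    · rw [if_neg h, if_neg (by omega)]
  rw [key E hE0, key f₀ h0, show (D + Polynomial.C b) * (E * f₀) = E * (D * f₀) + f₀ * (Polynomial.C b * E) by ring,
    Polynomial.coeff_add]
  ring

end Truncated

variable {p : ℕ} [hp : Fact p.Prime] {R : Type u} [CommRing R] [hR : CharP R p]

include hp in
theorem pow_p_eq_zero {B : Type u} [CommRing B] {x : B} (hx : x ^ 2 = 0) : x ^ p ^ 1 = 0 :=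
  pow_eq_zero_of_le (by rw [pow_one]; exact hp.out.two_le) hx

variable {I Q : AffVan.AbT (Spec (CommRingCat.of R))} {jI : GmS (Spec (CommRingCat.of R)) ⟶ I} {π : I ⟶ Q}
  {w₀ : jI ≫ π = 0} (hE : (ShortComplex.mk jI π w₀).ShortExact)

include hE in
/-- A section lifts if its restriction along a nil surjection lifts. -/
theorem lift_of_nil {A A' : Type u} [CommRing A] [CommRing A'] {a : Spec (CommRingCat.of A) ⟶ Spec (CommRingCat.of R)}
    {a' : Spec (CommRingCat.of A') ⟶ Spec (CommRingCat.of R)} (m : Over.mk a' ⟶ Over.mk a) (ρ : A →+* A')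
    (hm : m.left = Spec.map (CommRingCat.ofHom ρ)) (hρ : Function.Surjective ρ)
    (hρ' : Function.Surjective (PrimeSpectrum.comap ρ)) (u : Q.obj.obj (op (Over.mk a)))
    (hu : ∃ z, (π.hom.app (op (Over.mk a'))).hom z = AffVan.rA Q m u) :
    ∃ z, (π.hom.app (op (Over.mk a))).hom z = u := by
  obtain ⟨B, iB, iA, hff, hlfp, t, ht⟩ := exists_locLift a hE u
  obtain ⟨z₀, hz₀⟩ := hu
  letI := ρ.toAlgebra
  let B' := A' ⊗[A] B
  let ψ : B →+* B' := (Algebra.TensorProduct.includeRight : B →ₐ[A] A' ⊗[A] B).toRingHom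
  have hψ : ∀ c, ψ (algebraMap A B c) = algebraMap A' B' (ρ c) := fun c =>
    ((Algebra.TensorProduct.includeRight : B →ₐ[A] A' ⊗[A] B).commutes c)
  let c : cv a' B' ⟶ cv a B := Over.homMk (Spec.map (CommRingCat.ofHom ψ)) (by
    show _ ≫ _ ≫ a = _ ≫ a'
    have hw : m.left ≫ a = a' := Over.w m
    rw [← hw, hm, ← Category.assoc, ← Category.assoc, ← Spec.map_comp, ← Spec.map_comp]
    exact congrArg (fun w => Spec.map w ≫ a) (CommRingCat.hom_ext (RingHom.ext hψ)))
  obtain ⟨ht', hw'⟩ := coc_nat hE ρ ψ hψ m hm c rfl ht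
  refine lift_of_cob hE ht (Cob.descend ρ ψ hψ (isUnit_coc hE ht) (isCoc_coc hE ht) hρ hρ' ?_)
  rw [← hw']
  exact cob_of_lift hE ht' hz₀

end Groth.Agent.GaExt80
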