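import Groth.Agent.GaExt80.Tower
import Groth.Agent.SekSuwaLib.Points
import Groth.Agent.GrpSchLib.AffineHopf
import Groth.Prelude.Def_AlphaPn

/-!
# Points of the kernels of the iterated Frobenius
-/

set_option autoImplicit false
set_option backward.isDefEq.respectTransparency.types false
set_option linter.style.haveILetI false

universe u

open CategoryTheory Limits AlgebraicGeometry Opposite TensorProduct MonObj
open Groth.Agent.Adeq2Lib Groth.Agent.DualNorm79 Groth.Agent.DualGm79
open Groth.Agent.GrpSchLib.AffineHopf (sp spMap spMap_mul)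
open Groth.Agent.SekSuwaLib (ptRingHom ptRingHom_injective ptRingHom_algebraMap strHom)

namespace Groth.Agent.GaExt80

open GaDual80 (GaS afn afn_ext afn_add afn_res ofA afn_ofA)

variable (p : ℕ) [hp : Fact p.Prime] (R : Type u) [CommRing R] [hR : CharP R p] (n : ℕ)

/-- The kernel of the iterated Frobenius, as a sheaf. -/
noncomputable abbrev αS : AffVan.AbT (Spec (CommRingCat.of R)) :=
  CGrpSh.pts Scheme.fppfPrecoverage (sp R (AlphaPn.A p n R))

/-- The coordinate, as a section of the additive group. -/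
noncomputable def xi : (GaS (Spec (CommRingCat.of R))).obj.obj (op (sp R (AlphaPn.A p n R))) :=
  ofA (T := sp R (AlphaPn.A p n R)) ((Scheme.ΓSpecIso (CommRingCat.of (AlphaPn.A p n R))).inv (AlphaPn.x p n R))

variable {p R n}

/-- The point underlying a section. -/
noncomputable abbrev pp {T : Over (Spec (CommRingCat.of R))} (f : (αS p R n).obj.obj (op T)) :
    T ⟶ sp R (AlphaPn.A p n R) := Additive.toMul f.down

/-- The value of the coordinate at a point. -/
noncomputable def coo {T : Over (Spec (CommRingCat.of R))} (f : T ⟶ sp R (AlphaPn.A p n R)) : Γ(T.left, ⊤) :=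
  ptRingHom f (AlphaPn.x p n R)

theorem coo_comp {T T' : Over (Spec (CommRingCat.of R))} (m : T' ⟶ T) (f : T ⟶ sp R (AlphaPn.A p n R)) :
    coo (m ≫ f) = m.left.appTop (coo f) := by
  show (m ≫ f).left.appTop _ = _
  rw [Over.comp_left, Scheme.Hom.comp_appTop]
  rfl

omit hp hR in
theorem coo_injective {T : Over (Spec (CommRingCat.of R))} {f g : T ⟶ sp R (AlphaPn.A p n R)} (h : coo f = coo g) :
    f = g := by
  refine ptRingHom_injective (RingHom.ext fun z => ?_)
  obtain ⟨P, rfl⟩ := AlphaPn.mk_surjective p n R z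
  have hC : ∀ c, AlphaPn.mk p n R (Polynomial.C c) = algebraMap R (AlphaPn.A p n R) c := fun c =>
    (AlphaPn.mk p n R).commutes c
  induction P using Polynomial.induction_on' with
  | add P Q hP hQ => rw [map_add, map_add, map_add, hP, hQ]
  | monomial k c =>
    rw [← Polynomial.C_mul_X_pow_eq_monomial, map_mul, map_pow, AlphaPn.mk_X, hC, map_mul, map_mul, map_pow, map_pow,
      ptRingHom_algebraMap, ptRingHom_algebraMap]
    exact congrArg (fun t => strHom T c * t ^ k) h

theorem coo_pow {T : Over (Spec (CommRingCat.of R))} (f : T ⟶ sp R (AlphaPn.A p n R)) : coo f ^ p ^ n = 0 := by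
  rw [coo, ← map_pow, AlphaPn.x_pow, map_zero]

/-- Every nilpotent function of the right order is the coordinate of a point. -/
theorem exists_coo {T : Over (Spec (CommRingCat.of R))} (v : Γ(T.left, ⊤)) (hv : v ^ p ^ n = 0) :
    ∃ f : T ⟶ sp R (AlphaPn.A p n R), coo f = v := by
  letI := SekSuwaLib.algΓ T
  refine ⟨SekSuwaLib.ofRingHom (AlphaPn.lift p n R v hv).toRingHom fun r => (AlphaPn.lift p n R v hv).commutes r, ?_⟩
  rw [coo, SekSuwaLib.ptRingHom_ofRingHom]
  exact AlphaPn.lift_x v hv

/-- The universal pair of points. -/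
noncomputable def pairA {T : Over (Spec (CommRingCat.of R))} (f g : T ⟶ sp R (AlphaPn.A p n R)) :
    T ⟶ sp R (AlphaPn.A p n R ⊗[R] AlphaPn.A p n R) :=
  letI := SekSuwaLib.algΓ T
  SekSuwaLib.ofRingHom (Algebra.TensorProduct.productMap
    ({ ptRingHom f with commutes' := ptRingHom_algebraMap f } : AlphaPn.A p n R →ₐ[R] Γ(T.left, ⊤))
    ({ ptRingHom g with commutes' := ptRingHom_algebraMap g } : AlphaPn.A p n R →ₐ[R] Γ(T.left, ⊤))).toRingHom
    fun r => AlgHom.commutes _ r

omit hp hR in
theorem pairA_fst {T : Over (Spec (CommRingCat.of R))} (f g : T ⟶ sp R (AlphaPn.A p n R)) :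
    pairA f g ≫ spMap (Algebra.TensorProduct.includeLeft : AlphaPn.A p n R →ₐ[R] AlphaPn.A p n R ⊗[R] AlphaPn.A p n R) =
      f := by
  refine ptRingHom_injective (RingHom.ext fun z => ?_)
  rw [SekSuwaLib.ptRingHom_comp _ _ (Algebra.TensorProduct.includeLeft :
    AlphaPn.A p n R →ₐ[R] AlphaPn.A p n R ⊗[R] AlphaPn.A p n R).toRingHom rfl, pairA,
    SekSuwaLib.ptRingHom_ofRingHom]
  simp

omit hp hR in
theorem pairA_snd {T : Over (Spec (CommRingCat.of R))} (f g : T ⟶ sp R (AlphaPn.A p n R)) :
    pairA f g ≫ spMap (Algebra.TensorProduct.includeRight : AlphaPn.A p n R →ₐ[R] AlphaPn.A p n R ⊗[R] AlphaPn.A p n R) =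
      g := by
  refine ptRingHom_injective (RingHom.ext fun z => ?_)
  rw [SekSuwaLib.ptRingHom_comp _ _ (Algebra.TensorProduct.includeRight :
    AlphaPn.A p n R →ₐ[R] AlphaPn.A p n R ⊗[R] AlphaPn.A p n R).toRingHom rfl, pairA,
    SekSuwaLib.ptRingHom_ofRingHom]
  simp

theorem coo_mul {T : Over (Spec (CommRingCat.of R))} (f g : T ⟶ sp R (AlphaPn.A p n R)) :
    coo (f * g) = coo f + coo g := by
  let iL : AlphaPn.A p n R →ₐ[R] AlphaPn.A p n R ⊗[R] AlphaPn.A p n R := Algebra.TensorProduct.includeLeft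
  let iR : AlphaPn.A p n R →ₐ[R] AlphaPn.A p n R ⊗[R] AlphaPn.A p n R := Algebra.TensorProduct.includeRight
  have h : (WithConv.toConv iL * WithConv.toConv iR).ofConv (AlphaPn.x p n R) =
      iL (AlphaPn.x p n R) + iR (AlphaPn.x p n R) := by
    rw [AlgHom.convMul_apply, AlphaPn.comul_x]
    simp [iL, iR]
  rw [show f * g = pairA f g ≫ (spMap iL * spMap iR) by rw [MonObj.comp_mul, pairA_fst, pairA_snd], spMap_mul]
  rw [coo, SekSuwaLib.ptRingHom_comp _ _ (WithConv.toConv iL * WithConv.toConv iR).ofConv.toRingHom rfl]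
  show ptRingHom (pairA f g) ((WithConv.toConv iL * WithConv.toConv iR).ofConv (AlphaPn.x p n R)) = _
  rw [h, map_add]
  congr 1
  · exact ((congrArg (fun e => ptRingHom e (AlphaPn.x p n R)) (pairA_fst f g).symm).trans
      (SekSuwaLib.ptRingHom_comp _ _ iL.toRingHom rfl _)).symm
  · exact ((congrArg (fun e => ptRingHom e (AlphaPn.x p n R)) (pairA_snd f g).symm).trans
      (SekSuwaLib.ptRingHom_comp _ _ iR.toRingHom rfl _)).symm

variable (p R n) in
/-- The inclusion into the additive group. -/
noncomputable def kap : αS p R n ⟶ GaS (Spec (CommRingCat.of R)) :=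
  ⟨{ app := fun T => AddCommGrpCat.ofHom (X := (αS p R n).obj.obj T) (Y := (GaS (Spec (CommRingCat.of R))).obj.obj T)
        (AddMonoidHom.mk' (fun f => ofA (T := T.unop) (coo (pp (T := T.unop) f))) fun f g =>
          afn_ext (T := T.unop) (by
            rw [afn_ofA, afn_add, afn_ofA, afn_ofA]
            exact coo_mul (pp (T := T.unop) f) (pp (T := T.unop) g)))
     naturality := fun T T' m => AddCommGrpCat.ext fun f => afn_ext (T := T'.unop) (by
        show afn (ofA (coo (m.unop ≫ pp (T := T.unop) f))) = afn (AffVan.rA (GaS _) m.unop (ofA (coo (pp f))))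
        rw [afn_res, afn_ofA, afn_ofA, coo_comp]) }⟩

theorem afn_kap {T : Over (Spec (CommRingCat.of R))} (f : (αS p R n).obj.obj (op T)) :
    afn (((kap p R n).hom.app (op T)).hom f) = coo (pp f) :=
  afn_ofA _

theorem kap_injective {T : Over (Spec (CommRingCat.of R))} : Function.Injective ((kap p R n).hom.app (op T)).hom :=
  fun f g h => by
    have h' := congrArg afn h
    rw [afn_kap, afn_kap] at h'
    exact ULift.ext _ _ (congrArg Additive.ofMul (coo_injective h'))

theorem exists_kap_eq {T : Over (Spec (CommRingCat.of R))} (y : (GaS (Spec (CommRingCat.of R))).obj.obj (op T))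
    (hy : afn y ^ p ^ n = 0) : ∃ f, ((kap p R n).hom.app (op T)).hom f = y := by
  obtain ⟨f, hf⟩ := exists_coo (afn y) hy
  exact ⟨ULift.up (Additive.ofMul f), afn_ext ((afn_kap _).trans hf)⟩

end Groth.Agent.GaExt80
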