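import Groth.Agent.GaExt80.AlphaLift
import Groth.Agent.GmFive79.Basic
import Mathlib.AlgebraicGeometry.Limits
import Mathlib.RingTheory.AdjoinRoot
import Mathlib.Algebra.CharP.Lemmas

/-!
# The tower of the kernels of the iterated Frobenius
-/

set_option autoImplicit false
set_option backward.isDefEq.respectTransparency.types false
set_option linter.style.haveILetI false

universe u

open CategoryTheory Limits AlgebraicGeometry Opposite TensorProduct MonObj
open Groth.Agent.Adeq2Lib Groth.Agent.DualNorm79 Groth.Agent.DualGm79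
open Groth.Agent.GrpSchLib.AffineHopf (sp)
open Groth.Agent.SekSuwaLib (ptRingHom ofRingHom strHom)

namespace Groth.Agent.GaExt80

variable (p : ℕ) [hp : Fact p.Prime] (R : Type u) [CommRing R] [hR : CharP R p]

section Maps

variable {p R}

omit hp in
include hR in
theorem natCast_sections (T : Over (Spec (CommRingCat.of R))) : (p : Γ(T.left, ⊤)) = 0 := by
  rw [← map_natCast (strHom T), CharP.cast_eq_zero R p, map_zero]

variable (p R) in
/-- The Frobenius on functions. -/
noncomputable def frobS (T : Over (Spec (CommRingCat.of R))) : Γ(T.left, ⊤) →+ Γ(T.left, ⊤) :=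
  AddMonoidHom.mk' (fun v => v ^ p) fun v w => by
    obtain ⟨r, hr⟩ := exists_add_pow_prime_eq hp.out v w
    rw [hr, natCast_sections T, zero_mul, zero_mul, zero_mul, add_zero]

theorem frobS_apply (T : Over (Spec (CommRingCat.of R))) (v : Γ(T.left, ⊤)) : frobS p R T v = v ^ p := rfl

/-- The point with a given coordinate. -/
noncomputable def pickA {a : ℕ} {T : Over (Spec (CommRingCat.of R))} (v : Γ(T.left, ⊤)) (hv : v ^ p ^ a = 0) :
    T ⟶ sp R (AlphaPn.A p a R) := (exists_coo v hv).choose

theorem coo_pickA {a : ℕ} {T : Over (Spec (CommRingCat.of R))} (v : Γ(T.left, ⊤)) (hv : v ^ p ^ a = 0) :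
    coo (pickA v hv) = v := (exists_coo v hv).choose_spec

/-- The map between kernels of Frobenius given by an additive operation on functions. -/
noncomputable def mapA {a b : ℕ} (φ : ∀ T : Over (Spec (CommRingCat.of R)), Γ(T.left, ⊤) →+ Γ(T.left, ⊤))
    (hn : ∀ (T : Over (Spec (CommRingCat.of R))) (v : Γ(T.left, ⊤)), v ^ p ^ a = 0 → φ T v ^ p ^ b = 0)
    (hc : ∀ (T T' : Over (Spec (CommRingCat.of R))) (m : T' ⟶ T) (v : Γ(T.left, ⊤)),
      φ T' (m.left.appTop v) = m.left.appTop (φ T v)) : αS p R a ⟶ αS p R b :=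
  ⟨{ app := fun T => AddCommGrpCat.ofHom (X := (αS p R a).obj.obj T) (Y := (αS p R b).obj.obj T)
        (AddMonoidHom.mk' (fun f => ULift.up (Additive.ofMul
          (pickA (φ T.unop (coo (pp (T := T.unop) f))) (hn _ _ (coo_pow _))))) fun f g =>
          ULift.ext _ _ (congrArg Additive.ofMul (coo_injective (T := T.unop) (by
            show coo (pickA (φ T.unop (coo (pp (T := T.unop) f * pp (T := T.unop) g))) (hn _ _ (coo_pow _))) =
              coo (pickA (φ T.unop (coo (pp (T := T.unop) f))) (hn _ _ (coo_pow _)) *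
                pickA (φ T.unop (coo (pp (T := T.unop) g))) (hn _ _ (coo_pow _)))
            rw [coo_pickA, coo_mul, coo_mul, coo_pickA, coo_pickA, map_add]))))
     naturality := fun T T' m => AddCommGrpCat.ext fun f => ULift.ext _ _ (congrArg Additive.ofMul
        (coo_injective (T := T'.unop) (by
          show coo (pickA (φ T'.unop (coo (m.unop ≫ pp (T := T.unop) f))) (hn _ _ (coo_pow _))) =
            coo (m.unop ≫ pickA (φ T.unop (coo (pp (T := T.unop) f))) (hn _ _ (coo_pow _)))
          rw [coo_pickA, coo_comp, coo_comp, coo_pickA, hc]))) }⟩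

theorem coo_mapA {a b : ℕ} (φ : ∀ T : Over (Spec (CommRingCat.of R)), Γ(T.left, ⊤) →+ Γ(T.left, ⊤))
    (hn : ∀ (T : Over (Spec (CommRingCat.of R))) (v : Γ(T.left, ⊤)), v ^ p ^ a = 0 → φ T v ^ p ^ b = 0)
    (hc : ∀ (T T' : Over (Spec (CommRingCat.of R))) (m : T' ⟶ T) (v : Γ(T.left, ⊤)),
      φ T' (m.left.appTop v) = m.left.appTop (φ T v))
    {T : Over (Spec (CommRingCat.of R))} (f : (αS p R a).obj.obj (op T)) :
    coo (pp (((mapA φ hn hc).hom.app (op T)).hom f)) = φ T (coo (pp f)) :=
  coo_pickA _ (hn _ _ (coo_pow _))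

theorem αS_ext {a : ℕ} {T : Over (Spec (CommRingCat.of R))} {f g : (αS p R a).obj.obj (op T)}
    (h : coo (pp f) = coo (pp g)) : f = g :=
  ULift.ext _ _ (congrArg Additive.ofMul (coo_injective h))

theorem coo_zero {a : ℕ} {T : Over (Spec (CommRingCat.of R))} :
    coo (pp (0 : (αS p R a).obj.obj (op T))) = 0 := by
  have h := coo_mul (1 : T ⟶ sp R (AlphaPn.A p a R)) 1
  rw [_root_.one_mul] at h
  exact left_eq_add.1 h

end Maps

/-- The inclusion of the kernel of Frobenius. -/
noncomputable def incA (n : ℕ) : αS p R 1 ⟶ αS p R (n + 1) :=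
  mapA (fun _ => AddMonoidHom.id _)
    (fun _ v hv => pow_eq_zero_of_le (Nat.pow_le_pow_right hp.out.pos (by omega)) hv) fun _ _ _ _ => rfl

/-- The Frobenius between kernels. -/
noncomputable def frA (n : ℕ) : αS p R (n + 1) ⟶ αS p R n :=
  mapA (frobS p R) (fun T v hv => by rw [frobS_apply, ← pow_mul, ← pow_succ', hv])
    fun _ _ m v => (map_pow m.left.appTop.hom v p).symm

theorem coo_incA (n : ℕ) {T : Over (Spec (CommRingCat.of R))} (f : (αS p R 1).obj.obj (op T)) :
    coo (pp (((incA p R n).hom.app (op T)).hom f)) = coo (pp f) :=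
  coo_mapA (fun T => AddMonoidHom.id Γ(T.left, ⊤)) _ _ f

theorem coo_frA (n : ℕ) {T : Over (Spec (CommRingCat.of R))} (f : (αS p R (n + 1)).obj.obj (op T)) :
    coo (pp (((frA p R n).hom.app (op T)).hom f)) = coo (pp f) ^ p :=
  coo_mapA (frobS p R) _ _ f

theorem incA_frA (n : ℕ) : incA p R n ≫ frA p R n = 0 :=
  Sheaf.hom_ext (NatTrans.ext (funext fun T => AddCommGrpCat.ext fun f => αS_ext (T := T.unop) (by
    show coo (pp (T := T.unop) (((frA p R n).hom.app (op T.unop)).hom (((incA p R n).hom.app (op T.unop)).hom f))) =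
      coo (pp (T := T.unop) (0 : (αS p R n).obj.obj (op T.unop)))
    rw [coo_frA, coo_incA, coo_zero]
    show coo (pp (T := T.unop) f) ^ p = 0
    simpa using coo_pow (pp (T := T.unop) f))))

/-- The sequence of the kernels of Frobenius. -/
noncomputable abbrev seqA (n : ℕ) : ShortComplex (AffVan.AbT (Spec (CommRingCat.of R))) :=
  ShortComplex.mk (incA p R n) (frA p R n) (incA_frA p R n)

include hp hR in
/-- Every function is a power of the characteristic after an fppf cover. -/
theorem exists_root_cover (T : Over (Spec (CommRingCat.of R))) (v : Γ(T.left, ⊤)) :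
    ∃ (W : Over (Spec (CommRingCat.of R))) (e : W ⟶ T) (w : Γ(W.left, ⊤)),
      Sieve.ofArrows (fun _ : PUnit.{1} => W) (fun _ => e) ∈ QuotSh.J Scheme.fppfPrecoverage _ T ∧
      w ^ p = e.left.appTop v := by
  haveI : Nontrivial R := CharP.nontrivial_of_char_ne_one hp.out.ne_one
  let A := Polynomial R
  let P : Polynomial A := Polynomial.X ^ p - Polynomial.C Polynomial.X
  have hP : P.Monic := Polynomial.monic_X_pow_sub_C _ hp.out.ne_zero
  let B := AdjoinRoot P
  haveI : Module.Free A B := Module.Free.of_basis (AdjoinRoot.powerBasis' hP).basis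
  haveI : Module.Finite A B := (AdjoinRoot.powerBasis' hP).finite
  haveI : Nontrivial B := RingHom.domain_nontrivial (AdjoinRoot.lift (Polynomial.evalRingHom (0 : R)) 0 (by
    simp [P, hp.out.ne_zero]; exact Polynomial.eval_X) : B →+* R)
  haveI : Module.FinitePresentation A B := Module.finitePresentation_of_projective A B
  have hfp : (algebraMap A B).FinitePresentation :=
    RingHom.finitePresentation_algebraMap.2 (Algebra.FinitePresentation.of_finitePresentation A B)
  letI := SekSuwaLib.algΓ T
  let g : T ⟶ sp R A := ofRingHom (Polynomial.aeval v).toRingHom fun r => (Polynomial.aeval v).commutes r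
  let f : Spec (CommRingCat.of B) ⟶ (sp R A).left := Spec.map (CommRingCat.ofHom (algebraMap A B))
  have hfs := (flat_and_surjective_SpecMap_iff (CommRingCat.ofHom (algebraMap A B))).2
    (RingHom.faithfullyFlat_algebraMap_iff.2 inferInstance)
  haveI : Flat f := hfs.1
  haveI : Surjective f := hfs.2
  haveI : LocallyOfFinitePresentation f := (HasRingHomProperty.Spec_iff (P := @LocallyOfFinitePresentation)).2 hfp
  let W : Over (Spec (CommRingCat.of R)) := Over.mk (pullback.fst g.left f ≫ T.hom)
  let e : W ⟶ T := Over.homMk (pullback.fst g.left f) rfl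
  refine ⟨W, e, (pullback.snd g.left f).appTop ((Scheme.ΓSpecIso (CommRingCat.of B)).inv (AdjoinRoot.root P)), ?_, ?_⟩
  · rw [GrothendieckTopology.mem_over_iff, Sieve.overEquiv_ofArrows, Sieve.ofArrows, Presieve.ofArrows_pUnit]
    haveI : Flat (pullback.fst g.left f) := inferInstance
    haveI : Surjective (pullback.fst g.left f) := inferInstance
    haveI : LocallyOfFinitePresentation (pullback.fst g.left f) := inferInstance
    exact Precoverage.generate_mem_toGrothendieck (Scheme.Hom.singleton_mem_fppfPrecoverage (pullback.fst g.left f))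
  · have hroot : (AdjoinRoot.root P) ^ p = algebraMap A B Polynomial.X := by
      have h := AdjoinRoot.eval₂_root P
      simp [P, sub_eq_zero] at h
      exact h
    have hv : ptRingHom g Polynomial.X = v := by
      rw [SekSuwaLib.ptRingHom_ofRingHom]
      exact Polynomial.aeval_X v
    have hf : f.appTop ((Scheme.ΓSpecIso (CommRingCat.of A)).inv Polynomial.X) =
        (Scheme.ΓSpecIso (CommRingCat.of B)).inv (algebraMap A B Polynomial.X) :=
      (ConcreteCategory.congr_hom (Scheme.ΓSpecIso_inv_naturality (CommRingCat.ofHom (algebraMap A B))) Polynomial.X).symm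
    rw [← map_pow, ← map_pow, hroot, ← hf]
    conv_rhs => rw [← hv]
    show _ = (pullback.fst g.left f).appTop (g.left.appTop ((Scheme.ΓSpecIso (CommRingCat.of A)).inv Polynomial.X))
    exact ConcreteCategory.congr_hom ((Scheme.Hom.comp_appTop (pullback.snd g.left f) f).symm.trans
      ((congrArg Scheme.Hom.appTop pullback.condition.symm).trans (Scheme.Hom.comp_appTop _ _))) _

theorem shortExact_seqA (n : ℕ) : (seqA p R n).ShortExact := by
  have hm : Mono (seqA p R n).f := by
    refine Functor.mono_of_mono_map (sheafToPresheaf _ _) ?_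
    haveI : ∀ T, Mono (((sheafToPresheaf _ _).map (seqA p R n).f).app T) := fun T =>
      (AddCommGrpCat.mono_iff_injective _).2 fun f g h => αS_ext (T := T.unop) (by
        have h' : ((incA p R n).hom.app (op T.unop)).hom f = ((incA p R n).hom.app (op T.unop)).hom g := h
        rw [← coo_incA p R n (T := T.unop) f, h', coo_incA])
    exact NatTrans.mono_of_mono_app _
  have he : Epi (seqA p R n).g := by
    have : Sheaf.IsLocallySurjective (seqA p R n).g := by
      refine ⟨fun {U} y => ?_⟩
      obtain ⟨W, e, w, hW, hw⟩ := exists_root_cover p R U (coo (pp (T := U) y))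
      have hw' : w ^ p ^ (n + 1) = 0 := by
        rw [pow_succ', pow_mul, hw, ← map_pow, coo_pow, map_zero]
      obtain ⟨x, hx⟩ := exists_coo w hw'
      refine GrothendieckTopology.superset_covering _ ?_ hW
      rw [Sieve.ofArrows, Sieve.generate_le_iff]
      rintro V q ⟨⟨⟩⟩
      refine ⟨(ULift.up (Additive.ofMul x) : (αS p R (n + 1)).obj.obj (op W)), αS_ext (T := W) ?_⟩
      refine (coo_frA p R n (T := W) _).trans ?_
      show coo x ^ p = coo (e ≫ pp (T := U) y)
      rw [hx, hw, coo_comp]
    exact (Sheaf.isLocallySurjective_iff_epi' (A := AddCommGrpCat.{u + 1}) _).1 this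
  refine ShortComplex.ShortExact.mk' ?_ hm he
  refine GmFive79.exact_of_sections _ fun T f hf => ?_
  have h0 : coo (pp f) ^ p ^ 1 = 0 := by
    have h : ((frA p R n).hom.app (op T)).hom f = 0 := hf
    rw [pow_one, ← coo_frA, h, coo_zero]
  obtain ⟨x, hx⟩ := exists_coo (coo (pp f)) h0
  exact ⟨(ULift.up (Additive.ofMul x) : (αS p R 1).obj.obj (op T)), αS_ext ((coo_incA p R n (T := T) _).trans hx)⟩

theorem isZero_αS_zero : IsZero (αS p R 0) := by
  rw [IsZero.iff_id_eq_zero]
  exact Sheaf.hom_ext (NatTrans.ext (funext fun T => AddCommGrpCat.ext fun f => αS_ext (T := T.unop) (by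
    have h := coo_pow (pp (T := T.unop) f)
    rw [pow_zero, pow_one] at h
    exact h.trans coo_zero.symm)))

/-- Homomorphisms out of the kernels of the iterated Frobenius lift. -/
theorem liftP_alpha (hF : Function.Surjective (frobenius R p)) (n : ℕ) : LiftP (αS p R n) := by
  induction n with
  | zero => exact LiftP.of_isZero (isZero_αS_zero p R)
  | succ n ih => exact LiftP.of_shortExact _ (shortExact_seqA p R n) (liftP_alpha_one hF) ih

/-- The first extension group vanishes when homomorphisms lift. -/
theorem LiftP.subsingleton_ext {S : Scheme.{u}} {F : AffVan.AbT S} (h : LiftP F) :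
    Subsingleton (Abelian.Ext F (GmS S) 1) := by
  refine subsingleton_of_forall_eq 0 fun e => ?_
  obtain ⟨β, rfl⟩ := EtMVLib.exists_eq_comp_extClass e
  obtain ⟨f, rfl⟩ := (Abelian.Ext.mk₀_bijective _ _).2 β
  obtain ⟨g, hg⟩ := h _ _ _ (EtMVLib.injSES_shortExact (GmS S)) inferInstance f
  rw [← hg, ← Abelian.Ext.mk₀_comp_mk₀, Abelian.Ext.comp_assoc_of_second_deg_zero,
    (EtMVLib.injSES_shortExact (GmS S)).comp_extClass, Abelian.Ext.comp_zero]

end Groth.Agent.GaExt80
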