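import Mathlib.RingTheory.TensorProduct.IncludeLeftSubRight
import Mathlib.RingTheory.TensorProduct.Maps
import Mathlib.RingTheory.Flat.FaithfullyFlat.Algebra
import Mathlib.RingTheory.Spectrum.Prime.Topology
import Groth.Agent.SchFinLib.Pairs

/-!
# Unit-valued cocycles of a faithfully flat algebra

Triviality descends along ring maps which are surjective on the finitely many elements needed and
surjective on spectra.
-/

set_option autoImplicit false
set_option linter.style.haveILetI false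

universe u v w u' v'

open TensorProduct

namespace Groth.Agent.GaExt80

section

variable {A : Type u} [CommRing A] {B : Type v} [CommRing B] [Algebra A B]

/-- The descent relation of `w` on `b`. -/
def Rel (w : B ⊗[A] B) (b : B) : Prop := (1 : B) ⊗ₜ[A] b = w * (b ⊗ₜ[A] (1 : B))

/-- The cocycle is a coboundary. -/
def Cob (w : B ⊗[A] B) : Prop := ∃ m : B, IsUnit m ∧ Rel w m

/-- The cocycle identity. -/
def IsCoc (w : B ⊗[A] B) : Prop :=
  (Algebra.TensorProduct.includeRight : B ⊗[A] B →ₐ[A] B ⊗[A] (B ⊗[A] B)) w *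
      (Algebra.TensorProduct.map (AlgHom.id A B) Algebra.TensorProduct.includeLeft :
        B ⊗[A] B →ₐ[A] B ⊗[A] (B ⊗[A] B)) w =
    (Algebra.TensorProduct.map (AlgHom.id A B) Algebra.TensorProduct.includeRight :
      B ⊗[A] B →ₐ[A] B ⊗[A] (B ⊗[A] B)) w

/-- The elements satisfying the descent relation span the unit ideal. -/
theorem exists_sum_eq_one [Module.Flat A B] {w : B ⊗[A] B} (hw : IsUnit w) (hc : IsCoc w) :
    ∃ s : Finset (B × B), (∀ x ∈ s, Rel w x.2) ∧ ∑ x ∈ s, x.1 * x.2 = 1 := by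
  classical
  let f : B →ₗ[A] B ⊗[A] B :=
    (LinearMap.mulLeft A w) ∘ₗ (TensorProduct.mk A B B).flip 1 - TensorProduct.mk A B B 1
  have hf : ∀ b, f b = w * (b ⊗ₜ[A] (1 : B)) - (1 : B) ⊗ₜ[A] b := fun b => rfl
  let d₀ : B ⊗[A] B →ₐ[A] B ⊗[A] (B ⊗[A] B) := Algebra.TensorProduct.includeRight
  let d₁ : B ⊗[A] B →ₐ[A] B ⊗[A] (B ⊗[A] B) :=
    Algebra.TensorProduct.map (AlgHom.id A B) Algebra.TensorProduct.includeRight
  let d₂ : B ⊗[A] B →ₐ[A] B ⊗[A] (B ⊗[A] B) :=
    Algebra.TensorProduct.map (AlgHom.id A B) Algebra.TensorProduct.includeLeft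
  have hlT : ∀ x, f.lTensor B x = d₀ w * d₂ x - d₁ x := by
    intro x
    induction x using TensorProduct.induction_on with
    | zero => simp
    | tmul a b =>
      rw [LinearMap.lTensor_tmul, hf, TensorProduct.tmul_sub]
      simp [d₀, d₁, d₂]
    | add x y hx hy => rw [map_add, hx, hy, map_add, map_add, mul_add]; abel
  obtain ⟨z, hz⟩ : ∃ z, (LinearMap.ker f).subtype.lTensor B z = w :=
    ((Module.Flat.lTensor_exact B (f.exact_subtype_ker_map)) w).1 (by rw [hlT]; exact sub_eq_zero.2 hc)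
  let μ := Algebra.TensorProduct.lmul' (S := B) A
  let μ₃ : B ⊗[A] (B ⊗[A] B) →ₐ[A] B := Algebra.TensorProduct.productMap (AlgHom.id A B) μ
  have hμ0 : ∀ x, μ₃ (d₀ x) = μ x := fun x => by simp [μ₃, d₀]
  have hμ2 : ∀ x, μ₃ (d₂ x) = μ x := fun x => by
    induction x using TensorProduct.induction_on with
    | zero => simp
    | tmul a b => simp [μ₃, μ, d₂]
    | add x y hx hy => rw [map_add, map_add, map_add, hx, hy]
  have hμ1 : ∀ x, μ₃ (d₁ x) = μ x := fun x => by
    induction x using TensorProduct.induction_on with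
    | zero => simp
    | tmul a b => simp [μ₃, μ, d₁]
    | add x y hx hy => rw [map_add, map_add, map_add, hx, hy]
  have hμw : μ w = 1 := by
    have h : μ₃ (d₀ w) * μ₃ (d₂ w) = μ₃ (d₁ w) := by rw [← map_mul]; exact congrArg μ₃ hc
    rw [hμ0, hμ2, hμ1] at h
    exact (hw.map μ).mul_eq_right.1 h
  obtain ⟨s, hs⟩ := TensorProduct.exists_finset z
  refine ⟨s.image fun x => (x.1, (x.2 : B)), ?_, ?_⟩
  · intro x hx
    obtain ⟨y, -, rfl⟩ := Finset.mem_image.1 hx
    have := y.2.2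
    rw [LinearMap.mem_ker, hf, sub_eq_zero] at this
    exact this.symm
  · rw [Finset.sum_image (by intro a _ b _ h; simp only [Prod.ext_iff] at h; exact Prod.ext h.1 (Subtype.ext h.2))]
    rw [← hμw, ← hz, hs, map_sum, map_sum]
    refine Finset.sum_congr rfl fun x _ => ?_
    simp [μ]

theorem Rel.add {w : B ⊗[A] B} {b b' : B} (h : Rel w b) (h' : Rel w b') : Rel w (b + b') := by
  rw [Rel, tmul_add, add_tmul, mul_add, h, h']

theorem Rel.zero {w : B ⊗[A] B} : Rel w 0 := by simp [Rel]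

theorem Rel.smul {w : B ⊗[A] B} {b : B} (h : Rel w b) (a : A) : Rel w (algebraMap A B a * b) := by
  rw [Rel, ← Algebra.smul_def, tmul_smul, ← smul_tmul', mul_smul_comm, h]

theorem Rel.sum {w : B ⊗[A] B} {ι : Type*} (s : Finset ι) (f : ι → B) (h : ∀ i ∈ s, Rel w (f i)) :
    Rel w (∑ i ∈ s, f i) :=
  Finset.sum_induction _ (Rel w) (fun _ _ => Rel.add) Rel.zero h

/-- Two elements satisfying the relation differ by a scalar, if one is a unit. -/
theorem Rel.exists_eq [Module.FaithfullyFlat A B] {w : B ⊗[A] B} {m n : B} (hm : IsUnit m) (h : Rel w m)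
    (hn : Rel w n) : ∃ a : A, n = algebraMap A B a * m := by
  obtain ⟨v, rfl⟩ := hm
  have key : (n * ↑v⁻¹) ⊗ₜ[A] (1 : B) = (1 : B) ⊗ₜ[A] (n * ↑v⁻¹) := by
    have h1 : ((v : B) ⊗ₜ[A] (1 : B)) * ((1 : B) ⊗ₜ[A] n) = (n ⊗ₜ[A] (1 : B)) * ((1 : B) ⊗ₜ[A] (v : B)) := by
      rw [h, hn]; ring
    have h2 := congrArg (fun x => x * ((↑v⁻¹ : B) ⊗ₜ[A] (↑v⁻¹ : B))) h1
    simp only [Algebra.TensorProduct.tmul_mul_tmul, one_mul, mul_one, Units.mul_inv] at h2
    exact h2.symm
  obtain ⟨a, ha⟩ : n * ↑v⁻¹ ∈ Set.range (algebraMap A B) :=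
    ((Algebra.IsEffective.of_faithfullyFlat A B) (n * ↑v⁻¹)).1
      (by rw [Algebra.TensorProduct.includeLeftSubRight_apply, key, sub_self])
  exact ⟨a, by rw [ha, mul_assoc, Units.inv_mul, mul_one]⟩

end

variable {A : Type u} [CommRing A] {B : Type v} [CommRing B] [Algebra A B]
variable {A' : Type u'} [CommRing A'] {B' : Type v'} [CommRing B'] [Algebra A' B']

/-- The map on squares induced by a map of algebras over a map of rings. -/
noncomputable def sqMap (ρ : A →+* A') (ψ : B →+* B')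
    (hψ : ∀ a, ψ (algebraMap A B a) = algebraMap A' B' (ρ a)) : B ⊗[A] B →+* B' ⊗[A'] B' :=
  letI := ((algebraMap A' (B' ⊗[A'] B')).comp ρ).toAlgebra
  let l : B →ₐ[A] B' ⊗[A'] B' :=
    { toRingHom := (Algebra.TensorProduct.includeLeftRingHom).comp ψ
      commutes' := fun a => by
        show ψ (algebraMap A B a) ⊗ₜ[A'] (1 : B') = _
        rw [hψ]; rfl }
  let r : B →ₐ[A] B' ⊗[A'] B' :=
    { toRingHom := (Algebra.TensorProduct.includeRight : B' →ₐ[A'] B' ⊗[A'] B').toRingHom.comp ψ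
      commutes' := fun a => by
        show (Algebra.TensorProduct.includeRight : B' →ₐ[A'] B' ⊗[A'] B') (ψ (algebraMap A B a)) = _
        rw [hψ, AlgHom.commutes]; rfl }
  (Algebra.TensorProduct.productMap l r).toRingHom

variable (ρ : A →+* A') (ψ : B →+* B') (hψ : ∀ a, ψ (algebraMap A B a) = algebraMap A' B' (ρ a))

@[simp]
theorem sqMap_tmul (x y : B) : sqMap ρ ψ hψ (x ⊗ₜ[A] y) = ψ x ⊗ₜ[A'] ψ y := by
  simp [sqMap]

/-- Composition of the maps on squares. -/
theorem sqMap_comp {A'' : Type w} [CommRing A''] {B'' : Type w} [CommRing B''] [Algebra A'' B'']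
    (ρ' : A' →+* A'') (ψ' : B' →+* B'') (hψ' : ∀ a, ψ' (algebraMap A' B' a) = algebraMap A'' B'' (ρ' a))
    (ρ'' : A →+* A'') (ψ'' : B →+* B'') (hψ'' : ∀ a, ψ'' (algebraMap A B a) = algebraMap A'' B'' (ρ'' a))
    (hc : ∀ b, ψ' (ψ b) = ψ'' b) (x : B ⊗[A] B) :
    sqMap ρ' ψ' hψ' (sqMap ρ ψ hψ x) = sqMap ρ'' ψ'' hψ'' x := by
  induction x using TensorProduct.induction_on with
  | zero => simp
  | tmul a b => simp [hc]
  | add x y hx hy => simp [hx, hy]

theorem Rel.map {w : B ⊗[A] B} {b : B} (h : Rel w b) : Rel (sqMap ρ ψ hψ w) (ψ b) := by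
  have := congrArg (sqMap ρ ψ hψ) h
  simpa [Rel] using this

theorem Cob.map {w : B ⊗[A] B} (h : Cob w) : Cob (sqMap ρ ψ hψ w) :=
  let ⟨m, hm, hr⟩ := h
  ⟨ψ m, hm.map ψ, hr.map ρ ψ hψ⟩

include hψ in
/-- An element with the descent relation which is a unit after a map surjective on spectra of the base is a unit. -/
theorem isUnit_of_rel [Module.FaithfullyFlat A' B'] (hρ : Function.Surjective (PrimeSpectrum.comap ρ))
    {w : B ⊗[A] B} (hw : IsUnit w) {l : B} (hl : Rel w l) (hu : IsUnit (ψ l)) : IsUnit l := by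
  by_contra hnu
  obtain ⟨P, hP, hlP⟩ := exists_max_ideal_of_mem_nonunits hnu
  haveI := hP.isPrime
  obtain ⟨q', hq'⟩ := hρ (PrimeSpectrum.comap (algebraMap A B) ⟨P, inferInstance⟩)
  obtain ⟨Q', hQ'⟩ := PrimeSpectrum.comap_surjective_of_faithfullyFlat (A := A') (B := B') q'
  let P' : PrimeSpectrum B := PrimeSpectrum.comap ψ Q'
  have hP' : PrimeSpectrum.comap (algebraMap A B) P' = PrimeSpectrum.comap (algebraMap A B) ⟨P, inferInstance⟩ := by
    rw [← hq', ← hQ']
    show PrimeSpectrum.comap (algebraMap A B) (PrimeSpectrum.comap ψ Q') =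
      PrimeSpectrum.comap ρ (PrimeSpectrum.comap (algebraMap A' B') Q')
    rw [← PrimeSpectrum.comap_comp_apply, ← PrimeSpectrum.comap_comp_apply,
      show ψ.comp (algebraMap A B) = (algebraMap A' B').comp ρ from RingHom.ext hψ]
  obtain ⟨q, hq⟩ : ∃ q : PrimeSpectrum (B ⊗[A] B),
      PrimeSpectrum.comap (Algebra.TensorProduct.includeLeftRingHom : B →+* B ⊗[A] B) q = P' ∧
      PrimeSpectrum.comap (Algebra.TensorProduct.includeRight : B →ₐ[A] B ⊗[A] B).toRingHom q = ⟨P, inferInstance⟩ := by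
    obtain ⟨q, hq1, hq2⟩ := SchFinLib.exists_prime_tensor (A := A) P' ⟨P, inferInstance⟩ hP'
    exact ⟨q, hq1, hq2⟩
  have h1 : (1 : B) ⊗ₜ[A] l ∈ q.asIdeal := by
    show (Algebra.TensorProduct.includeRight : B →ₐ[A] B ⊗[A] B).toRingHom l ∈ q.asIdeal
    rw [← Ideal.mem_comap, ← PrimeSpectrum.comap_asIdeal, hq.2]
    exact hlP
  rw [hl, q.isPrime.mul_mem_iff_mem_or_mem] at h1
  have h2 : l ⊗ₜ[A] (1 : B) ∈ q.asIdeal :=
    h1.resolve_left fun h => q.isPrime.ne_top (Ideal.eq_top_of_isUnit_mem _ h hw)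
  have h3 : l ∈ P'.asIdeal := by
    rw [← hq.1]
    exact h2
  exact Q'.isPrime.ne_top (Ideal.eq_top_of_isUnit_mem _ (h3 : ψ l ∈ Q'.asIdeal) hu)

/-- Descent of triviality: it suffices that finitely many prescribed elements are in the range. -/
theorem exists_coeffs [Module.Flat A B] [Module.FaithfullyFlat A' B'] {w : B ⊗[A] B} (hw : IsUnit w) (hc : IsCoc w)
    (h : Cob (sqMap ρ ψ hψ w)) :
    ∃ (m : B') (ι : Type v) (s : Finset ι) (l : ι → B) (c : ι → A'), IsUnit m ∧ (∀ i ∈ s, Rel w (l i)) ∧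
      ∑ i ∈ s, algebraMap A' B' (c i) * ψ (l i) = m := by
  classical
  obtain ⟨m, hm, hrm⟩ := h
  obtain ⟨s, hs, hsum⟩ := exists_sum_eq_one hw hc
  choose a ha using fun x : s => (hrm.exists_eq hm ((hs x.1 x.2).map ρ ψ hψ))
  have htop : Ideal.span (Set.range a) = ⊤ := by
    by_contra hne
    obtain ⟨M, hM, hle⟩ := Ideal.exists_le_maximal _ hne
    obtain ⟨Q, hQ⟩ := PrimeSpectrum.comap_surjective_of_faithfullyFlat (A := A') (B := B') ⟨M, hM.isPrime⟩
    have h1 : (1 : B') ∈ Q.asIdeal := by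
      rw [← map_one ψ, ← hsum, map_sum, ← Finset.sum_coe_sort]
      refine Submodule.sum_mem _ fun x _ => ?_
      rw [map_mul, ha x]
      refine Ideal.mul_mem_left _ _ (Ideal.mul_mem_right _ _ ?_)
      rw [← Ideal.mem_comap, ← PrimeSpectrum.comap_asIdeal, hQ]
      exact hle (Ideal.subset_span (Set.mem_range_self x))
    exact Q.isPrime.ne_top ((Ideal.eq_top_iff_one _).2 h1)
  obtain ⟨c, hcsum⟩ := (Submodule.mem_span_range_iff_exists_fun A').1 ((Ideal.eq_top_iff_one _).1 htop)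
  refine ⟨m, (B × B), s, fun x => x.2, fun x => if hx : x ∈ s then c ⟨x, hx⟩ else 0, hm, hs, ?_⟩
  have hone : algebraMap A' B' (∑ x, c x • a x) * m = m := by rw [hcsum, map_one, one_mul]
  conv_rhs => rw [← hone]
  rw [map_sum, Finset.sum_mul, ← Finset.sum_coe_sort s]
  refine Finset.sum_congr rfl fun x _ => ?_
  show algebraMap A' B' (if hx : (x : B × B) ∈ s then c ⟨x, hx⟩ else 0) * ψ (x : B × B).2 = _
  rw [dif_pos x.2, smul_eq_mul, map_mul, ha x, mul_assoc]

/-- Descent of triviality along a surjection which is surjective on spectra. -/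
theorem Cob.descend [Module.Flat A B] [Module.FaithfullyFlat A' B'] {w : B ⊗[A] B} (hw : IsUnit w) (hc : IsCoc w)
    (hρ : Function.Surjective ρ) (hρ' : Function.Surjective (PrimeSpectrum.comap ρ))
    (h : Cob (sqMap ρ ψ hψ w)) : Cob w := by
  obtain ⟨m, ι, s, l, c, hm, hl, hsum⟩ := exists_coeffs ρ ψ hψ hw hc h
  choose d hd using fun i => hρ (c i)
  let n := ∑ i ∈ s, algebraMap A B (d i) * l i
  have hn : Rel w n := Rel.sum _ _ fun i hi => (hl i hi).smul _
  have hψn : ψ n = m := by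
    simp only [n, map_sum, map_mul, hψ, hd]
    exact hsum
  exact ⟨n, isUnit_of_rel ρ ψ hψ hρ' hw hn (hψn ▸ hm), hn⟩

end Groth.Agent.GaExt80
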