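import Groth.Agent.GaExt80.SemiDesc
import Groth.Agent.EtMVLib.ExtTools

/-!
# Vanishing of the first extension group from universal additive sections
-/

set_option autoImplicit false
set_option backward.isDefEq.respectTransparency.types false
set_option linter.style.haveILetI false

universe u

open CategoryTheory Limits AlgebraicGeometry Opposite Abelian
open Groth.Agent.Adeq2Lib Groth.Agent.DualNorm79 Groth.Agent.DualGm79

namespace Groth.Agent.GaExt80

open GaDual80 (GaS)

variable {C : Type u} [CommRing C]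

/-- Extensions are trivial if homomorphisms lift along extensions by the multiplicative group. -/
theorem subsingleton_ext_one {S : Scheme.{u}} {F : AffVan.AbT S}
    (h : ∀ {I Q : AffVan.AbT S} (jI : GmS S ⟶ I) (π : I ⟶ Q) (w : jI ≫ π = 0),
      (ShortComplex.mk jI π w).ShortExact → ∀ f : F ⟶ Q, ∃ g : F ⟶ I, g ≫ π = f) :
    Subsingleton (Ext F (GmS S) 1) := by
  refine subsingleton_of_forall_eq 0 fun e => ?_
  obtain ⟨β, rfl⟩ := EtMVLib.exists_eq_comp_extClass e
  obtain ⟨f, rfl⟩ := (Ext.mk₀_bijective _ _).2 β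
  obtain ⟨g, hg⟩ := h _ _ _ (EtMVLib.injSES_shortExact (GmS S)) f
  rw [← hg, ← Ext.mk₀_comp_mk₀, Ext.comp_assoc_of_second_deg_zero,
    (EtMVLib.injSES_shortExact (GmS S)).comp_extClass, Ext.comp_zero]

/-- A natural transformation from the values of a morphism over a final object. -/
noncomputable def natOfVal {S : Scheme.{u}} {Y : Over S} {F G : AffVan.AbT S} (g : F.over Y ⟶ G.over Y)
    (k : ∀ W : Over S, W ⟶ Y) (hk : ∀ (W' W : Over S) (m : W' ⟶ W), m ≫ k W = k W') : F.obj ⟶ G.obj where
  app W := AddCommGrpCat.ofHom (val g (k W.unop))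
  naturality W W' m := AddCommGrpCat.ext fun x => (val_res g m.unop (k W.unop) (k W'.unop) (hk _ _ _) x).symm

/-- A homomorphism out of the additive group lifts if its universal value lifts additively. -/
theorem exists_lift_of_add {I Q : AffVan.AbT (Spec (CommRingCat.of C))} (π : I ⟶ Q)
    (f : GaS (Spec (CommRingCat.of C)) ⟶ Q)
    (h : ∀ u, IsAdd (𝟙 (Spec (CommRingCat.of C))) (G := Q) u →
      ∃ s, IsAdd (𝟙 (Spec (CommRingCat.of C))) s ∧ (π.hom.app _).hom s = u) :
    ∃ g : GaS (Spec (CommRingCat.of C)) ⟶ I, g ≫ π = f := by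
  let a := 𝟙 (Spec (CommRingCat.of C))
  let χ : (GaS _).over (Over.mk a) ⟶ Q.over (Over.mk a) :=
    mkHom (fun W _ => (f.hom.app (op W)).hom) fun W W' m _ _ _ x => (nat_res f m x).symm
  obtain ⟨g, hg⟩ := exists_lift_hom a π χ (h _ (isAdd_secOfHom a χ))
  let k : ∀ W : Over (Spec (CommRingCat.of C)), W ⟶ Over.mk a := fun W => Over.homMk W.hom (Category.comp_id _)
  let η : (GaS (Spec (CommRingCat.of C))).obj ⟶ I.obj := natOfVal g k fun W' W m => Over.OverMorphism.ext (Over.w m)
  refine ⟨⟨η⟩, ?_⟩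
  exact Sheaf.hom_ext (NatTrans.ext (funext fun W => AddCommGrpCat.ext fun x =>
    (hg W.unop (k W.unop) x).trans rfl))

end Groth.Agent.GaExt80
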