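import Groth.Agent.GaExt80.AddDescend
import Groth.Agent.GaExt80.ExtOne
import Groth.Agent.AbSchX.BiextTriv

/-!
# The first Ext sheaf of the additive group by the multiplicative group in positive characteristic
-/

set_option autoImplicit false
set_option backward.isDefEq.respectTransparency.types false
set_option linter.style.haveILetI false

universe u

open CategoryTheory Limits AlgebraicGeometry Opposite
open Groth.Agent.Adeq2Lib Groth.Agent.DualNorm79 Groth.Agent.DualGm79

namespace Groth.Agent.GaExt80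

open GaDual80 (GaS sMap toBase)
open AbSchX.SheafSect (ap_homShMap)

variable {S : Scheme.{u}} {I Q : AffVan.AbT S} (π : I ⟶ Q)

/-- A restricted homomorphism lifts along `π`. -/
def LiftsHom {T : Over S} (χ : (GaS S).over T ⟶ Q.over T) {V : Over S} (f : V ⟶ T) : Prop :=
  ∃ g : (GaS S).over V ⟶ I.over V, ∀ (W : Over S) (k : W ⟶ V) (x : (GaS S).obj.obj (op W)),
    (π.hom.app (op W)).hom (val g k x) = val χ (k ≫ f) x

theorem LiftsHom.mem_imageSieve {T : Over S} (χ : (GaS S).over T ⟶ Q.over T) {V : Over S} (f : V ⟶ T)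
    (h : LiftsHom π χ f) :
    Presheaf.imageSieve (HomSh.homShMap (QuotSh.J Scheme.fppfPrecoverage S) (𝟙 (GaS S)) π).hom
      (U := T) χ f := by
  obtain ⟨g, hg⟩ := h
  exact ⟨g, val_ext fun W k x => hg W k x⟩

variable {jI : GmS S ⟶ I} {w₀ : jI ≫ π = 0} (hE : (ShortComplex.mk jI π w₀).ShortExact)

include hE in
/-- Homomorphisms lift fppf locally over an affine scheme of positive characteristic. -/
theorem exists_cover_lifts {C : Type u} [CommRing C] (a : Spec (CommRingCat.of C) ⟶ S) (p : ℕ) [hp : Fact p.Prime]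
    [CharP C p] (χ : (GaS S).over (Over.mk a) ⟶ Q.over (Over.mk a)) :
    ∃ R ∈ QuotSh.J Scheme.fppfPrecoverage S (Over.mk a), ∀ (V : Over S) (f : V ⟶ Over.mk a), R.arrows f →
      LiftsHom π χ f := by
  obtain ⟨D, _, _, hfree, hfin, hnt, s, hs, hπ⟩ :=
    exists_additive_lift_fppf hE a p (isAdd_secOfHom a χ)
  haveI : Module.FinitePresentation C D := Module.finitePresentation_of_projective C D
  haveI : LocallyOfFinitePresentation (Spec.map (CommRingCat.ofHom (algebraMap C D))) :=
    (HasRingHomProperty.Spec_iff (P := @LocallyOfFinitePresentation)).2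
      (RingHom.finitePresentation_algebraMap.2 (Algebra.FinitePresentation.of_finitePresentation C D))
  refine ⟨Sieve.ofArrows (fun _ : PUnit.{1} => cv a D) fun _ => cvMap a D, ?_, ?_⟩
  · rw [GrothendieckTopology.mem_over_iff, Sieve.overEquiv_ofArrows]
    exact cover_mem a D
  let aD := sMap a (algebraMap C D)
  let e : Over.mk aD ⟶ Over.mk a := toBase a (algebraMap C D)
  let χD : (GaS S).over (Over.mk aD) ⟶ Q.over (Over.mk aD) :=
    mkHom (fun W k => val χ (k ≫ e)) fun W W' m k k' h x => val_res χ m _ _ (by rw [← h, Category.assoc]) x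
  have hsec : secOfHom aD χD = bX a D aD rfl (secOfHom a χ) := by
    refine Eq.trans ?_ (val_res χ (lineMap a D aD rfl) _ _ rfl _).symm
    show val χ (cvMap aD (Polynomial D) ≫ e) (univ aD) = _
    have hu : AffVan.rA (GaS S) (lineMap a D aD rfl) (univ a) = univ aD := by
      refine GaDual80.av_ext ?_
      rw [GaDual80.av_res _ (polyMap (C := C) D).toRingHom (lineMap_left a D aD rfl), GaDual80.av_ofV,
        GaDual80.av_ofV]
      simp
    rw [hu]
    refine congrArg (fun k => val χ k (univ aD)) (Over.OverMorphism.ext ?_)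
    show Spec.map _ ≫ Spec.map _ = (lineMap a D aD rfl).left ≫ Spec.map _
    rw [lineMap_left, ← Spec.map_comp, ← Spec.map_comp]
    exact congrArg Spec.map (CommRingCat.hom_ext (RingHom.ext fun c => by simp))
  obtain ⟨g, hg⟩ := exists_lift_hom aD π χD ⟨s, hs, hπ.trans hsec.symm⟩
  rintro V f ⟨_, q, _, ⟨⟨⟩⟩, rfl⟩
  refine ⟨mkHom (fun W k => val g (k ≫ q)) fun W W' m k k' h x => val_res g m _ _ (by rw [← h, Category.assoc]) x,
    fun W k x => ?_⟩
  refine (hg W (k ≫ q) x).trans ?_
  show val χ ((k ≫ q) ≫ e) x = _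
  rw [Category.assoc]

include hE in
/-- Homomorphisms lift fppf locally over an affine object. -/
theorem exists_cover_lifts' (p : ℕ) [hp : Fact p.Prime] (hpS : (p : Γ(S, ⊤)) = 0) {Ri : CommRingCat.{u}}
    (a : Spec Ri ⟶ S) (χ : (GaS S).over (Over.mk a) ⟶ Q.over (Over.mk a)) :
    ∃ R ∈ QuotSh.J Scheme.fppfPrecoverage S (Over.mk a), ∀ (V : Over S) (f : V ⟶ Over.mk a), R.arrows f →
      LiftsHom π χ f := by
  rcases subsingleton_or_nontrivial Ri with hss | hnt
  · haveI : IsEmpty (Over.mk a).left := ⟨fun (P : PrimeSpectrum Ri) =>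
      P.isPrime.ne_top ((Ideal.eq_top_iff_one _).2 (Subsingleton.elim (0 : Ri) 1 ▸ P.asIdeal.zero_mem))⟩
    refine ⟨⊤, GrothendieckTopology.top_mem _ _, fun V f _ => ⟨0, fun W k x => ?_⟩⟩
    haveI : IsEmpty W.left := ⟨fun z => IsEmpty.false ((k ≫ f).left.base z)⟩
    exact AffVan.eq_of_isEmpty Q _ _
  · have hp0 : (p : Ri) = 0 := by
      rw [← map_natCast ((Scheme.ΓSpecIso Ri).hom.hom.comp a.appTop.hom), hpS, map_zero]
    haveI : CharP Ri p := (CharP.charP_iff_prime_eq_zero hp.out).2 hp0
    exact exists_cover_lifts (C := Ri) π hE a p χ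

include hE in
/-- Homomorphisms lift fppf locally in positive characteristic. -/
theorem imageSieve_mem_of_charP (p : ℕ) [hp : Fact p.Prime] (hpS : (p : Γ(S, ⊤)) = 0) (T : Over S)
    (χ : (GaS S).over T ⟶ Q.over T) :
    Presheaf.imageSieve (HomSh.homShMap (QuotSh.J Scheme.fppfPrecoverage S) (𝟙 (GaS S)) π).hom
      (U := T) χ ∈ QuotSh.J Scheme.fppfPrecoverage S T := by
  let 𝒰 := T.left.affineOpenCover
  let U : 𝒰.I₀ → Over S := fun i => Over.mk (𝒰.f i ≫ T.hom)
  let e : ∀ i, U i ⟶ T := fun i => Over.homMk (𝒰.f i) rfl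
  have hcov : Sieve.ofArrows U e ∈ QuotSh.J Scheme.fppfPrecoverage S T := by
    rw [GrothendieckTopology.mem_over_iff, Sieve.overEquiv_ofArrows]
    refine Precoverage.generate_mem_toGrothendieck ?_
    refine (Scheme.ofArrows_mem_precoverage_iff (P := (Pfppf : MorphismProperty Scheme.{u}))).2 ?_
    refine ⟨fun x => ⟨𝒰.idx x, 𝒰.covers x⟩, fun i => ?_⟩
    haveI : IsOpenImmersion (𝒰.f i) := inferInstance
    exact ⟨inferInstanceAs (Flat (𝒰.f i)), inferInstanceAs (LocallyOfFinitePresentation (𝒰.f i))⟩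
  refine GrothendieckTopology.transitive _ hcov _ fun V f hf => ?_
  obtain ⟨_, q, _, ⟨i⟩, rfl⟩ := hf
  rw [Sieve.pullback_comp]
  refine GrothendieckTopology.pullback_stable _ q ?_
  let χi : (GaS S).over (U i) ⟶ Q.over (U i) :=
    mkHom (fun W k => val χ (k ≫ e i)) fun W W' m k k' h x => val_res χ m _ _ (by rw [← h, Category.assoc]) x
  suffices h : ∃ R ∈ QuotSh.J Scheme.fppfPrecoverage S (U i), ∀ (V : Over S) (f : V ⟶ U i), R.arrows f →
      LiftsHom π χi f by
    obtain ⟨R, hR, hlift⟩ := h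
    refine GrothendieckTopology.superset_covering _ (fun V f hf => ?_) hR
    obtain ⟨g, hg⟩ := hlift V f hf
    exact LiftsHom.mem_imageSieve π χ (f ≫ e i) ⟨g, fun W k x => (hg W k x).trans
      (congrArg (fun k => val χ k x) (Category.assoc _ _ _))⟩
  exact exists_cover_lifts' π hE p hpS (𝒰.f i ≫ T.hom) χi

/-- The first derived functor vanishes where a cokernel map stays epi. -/
theorem isZero_rightDerived_one {A B : Type*} [Category A] [Category B] [Abelian A] [Abelian B] [EnoughInjectives A]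
    (F : A ⥤ B) [F.Additive] [PreservesFiniteLimits F] {X I C : A} (f : X ⟶ I) (g : I ⟶ C) (w : f ≫ g = 0)
    (hex : (ShortComplex.mk f g w).Exact) [Mono f] [Epi g] [Injective I] [Epi (F.map g)] :
    IsZero ((F.rightDerived 1).obj X) := by
  haveI := H9Misc.Theta.epi_rho F f g (injectiveResolution C) w hex
  have h0 := H9Misc.Theta.map_g_rho F f g (injectiveResolution C) w hex
  rw [← Limits.comp_zero (f := F.map g), cancel_epi] at h0
  exact IsZero.of_epi_eq_zero _ h0

include hE in
/-- The pushforward along the quotient map is epi in positive characteristic. -/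
theorem epi_homShMap (p : ℕ) [hp : Fact p.Prime] (hpS : (p : Γ(S, ⊤)) = 0) :
    Epi (HomSh.homShMap (QuotSh.J Scheme.fppfPrecoverage S) (𝟙 (GaS S)) π) := by
  rw [← Sheaf.isLocallySurjective_iff_epi']
  exact ⟨fun {T} χ => imageSieve_mem_of_charP π hE p hpS T χ⟩

include hE in
/-- The first Ext sheaf, computed by an embedding in an injective. -/
theorem isZero_extSh_aux [Injective I] (p : ℕ) [hp : Fact p.Prime] (hpS : (p : Γ(S, ⊤)) = 0) :
    IsZero (((HomSh.homShFunctor (QuotSh.J Scheme.fppfPrecoverage S) (GaS S)).rightDerived 1).obj (GmS S)) := by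
  haveI : Mono jI := hE.mono_f
  haveI : Epi π := hE.epi_g
  haveI : Epi ((HomSh.homShFunctor (QuotSh.J Scheme.fppfPrecoverage S) (GaS S)).map π) :=
    epi_homShMap π hE p hpS
  exact isZero_rightDerived_one _ jI π w₀ hE.exact

/-- The first Ext sheaf of the additive group by the multiplicative group vanishes in positive characteristic. -/
theorem isZero_extSh_one_Ga_Gm (p : ℕ) [hp : Fact p.Prime] (hpS : (p : Γ(S, ⊤)) = 0) :
    IsZero ((HomSh.extSh (QuotSh.J Scheme.fppfPrecoverage S) (GaS S) 1).obj (GmS S)) :=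
  (congrArg (fun F => IsZero (F.obj (GmS S))) (HomSh.extSh_def _ (GaS S) 1)).mpr
    (@isZero_extSh_aux S _ _ _ _ _ (EtMVLib.injSES_shortExact (GmS S)) inferInstance p hp hpS)

end Groth.Agent.GaExt80
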