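import Groth.Agent.Adeq2Lib.AffineVanish
import Groth.Agent.GaDual80.Univ

/-!
# The additive group is acyclic on affine schemes
-/

set_option autoImplicit false
set_option backward.isDefEq.respectTransparency.types false
set_option linter.style.haveILetI false

universe u

open CategoryTheory Limits AlgebraicGeometry Opposite TensorProduct
open Groth.Agent.Adeq2Lib Groth.Agent.AdeqFound

namespace Groth.Agent.GaExt80

open GaDual80 (GaS afn afn_ext afn_add afn_res exists_afn)

variable (S : Scheme.{u})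

/-- The value of a function. -/
noncomputable def uv {R : CommRingCat.{u}} (a : Spec R ⟶ S) (B : Adeq.Alg R)
    (x : ((Adeq.toMVF Scheme.fppfPrecoverage a).obj (BigSite.unitMod Scheme.fppfPrecoverage S)).obj (Adeq.pt B)) :
    (B : Type u) :=
  (Scheme.ΓSpecIso (CommRingCat.of (B : Type u))).hom x.down

/-- The value of a function, linearly. -/
noncomputable def uvL {R : CommRingCat.{u}} (a : Spec R ⟶ S) (B : Adeq.Alg R) :
    ((Adeq.toMVF Scheme.fppfPrecoverage a).obj (BigSite.unitMod Scheme.fppfPrecoverage S)).obj (Adeq.pt B)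
      →ₗ[(B : Type u)] (B : Type u) where
  toFun := uv S a B
  map_add' x y := map_add (Scheme.ΓSpecIso (CommRingCat.of (B : Type u))).hom.hom _ _
  map_smul' b x := by
    show (Scheme.ΓSpecIso (CommRingCat.of (B : Type u))).hom.hom
      ((Scheme.ΓSpecIso (CommRingCat.of (B : Type u))).inv b *
        (show Γ(Spec (CommRingCat.of (B : Type u)), ⊤) from x.down)) = b * uv S a B x
    rw [map_mul]
    exact congrArg (· * uv S a B x) (Iso.inv_hom_id_apply (Scheme.ΓSpecIso (CommRingCat.of (B : Type u))) b)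

/-- The structure module is adequate. -/
theorem adequateMod_unitMod :
    Adeq.adequateMod Scheme.fppfPrecoverage S (BigSite.unitMod Scheme.fppfPrecoverage S) := by
  refine adequateMod_of_good _ fun R a => good_iff.2 ?_
  let M : ModuleCat.{u + 1} R := ModuleCat.of R (ULift.{u + 1} R)
  let one : M := ULift.up 1
  refine adequate_iff.2 ⟨M, M, 0, mkHom (fun B =>
    ((TensorProduct.AlgebraTensorModule.mk R (B : Type u) (B : Type u) M).flip one).comp (uvL S a B))
    (fun {B C} f x => by
      show uv S a C _ ⊗ₜ[R] one = f.hom.toLinearMap.rTensor M (uv S a B x ⊗ₜ[R] one)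
      rw [LinearMap.rTensor_tmul]
      exact congrArg (fun z => z ⊗ₜ[R] one)
        (ConcreteCategory.congr_hom (Scheme.ΓSpecIso_naturality (CommRingCat.ofHom f.hom.toRingHom)) x.down)),
    fun B => ⟨fun x y h => ?_, fun z => ⟨fun _ => ?_, fun _ => ?_⟩⟩⟩
  · have h2 : uv S a B x ⊗ₜ[R] one = uv S a B y ⊗ₜ[R] one := h
    have h' := congrArg (TensorProduct.lift (LinearMap.mk₂ R (fun (b : (B : Type u)) (r : M) => r.down • b)
      (fun _ _ _ => smul_add _ _ _) (fun _ _ _ => smul_comm _ _ _) (fun _ _ _ => add_smul _ _ _)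
      (fun _ _ _ => mul_smul _ _ _))) h2
    simp only [TensorProduct.lift.tmul, LinearMap.mk₂_apply, one, one_smul] at h'
    exact ULift.ext _ _ ((ConcreteCategory.bijective_of_isIso (Scheme.ΓSpecIso (CommRingCat.of (B : Type u))).hom).1 h')
  · have hz : ∃ b : (B : Type u), b ⊗ₜ[R] one = z := by
      clear * - one
      induction z using TensorProduct.induction_on with
      | zero => exact ⟨0, TensorProduct.zero_tmul _ _⟩
      | tmul b r =>
        refine ⟨r.down • b, ?_⟩
        rw [TensorProduct.smul_tmul]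
        exact congrArg (fun w => b ⊗ₜ[R] w) (ULift.ext _ _ (mul_one r.down))
      | add x y hx hy =>
        obtain ⟨b, rfl⟩ := hx
        obtain ⟨c, rfl⟩ := hy
        exact ⟨b + c, TensorProduct.add_tmul _ _ _⟩
    obtain ⟨b, hb⟩ := hz
    refine ⟨ULift.up ((Scheme.ΓSpecIso (CommRingCat.of (B : Type u))).inv b), ?_⟩
    refine Eq.trans ?_ hb
    show uv S a B _ ⊗ₜ[R] one = b ⊗ₜ[R] one
    exact congrArg (fun w => w ⊗ₜ[R] one) (Iso.inv_hom_id_apply (Scheme.ΓSpecIso (CommRingCat.of (B : Type u))) b)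
  · rw [ap_underline, ModuleCat.hom_zero, LinearMap.baseChange_zero]
    rfl

/-- The additive group is the abelian sheaf of the structure module. -/
theorem nonempty_iso_unit :
    Nonempty (GaS S ≅ (BigSite.toAbMod Scheme.fppfPrecoverage S).obj (BigSite.unitMod Scheme.fppfPrecoverage S)) := by
  let η : (GaS S).obj ⟶ ((BigSite.toAbMod Scheme.fppfPrecoverage S).obj (BigSite.unitMod Scheme.fppfPrecoverage S)).obj :=
    { app := fun W => AddCommGrpCat.ofHom (X := (GaS S).obj.obj W)
        (Y := ((BigSite.toAbMod Scheme.fppfPrecoverage S).obj (BigSite.unitMod Scheme.fppfPrecoverage S)).obj.obj W)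
        (AddMonoidHom.mk' (fun x => ULift.up (afn (T := W.unop) x)) fun x y => ULift.ext _ _ (afn_add x y))
      naturality := fun W W' g => AddCommGrpCat.ext fun x => ULift.ext _ _ (afn_res g.unop x) }
  haveI : ∀ W, IsIso (η.app W) := fun W => by
    refine (ConcreteCategory.isIso_iff_bijective _).2 ⟨fun x y h => afn_ext (T := W.unop) (congrArg ULift.down (id h : (ULift.up (afn (T := W.unop) x) : ULift.{u+1} _) = ULift.up (afn (T := W.unop) y))), fun v => ?_⟩
    obtain ⟨x, hx⟩ := exists_afn (T := W.unop) v.down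
    exact ⟨x, ULift.ext _ _ hx⟩
  haveI : IsIso η := NatIso.isIso_of_isIso_app η
  haveI : IsIso ((sheafToPresheaf _ _).map (⟨η⟩ : GaS S ⟶
      (BigSite.toAbMod Scheme.fppfPrecoverage S).obj (BigSite.unitMod Scheme.fppfPrecoverage S))) := this
  haveI := isIso_of_reflects_iso (⟨η⟩ : GaS S ⟶
      (BigSite.toAbMod Scheme.fppfPrecoverage S).obj (BigSite.unitMod Scheme.fppfPrecoverage S)) (sheafToPresheaf _ _)
  exact ⟨asIso (⟨η⟩ : GaS S ⟶ (BigSite.toAbMod Scheme.fppfPrecoverage S).obj (BigSite.unitMod Scheme.fppfPrecoverage S))⟩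

/-- The additive group has no higher cohomology on an affine scheme. -/
theorem subsingleton_H_Ga [IsAffine S] (i : ℕ) (hi : 0 < i) :
    Subsingleton (BigSite.H Scheme.fppfPrecoverage S (GaS S) i) := by
  obtain ⟨n, rfl⟩ : ∃ n, i = n + 1 := ⟨i - 1, by omega⟩
  have h : Subsingleton (Sheaf.H ((BigSite.toAbMod Scheme.fppfPrecoverage S).obj
      (BigSite.unitMod Scheme.fppfPrecoverage S)) (n + 1)) :=
    AffVan.subsingleton_H n _ (AffVan.acy_toAbMod _ (adequateMod_unitMod S))
  obtain ⟨e⟩ := nonempty_iso_unit S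
  refine ⟨fun x y => ?_⟩
  have key : ∀ z : Sheaf.H (GaS S) (n + 1), Sheaf.H.map e.inv (n + 1) (Sheaf.H.map e.hom (n + 1) z) = z := fun z => by
    simp [Sheaf.H.map_apply]
  rw [← key x, ← key y]
  exact congrArg _ (Subsingleton.elim _ _)

end Groth.Agent.GaExt80
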