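import Groth.Agent.GaExt80.Lift
import Groth.Agent.GaExt80.ExtOne
import Groth.Agent.AbSchX.SheafSect

/-!
# Torsors under sheaves of homomorphisms into the multiplicative group
-/

set_option autoImplicit false
set_option backward.isDefEq.respectTransparency.types false
set_option linter.style.haveILetI false

universe u

open CategoryTheory Limits AlgebraicGeometry Opposite Abelian
open Groth.Agent.Adeq2Lib Groth.Agent.DualNorm79 Groth.Agent.DualGm79

namespace Groth.Agent.GaExt80

namespace HomTorsor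

variable {S : Scheme.{u}} {F J R : AffVan.AbT S} (i : dualS F ⟶ J) (q : J ⟶ R)
  (r : R.obj.obj (op (Over.mk (𝟙 S))))

/-- The structure map to the final object. -/
noncomputable abbrev tg (W : Over S) : W ⟶ Over.mk (𝟙 S) := Over.homMk W.hom (Category.comp_id _)

theorem comp_tg {W W' : Over S} (m : W' ⟶ W) : m ≫ tg W = tg W' :=
  Over.OverMorphism.ext (Over.w m)

/-- The liftings over a test object. -/
def Lifts (W : Over S) : Type (u + 1) :=
  {j : J.obj.obj (op W) // (q.hom.app (op W)).hom j = AffVan.rA R (tg W) r}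

variable {i q r}

/-- Restriction of liftings. -/
noncomputable def resL {W W' : Over S} (m : W' ⟶ W) (j : Lifts q r W) : Lifts q r W' :=
  ⟨AffVan.rA J m j.1, by rw [nat_res, j.2, AffVan.rA_comp, comp_tg]⟩

theorem resL_id {W : Over S} (j : Lifts q r W) : resL (𝟙 W) j = j := Subtype.ext (AffVan.rA_id J j.1)

theorem resL_comp {W W' W'' : Over S} (m : W' ⟶ W) (n : W'' ⟶ W') (j : Lifts q r W) :
    resL n (resL m j) = resL (n ≫ m) j := Subtype.ext (AffVan.rA_comp J n m j.1)

variable (hi : ∀ W, Function.Injective (i.hom.app (op W)).hom)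
  (hex : ∀ (W : Over S) (v : J.obj.obj (op W)),
    (q.hom.app (op W)).hom v = 0 ↔ ∃ χ, (i.hom.app (op W)).hom χ = v)

include hex in
theorem exists_diff {W : Over S} (j j' : Lifts q r W) : ∃ χ, (i.hom.app (op W)).hom χ = j.1 - j'.1 :=
  (hex W _).1 (by rw [map_sub, j.2, j'.2, sub_self])

/-- The difference of two liftings. -/
noncomputable def diff {W : Over S} (j j' : Lifts q r W) : (dualS F).obj.obj (op W) := (exists_diff hex j j').choose

theorem i_diff {W : Over S} (j j' : Lifts q r W) : (i.hom.app (op W)).hom (diff hex j j') = j.1 - j'.1 :=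
  (exists_diff hex j j').choose_spec

include hi in
theorem diff_trans {W : Over S} (j j' j'' : Lifts q r W) : diff hex j j'' = diff hex j j' + diff hex j' j'' :=
  hi W (by rw [map_add, i_diff, i_diff, i_diff, sub_add_sub_cancel])

include hi in
theorem res_diff {W W' : Over S} (m : W' ⟶ W) (j j' : Lifts q r W) :
    AffVan.rA (dualS F) m (diff hex j j') = diff hex (resL m j) (resL m j') :=
  hi W' (by rw [nat_res, i_diff, i_diff, map_sub]; rfl)

/-- Evaluation of a section of the dual. -/
noncomputable def ev {W : Over S} (χ : (dualS F).obj.obj (op W)) : F.obj.obj (op W) →+ (GmS S).obj.obj (op W) :=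
  val (show F.over W ⟶ (GmS S).over W from χ) (𝟙 W)

theorem ev_add {W : Over S} (χ χ' : (dualS F).obj.obj (op W)) : ev (χ + χ') = ev χ + ev χ' := rfl

theorem res_ev {W W' : Over S} (m : W' ⟶ W) (χ : (dualS F).obj.obj (op W)) (x : F.obj.obj (op W)) :
    AffVan.rA (GmS S) m (ev χ x) = ev (AffVan.rA (dualS F) m χ) (AffVan.rA F m x) := by
  rw [ev, val_res _ m (𝟙 W) m (Category.comp_id m)]
  show val _ m _ = val _ (𝟙 W' ≫ m) _
  rw [Category.id_comp]

theorem ev_res_val {U W : Over S} (k : U ⟶ W) (χ : (dualS F).obj.obj (op W)) (x : F.obj.obj (op U)) :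
    ev (AffVan.rA (dualS F) k χ) x = val (show F.over W ⟶ (GmS S).over W from χ) k x := by
  show val _ (𝟙 U ≫ k) _ = _
  rw [Category.id_comp]

variable (q r F) in
/-- The restriction of families indexed by liftings. -/
noncomputable def Pres {W W' : Over S} (m : W' ⟶ W) :
    (Lifts q r W →₀ F.obj.obj (op W)) →+ (Lifts q r W' →₀ F.obj.obj (op W')) :=
  Finsupp.liftAddHom fun j => (Finsupp.singleAddHom (resL m j)).comp (AffVan.rA F m)

@[simp] theorem Pres_single {W W' : Over S} (m : W' ⟶ W) (j : Lifts q r W) (x : F.obj.obj (op W)) :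
    Pres F q r m (Finsupp.single j x) = Finsupp.single (resL m j) (AffVan.rA F m x) := by
  simp [Pres]

variable (q r F) in
/-- The sum of a family. -/
noncomputable def aug (W : Over S) : (Lifts q r W →₀ F.obj.obj (op W)) →+ F.obj.obj (op W) :=
  Finsupp.liftAddHom fun _ => AddMonoidHom.id _

theorem aug_Pres {W W' : Over S} (m : W' ⟶ W) (k : Lifts q r W →₀ F.obj.obj (op W)) :
    aug F q r W' (Pres F q r m k) = AffVan.rA F m (aug F q r W k) := by
  induction k using Finsupp.induction_linear with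
  | zero => simp
  | add f g hf hg => simp [hf, hg]
  | single j x => simp [aug]

variable (q r F) in
/-- The presheaf of families. -/
noncomputable def Pre : (Over S)ᵒᵖ ⥤ AddCommGrpCat.{u + 1} where
  obj W := AddCommGrpCat.of (Lifts q r W.unop →₀ F.obj.obj W)
  map m := AddCommGrpCat.ofHom (Pres F q r m.unop)
  map_id W := AddCommGrpCat.hom_ext (Finsupp.addHom_ext fun j x => by
    show Pres F q r (𝟙 W.unop) (Finsupp.single j x) = Finsupp.single j x
    rw [Pres_single, resL_id, AffVan.rA_id])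
  map_comp f g := AddCommGrpCat.hom_ext (Finsupp.addHom_ext fun j x => by
    show Pres F q r (g.unop ≫ f.unop) (Finsupp.single j x) =
      Pres F q r g.unop (Pres F q r f.unop (Finsupp.single j x))
    rw [Pres_single, Pres_single, Pres_single, resL_comp, AffVan.rA_comp])

variable (q r F) in
/-- The families with vanishing sum. -/
noncomputable def Ker : (Over S)ᵒᵖ ⥤ AddCommGrpCat.{u + 1} where
  obj W := AddCommGrpCat.of ↥(aug F q r W.unop).ker
  map {W W'} m := AddCommGrpCat.ofHom (((Pres F q r m.unop).comp (aug F q r W.unop).ker.subtype).codRestrict _ fun k => by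
    rw [AddMonoidHom.mem_ker]
    exact (aug_Pres m.unop k.1).trans ((congrArg _ (AddMonoidHom.mem_ker.1 k.2)).trans (map_zero _)))
  map_id W := AddCommGrpCat.hom_ext (AddMonoidHom.ext fun k => Subtype.ext (by
    show Pres F q r (𝟙 W.unop) k.1 = k.1
    exact ConcreteCategory.congr_hom ((Pre F q r).map_id W) (k : ↥(aug F q r W.unop).ker).1))
  map_comp {W W' W''} f g := AddCommGrpCat.hom_ext (AddMonoidHom.ext fun k => Subtype.ext (by
    show Pres F q r (g.unop ≫ f.unop) (k : ↥(aug F q r W.unop).ker).1 =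
      Pres F q r g.unop (Pres F q r f.unop (k : ↥(aug F q r W.unop).ker).1)
    exact ConcreteCategory.congr_hom ((Pre F q r).map_comp f g) (k : ↥(aug F q r W.unop).ker).1))

variable (q r F) in
/-- The inclusion. -/
noncomputable def incl : Ker F q r ⟶ Pre F q r where
  app W := AddCommGrpCat.ofHom (aug F q r W.unop).ker.subtype
  naturality _ _ _ := rfl

theorem mono_incl : Mono (incl F q r) := by
  haveI : ∀ W, Mono ((incl F q r).app W) := fun W =>
    (AddCommGrpCat.mono_iff_injective _).2 Subtype.val_injective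
  exact NatTrans.mono_of_mono_app _

/-- The map on families attached to a base lifting. -/
noncomputable def th {W : Over S} (j₀ : Lifts q r W) :
    (Lifts q r W →₀ F.obj.obj (op W)) →+ (GmS S).obj.obj (op W) :=
  Finsupp.liftAddHom fun j => ev (diff hex j j₀)

include hi in
theorem th_indep {W : Over S} (j₀ j₁ : Lifts q r W) (k : Lifts q r W →₀ F.obj.obj (op W)) :
    th hex j₀ k = th hex j₁ k + ev (diff hex j₁ j₀) (aug F q r W k) := by
  induction k using Finsupp.induction_linear with
  | zero => simp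
  | add f g hf hg => simp only [map_add, hf, hg]; abel
  | single j x =>
    simp only [th, aug, Finsupp.liftAddHom_apply_single, AddMonoidHom.id_apply]
    rw [diff_trans hi hex j j₁ j₀, ev_add]
    rfl

open Classical in
/-- The canonical map on families with vanishing sum. -/
noncomputable def thK (W : Over S) : ↥(aug F q r W).ker →+ (GmS S).obj.obj (op W) :=
  if h : Nonempty (Lifts q r W) then (th hex h.some).comp (aug F q r W).ker.subtype else 0

include hi in
theorem thK_eq {W : Over S} (j₀ : Lifts q r W) (k : ↥(aug F q r W).ker) : thK hex W k = th hex j₀ k.1 := by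
  rw [thK, dif_pos ⟨j₀⟩]
  show th hex _ k.1 = th hex j₀ k.1
  rw [th_indep hi hex _ j₀, AddMonoidHom.mem_ker.1 k.2, map_zero, add_zero]

include hi in
theorem th_Pres {W W' : Over S} (m : W' ⟶ W) (j₀ : Lifts q r W) (k : Lifts q r W →₀ F.obj.obj (op W)) :
    th hex (resL m j₀) (Pres F q r m k) = AffVan.rA (GmS S) m (th hex j₀ k) := by
  induction k using Finsupp.induction_linear with
  | zero => simp
  | add f g hf hg => simp only [map_add, hf, hg]
  | single j x =>
    rw [Pres_single]
    simp only [th, Finsupp.liftAddHom_apply_single]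
    rw [res_ev, res_diff hi]

variable {I Q : AffVan.AbT S} (jI : GmS S ⟶ I)

/-- The canonical map on families with vanishing sum, as a map of presheaves. -/
noncomputable def thNat : Ker F q r ⟶ I.obj where
  app W := AddCommGrpCat.ofHom ((jI.hom.app W).hom.comp (thK hex W.unop))
  naturality W W' m := AddCommGrpCat.hom_ext (AddMonoidHom.ext fun k => by
    show (jI.hom.app (op W'.unop)).hom (thK hex W'.unop ((Ker F q r).map m k)) =
      AffVan.rA I m.unop ((jI.hom.app (op W.unop)).hom (thK hex W.unop k))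
    rw [← nat_res]
    refine congrArg _ ?_
    by_cases h : Nonempty (Lifts q r W.unop)
    · obtain ⟨j₀⟩ := h
      rw [thK_eq hi hex (resL m.unop j₀), thK_eq hi hex j₀]
      exact th_Pres hi hex m.unop j₀ k.1
    · haveI : IsEmpty (Lifts q r W.unop) := not_nonempty_iff.1 h
      have hk : k = 0 := Subtype.ext (Finsupp.ext fun j => isEmptyElim j)
      rw [hk, map_zero]
      exact (map_zero (thK hex W'.unop)).trans
        ((congrArg _ (map_zero (thK hex W.unop))).trans (map_zero _)).symm)

theorem single_sub_mem {W : Over S} (j j' : Lifts q r W) (x : F.obj.obj (op W)) :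
    Finsupp.single j x - Finsupp.single j' x ∈ (aug F q r W).ker := by
  rw [AddMonoidHom.mem_ker, map_sub]
  simp [aug]

include hi hex in
/-- Sections lift if homomorphisms lift along an injective embedding of the multiplicative group. -/
theorem exists_lift [Injective I] [Epi q] (π : I ⟶ Q) (w₀ : jI ≫ π = 0)
    (hE : (ShortComplex.mk jI π w₀).ShortExact) (hl : ∀ f : F ⟶ Q, ∃ g : F ⟶ I, g ≫ π = f) :
    ∃ z, (q.hom.app (op (Over.mk (𝟙 S)))).hom z = r := by
  classical
  haveI : Injective ((sheafToPresheaf (QuotSh.J Scheme.fppfPrecoverage S) AddCommGrpCat.{u + 1}).obj I) :=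
    Injective.injective_of_adjoint (sheafificationAdjunction _ AddCommGrpCat.{u + 1}) I
  haveI : Injective I.obj := ‹Injective ((sheafToPresheaf _ AddCommGrpCat.{u + 1}).obj I)›
  haveI := mono_incl (F := F) (q := q) (r := r)
  let Θ : Pre F q r ⟶ I.obj := Injective.factorThru (thNat hi hex jI) (incl F q r)
  have hΘ : incl F q r ≫ Θ = thNat hi hex jI := Injective.comp_factorThru _ _
  let ps : ∀ {W : Over S}, Lifts q r W → F.obj.obj (op W) → I.obj.obj (op W) := fun {W} j x =>
    (Θ.app (op W)).hom (Finsupp.single j x : Lifts q r W →₀ F.obj.obj (op W))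
  have ps_add : ∀ {W : Over S} (j : Lifts q r W) (x y : F.obj.obj (op W)), ps j (x + y) = ps j x + ps j y :=
    fun {W} j x y => (congrArg (Θ.app (op W)).hom (Finsupp.single_add j x y)).trans (map_add _ _ _)
  have ps_res : ∀ {W W' : Over S} (m : W' ⟶ W) (j : Lifts q r W) (x : F.obj.obj (op W)),
      AffVan.rA I m (ps j x) = ps (resL m j) (AffVan.rA F m x) := fun {W W'} m j x => by
    refine (ConcreteCategory.congr_hom (Θ.naturality m.op) _).symm.trans ?_
    exact congrArg (Θ.app (op W')).hom (Pres_single m j x)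
  have ps_sub : ∀ {W : Over S} (j j' : Lifts q r W) (x : F.obj.obj (op W)),
      ps j x - ps j' x = (jI.hom.app (op W)).hom (ev (diff hex j j') x) := fun {W} j j' x => by
    show (Θ.app (op W)).hom (Finsupp.single j x : Lifts q r W →₀ F.obj.obj (op W)) -
      (Θ.app (op W)).hom (Finsupp.single j' x : Lifts q r W →₀ F.obj.obj (op W)) = _
    rw [← map_sub]
    refine (ConcreteCategory.congr_hom (congr_app hΘ (op W)) ⟨_, single_sub_mem j j' x⟩).trans ?_
    show (jI.hom.app (op W)).hom (thK hex W _) = _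
    rw [thK_eq hi hex j']
    refine congrArg _ ?_
    simp only [th, map_sub, Finsupp.liftAddHom_apply_single]
    rw [sub_eq_self]
    have hself : diff hex j' j' = 0 := hi W (by rw [i_diff, sub_self, map_zero])
    rw [hself]
    rfl
  let cQ : ∀ {W : Over S}, Lifts q r W → F.obj.obj (op W) → Q.obj.obj (op W) := fun {W} j x =>
    (π.hom.app (op W)).hom (ps j x)
  have cQ_indep : ∀ {W : Over S} (j j' : Lifts q r W) (x : F.obj.obj (op W)), cQ j x = cQ j' x := fun j j' x => by
    rw [← sub_eq_zero]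
    show (π.hom.app _).hom _ - (π.hom.app _).hom _ = 0
    rw [← map_sub, ps_sub, π_jI hE]
  have cQ_res : ∀ {W W' : Over S} (m : W' ⟶ W) (j : Lifts q r W) (x : F.obj.obj (op W)),
      AffVan.rA Q m (cQ j x) = cQ (resL m j) (AffVan.rA F m x) := fun m j x => by
    show AffVan.rA Q m ((π.hom.app _).hom _) = _
    rw [← nat_res, ps_res]
  have hloc : ∀ W : Over S, ∃ V ∈ QuotSh.J Scheme.fppfPrecoverage S W,
      ∀ ⦃W' : Over S⦄ (m : W' ⟶ W), V m → Nonempty (Lifts q r W') := fun W => by
    obtain ⟨V, hV, k⟩ := AbSchX.SheafSect.local_of_epi q W (AffVan.rA R (tg W) r)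
    refine ⟨V, hV, fun W' m hm => ?_⟩
    obtain ⟨y, hy⟩ := k m hm
    exact ⟨⟨y, hy.trans ((AffVan.rA_comp R m (tg W) r).trans (by rw [comp_tg]))⟩⟩
  have hf₀ : ∀ (W : Over S) (x : F.obj.obj (op W)), ∃ v : Q.obj.obj (op W),
      ∀ ⦃W' : Over S⦄ (m : W' ⟶ W) (j : Lifts q r W'), AffVan.rA Q m v = cQ j (AffVan.rA F m x) := by
    intro W x
    obtain ⟨V, hV, k⟩ := hloc W
    obtain ⟨v, hv⟩ := AbSchX.SheafSect.glue Q
      (fun W' m v => Nonempty (Lifts q r W') ∧ ∀ j : Lifts q r W', v = cQ j (AffVan.rA F m x))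
      (fun W' W'' m n v ⟨⟨j₀⟩, hv⟩ => ⟨⟨resL n j₀⟩, fun j => by
        rw [hv j₀]
        refine (cQ_res n j₀ _).trans ?_
        rw [AffVan.rA_comp]
        exact cQ_indep _ _ _⟩)
      (fun W' m v v' ⟨⟨j₀⟩, hv⟩ ⟨_, hv'⟩ => (hv j₀).trans (hv' j₀).symm) hV
      (fun W' m hm => ⟨cQ (k m hm).some (AffVan.rA F m x), k m hm, fun j => cQ_indep _ _ _⟩)
    refine ⟨v, fun W' m j => AbSchX.SheafSect.ext_of_local Q ((QuotSh.J Scheme.fppfPrecoverage S).pullback_stable m hV)
      fun W'' n hn => ?_⟩
    show AffVan.rA Q n (AffVan.rA Q m v) = AffVan.rA Q n (cQ j (AffVan.rA F m x))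
    rw [AffVan.rA_comp, cQ_res, AffVan.rA_comp]
    exact (hv (n ≫ m) hn).2 (resL n j)
  choose f₀ hf₀ using hf₀
  have f₀_uniq : ∀ (W : Over S) (x : F.obj.obj (op W)) (v : Q.obj.obj (op W)),
      (∀ ⦃W' : Over S⦄ (m : W' ⟶ W) (j : Lifts q r W'), AffVan.rA Q m v = cQ j (AffVan.rA F m x)) →
        f₀ W x = v := fun W x v hv => by
    obtain ⟨V, hV, k⟩ := hloc W
    refine AbSchX.SheafSect.ext_of_local Q hV fun W' m hm => ?_
    show AffVan.rA Q m (f₀ W x) = AffVan.rA Q m v
    rw [hf₀ W x m (k m hm).some, hv m (k m hm).some]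
  let f : F ⟶ Q := ⟨{
    app := fun W => AddCommGrpCat.ofHom (AddMonoidHom.mk' (f₀ W.unop) fun x y => f₀_uniq _ _ _ fun W' m j => by
      rw [map_add, hf₀ _ x m j, hf₀ _ y m j]
      show (π.hom.app _).hom _ + (π.hom.app _).hom _ = (π.hom.app _).hom _
      rw [← map_add, ← ps_add, map_add])
    naturality := fun W W' n => AddCommGrpCat.ext fun x => f₀_uniq _ _ _ fun W'' m j => by
      show AffVan.rA Q m (AffVan.rA Q n.unop (f₀ W.unop x)) = cQ j (AffVan.rA F m (AffVan.rA F n.unop x))
      rw [AffVan.rA_comp, AffVan.rA_comp]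
      exact hf₀ _ x (m ≫ n.unop) j }⟩
  have hf : ∀ {W : Over S} (j : Lifts q r W) (x : F.obj.obj (op W)),
      (f.hom.app (op W)).hom x = cQ j x := fun {W} j x => by
    have h := hf₀ W x (𝟙 W) j
    rw [AffVan.rA_id, AffVan.rA_id] at h
    exact h
  obtain ⟨g, hg⟩ := hl f
  have hg' : ∀ {W : Over S} (x : F.obj.obj (op W)),
      (π.hom.app (op W)).hom ((g.hom.app (op W)).hom x) = (f.hom.app (op W)).hom x := fun {W} x => by
    rw [← hg]; rfl
  have hpre : ∀ (W : Over S) (j : Lifts q r W) (x : F.obj.obj (op W)),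
      ∃ m, (jI.hom.app (op W)).hom m = ps j x - (g.hom.app (op W)).hom x := fun W j x => by
    refine exists_jI_eq hE _ ?_
    rw [map_sub, hg', hf j x]
    exact sub_self _
  choose φ₀ hφ₀ using hpre
  have φ₀_add : ∀ {W : Over S} (j : Lifts q r W) (x y : F.obj.obj (op W)), φ₀ _ j (x + y) = φ₀ _ j x + φ₀ _ j y :=
    fun {W} j x y => by
      refine jI_injective hE W ?_
      rw [map_add, hφ₀, hφ₀, hφ₀, map_add, ps_add]
      abel
  have φ₀_res : ∀ {W W' : Over S} (m : W' ⟶ W) (j : Lifts q r W) (x : F.obj.obj (op W)),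
      AffVan.rA (GmS S) m (φ₀ _ j x) = φ₀ _ (resL m j) (AffVan.rA F m x) := fun {W W'} m j x => by
      refine jI_injective hE W' ?_
      rw [nat_res, hφ₀, hφ₀, map_sub, ps_res, ← nat_res]
  let φ : ∀ {W : Over S}, Lifts q r W → (dualS F).obj.obj (op W) := fun {W} j =>
    mkHom (F := F) (G := GmS S) (Y := W) (fun U k => AddMonoidHom.mk' (φ₀ _ (resL k j)) (φ₀_add (resL k j)))
      fun U U' m k k' hk x => by
        refine (φ₀_res m (resL k j) x).trans ?_
        rw [resL_comp, hk]
        rfl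
  have hφ : ∀ {U W : Over S} (k : U ⟶ W) (j : Lifts q r W) (x : F.obj.obj (op U)),
      (jI.hom.app (op U)).hom (ev (AffVan.rA (dualS F) k (φ j)) x) =
        ps (resL k j) x - (g.hom.app (op U)).hom x := fun {U W} k j x => by
    rw [ev_res_val]
    exact hφ₀ _ (resL k j) x
  have hφ_res : ∀ {W W' : Over S} (m : W' ⟶ W) (j : Lifts q r W),
      AffVan.rA (dualS F) m (φ j) = φ (resL m j) := fun {W W'} m j => by
    refine val_ext (F := F) (G := GmS S) (Y := W') fun U k x => jI_injective hE _ ?_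
    rw [← ev_res_val, ← ev_res_val, AffVan.rA_comp, hφ, hφ, resL_comp]
  have hφ_diff : ∀ {W : Over S} (j j' : Lifts q r W), φ j = φ j' + diff hex j j' := fun {W} j j' => by
    refine val_ext (F := F) (G := GmS S) (Y := W) fun U k x => jI_injective hE _ ?_
    rw [← ev_res_val, ← ev_res_val, map_add (AffVan.rA (dualS F) k), ev_add]
    show _ = (jI.hom.app (op U)).hom (ev _ x + ev _ x)
    rw [map_add, hφ, hφ, res_diff hi, ← ps_sub]
    abel
  obtain ⟨V, hV, k⟩ := hloc (Over.mk (𝟙 S))
  let fix : ∀ {W : Over S}, Lifts q r W → J.obj.obj (op W) := fun {W} j => j.1 - (i.hom.app (op W)).hom (φ j)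
  have fix_eq : ∀ {W : Over S} (j j' : Lifts q r W), fix j = fix j' := fun {W} j j' => by
    show j.1 - _ = j'.1 - _
    rw [hφ_diff j j', map_add, i_diff]
    abel
  have fix_res : ∀ {W W' : Over S} (m : W' ⟶ W) (j : Lifts q r W), AffVan.rA J m (fix j) = fix (resL m j) :=
    fun {W W'} m j => by
    show AffVan.rA J m (j.1 - _) = _
    rw [map_sub, ← nat_res, hφ_res]
    rfl
  obtain ⟨z, hz⟩ := AbSchX.SheafSect.glue J
    (fun W' _ v => ∃ j : Lifts q r W', v = fix j)
    (fun W' W'' m n v ⟨j, hv⟩ => ⟨resL n j, by rw [hv]; exact fix_res n j⟩)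
    (fun W' m v v' ⟨j, hv⟩ ⟨j', hv'⟩ => by rw [hv, hv', fix_eq j j']) hV
    (fun W' m hm => ⟨fix (k m hm).some, (k m hm).some, rfl⟩)
  refine ⟨z, AbSchX.SheafSect.ext_of_local R hV fun W' m hm => ?_⟩
  obtain ⟨j, hj⟩ := hz m hm
  show AffVan.rA R m ((q.hom.app _).hom z) = AffVan.rA R m r
  rw [← nat_res]
  refine (congrArg (q.hom.app (op W')).hom hj).trans ?_
  rw [map_sub, (hex W' _).2 ⟨_, rfl⟩, sub_zero, j.2]
  exact congrArg (fun e => AffVan.rA R e r) (Over.OverMorphism.ext ((Category.comp_id _).symm.trans (Over.w m)).symm)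

end HomTorsor

/-- The first cohomology of the dual vanishes if homomorphisms lift along extensions by the multiplicative group. -/
theorem subsingleton_H_one_dualSh {S : Scheme.{u}} {F : AffVan.AbT S}
    (h : ∀ {I Q : AffVan.AbT S} (jI : GmS S ⟶ I) (π : I ⟶ Q) (w : jI ≫ π = 0),
      (ShortComplex.mk jI π w).ShortExact → Injective I → ∀ f : F ⟶ Q, ∃ g : F ⟶ I, g ≫ π = f) :
    Subsingleton (BigSite.H Scheme.fppfPrecoverage S (dualS F) 1) := by
  have hT : IsTerminal (Over.mk (𝟙 S)) := Over.mkIdTerminal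
  let E := EtMVLib.injSES (dualS F)
  have hE : E.ShortExact := EtMVLib.injSES_shortExact (dualS F)
  refine subsingleton_of_forall_eq 0 fun x => ?_
  obtain ⟨y, rfl⟩ := EtMVLib.exists_eq_comp_extClass x
  haveI : Epi E.g := hE.epi_g
  haveI : Injective (EtMVLib.injSES (GmS S)).X₂ := inferInstanceAs (Injective (Injective.under (GmS S)))
  obtain ⟨z, hz⟩ := HomTorsor.exists_lift (i := E.f) (q := E.g) (r := Sheaf.H.equiv₀ E.X₃ hT y)
    (fun W => (AffVan.secA_exact _ hE W).1) (fun W v => ((AffVan.secA_exact _ hE W).2 v))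
    (EtMVLib.injSES (GmS S)).f (EtMVLib.injSES (GmS S)).g (EtMVLib.injSES (GmS S)).zero
    (EtMVLib.injSES_shortExact (GmS S)) (h _ _ _ (EtMVLib.injSES_shortExact (GmS S)) inferInstance)
  have hy : y = Sheaf.H.map E.g 0 ((Sheaf.H.equiv₀ E.X₂ hT).symm z) := by
    refine (Sheaf.H.equiv₀ E.X₃ hT).injective ?_
    rw [← Sheaf.H.equiv₀_naturality, AddEquiv.apply_symm_apply]
    exact hz.symm
  rw [hy, Sheaf.H.map_apply, Ext.comp_assoc_of_second_deg_zero, hE.comp_extClass, Ext.comp_zero]

end Groth.Agent.GaExt80
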