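import Groth.Agent.GaExt80.Desc
import Groth.Agent.GaDual80.Univ
import Groth.Agent.Adeq2Lib.AffineVanish
import Groth.Agent.GmField79.HOne
import Mathlib.RingTheory.FinitePresentation

/-!
# Liftings of sections along extensions by the multiplicative group, via Cech cocycles
-/

set_option autoImplicit false
set_option backward.isDefEq.respectTransparency.types false
set_option linter.style.haveILetI false

universe u

open CategoryTheory Limits AlgebraicGeometry Opposite MonObj TensorProduct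
open Groth.Agent.Adeq2Lib Groth.Agent.DualNorm79 Groth.Agent.DualGm79

namespace Groth.Agent.GaExt80

open GaDual80 (sMap)

variable {S : Scheme.{u}} {A : Type u} [CommRing A] (a : Spec (CommRingCat.of A) ⟶ S)
  (B : Type u) [CommRing B] [Algebra A B]

/-- The covering object. -/
noncomputable abbrev cv : Over S := Over.mk (sMap a (algebraMap A B))

/-- The covering map. -/
noncomputable abbrev cvMap : cv a B ⟶ Over.mk a := GaDual80.toBase a (algebraMap A B)

/-- The projections of the square. -/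
noncomputable abbrev pr₀ : cv a (B ⊗[A] B) ⟶ cv a B :=
  Over.homMk (Spec.map (CommRingCat.ofHom (Algebra.TensorProduct.includeLeftRingHom : B →+* B ⊗[A] B))) (by
    show _ ≫ _ ≫ a = _ ≫ a
    rw [← Category.assoc, ← Spec.map_comp]
    rfl)

/-- The projections of the square. -/
noncomputable abbrev pr₁ : cv a (B ⊗[A] B) ⟶ cv a B :=
  Over.homMk (Spec.map (CommRingCat.ofHom (Algebra.TensorProduct.includeRight : B →ₐ[A] B ⊗[A] B).toRingHom)) (by
    show _ ≫ _ ≫ a = _ ≫ a
    rw [← Category.assoc, ← Spec.map_comp]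
    exact congrArg (fun w => Spec.map w ≫ a) (CommRingCat.hom_ext (RingHom.ext fun c =>
      AlgHom.commutes (Algebra.TensorProduct.includeRight : B →ₐ[A] B ⊗[A] B) c)))

/-- A map between objects given by an algebra map. -/
noncomputable abbrev cvHom {C D : Type u} [CommRing C] [Algebra A C] [CommRing D] [Algebra A D] (f : C →ₐ[A] D) :
    cv a D ⟶ cv a C :=
  Over.homMk (Spec.map (CommRingCat.ofHom f.toRingHom)) (by
    show _ ≫ _ ≫ a = _ ≫ a
    rw [← Category.assoc, ← Spec.map_comp]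
    exact congrArg (fun w => Spec.map w ≫ a) (CommRingCat.hom_ext (RingHom.ext fun c => AlgHom.commutes f c)))

theorem cvHom_eq {C D : Type u} [CommRing C] [Algebra A C] [CommRing D] [Algebra A D] {E : Type u} [CommRing E]
    [Algebra A E] (f : C →ₐ[A] D) (g : D →ₐ[A] E) (h : C →ₐ[A] E) (hh : g.comp f = h) :
    cvHom a g ≫ cvHom a f = cvHom a h := by
  subst hh
  exact Over.OverMorphism.ext (Spec.map_comp _ _).symm

variable {I Q : AffVan.AbT S} {jI : GmS S ⟶ I} {π : I ⟶ Q} {w₀ : jI ≫ π = 0}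
  (hE : (ShortComplex.mk jI π w₀).ShortExact)

/-- The difference of the two restrictions to the square. -/
noncomputable def diff₂ (t : I.obj.obj (op (cv a B))) : I.obj.obj (op (cv a (B ⊗[A] B))) :=
  AffVan.rA I (pr₁ a B) t - AffVan.rA I (pr₀ a B) t

theorem nat_res {F G : AffVan.AbT S} (φ : F ⟶ G) {V W : Over S} (g : V ⟶ W) (x : F.obj.obj (op W)) :
    (φ.hom.app (op V)).hom (AffVan.rA F g x) = AffVan.rA G g ((φ.hom.app (op W)).hom x) :=
  ConcreteCategory.congr_hom (φ.hom.naturality g.op) x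

include hE in
theorem jI_injective (W : Over S) : Function.Injective (jI.hom.app (op W)).hom := (AffVan.secA_exact _ hE W).1

include hE in
theorem exists_jI_eq {W : Over S} (y : I.obj.obj (op W)) (hy : (π.hom.app (op W)).hom y = 0) :
    ∃ x, (jI.hom.app (op W)).hom x = y := ((AffVan.secA_exact _ hE W).2 y).1 hy

include hE in
theorem π_jI {W : Over S} (x : (GmS S).obj.obj (op W)) : (π.hom.app (op W)).hom ((jI.hom.app (op W)).hom x) = 0 :=
  ((AffVan.secA_exact _ hE W).2 _).2 ⟨x, rfl⟩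

/-- `t` is a lifting of `u` over the covering. -/
def IsLocLift (π : I ⟶ Q) (u : Q.obj.obj (op (Over.mk a))) (t : I.obj.obj (op (cv a B))) : Prop :=
  (π.hom.app (op (cv a B))).hom t = AffVan.rA Q (cvMap a B) u

variable {a B} {u : Q.obj.obj (op (Over.mk a))} {t : I.obj.obj (op (cv a B))}

include hE in
theorem exists_cocycle (ht : IsLocLift a B π u t) :
    ∃ z, (jI.hom.app (op (cv a (B ⊗[A] B)))).hom z = diff₂ a B t := by
  refine exists_jI_eq hE _ ?_
  rw [diff₂, map_sub, nat_res, nat_res, ht, AffVan.rA_comp, AffVan.rA_comp, sub_eq_zero]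
  congr 1
  refine congrArg (fun m => AffVan.rA Q m) (Over.OverMorphism.ext ?_)
  show Spec.map _ ≫ Spec.map _ = Spec.map _ ≫ Spec.map _
  rw [← Spec.map_comp, ← Spec.map_comp]
  exact congrArg Spec.map (CommRingCat.hom_ext (RingHom.ext fun c => by
    show (1 : B) ⊗ₜ[A] algebraMap A B c = algebraMap A B c ⊗ₜ[A] (1 : B)
    rw [Algebra.algebraMap_eq_smul_one, tmul_smul, smul_tmul']))

/-- The cocycle of a local lifting, as a section. -/
noncomputable def cocSec (ht : IsLocLift a B π u t) : (GmS S).obj.obj (op (cv a (B ⊗[A] B))) :=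
  (exists_cocycle hE ht).choose

theorem jI_cocSec (ht : IsLocLift a B π u t) :
    (jI.hom.app (op (cv a (B ⊗[A] B)))).hom (cocSec hE ht) = diff₂ a B t :=
  (exists_cocycle hE ht).choose_spec

/-- The cocycle of a local lifting. -/
noncomputable def coc (ht : IsLocLift a B π u t) : B ⊗[A] B := gv (cocSec hE ht)

theorem isUnit_gv {R : Type u} [CommRing R] {b : Spec (CommRingCat.of R) ⟶ S}
    (x : (GmS S).obj.obj (op (Over.mk b))) : IsUnit (gv x) :=
  ((GmPts.unitOfPt (Additive.toMul x.down)).isUnit).map (Scheme.ΓSpecIso (CommRingCat.of R)).hom.hom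

theorem isUnit_coc (ht : IsLocLift a B π u t) : IsUnit (coc hE ht) := isUnit_gv _

theorem isCoc_coc (ht : IsLocLift a B π u t) : IsCoc (coc hE ht) := by
  let d₀ : B ⊗[A] B →ₐ[A] B ⊗[A] (B ⊗[A] B) := Algebra.TensorProduct.includeRight
  let d₁ : B ⊗[A] B →ₐ[A] B ⊗[A] (B ⊗[A] B) :=
    Algebra.TensorProduct.map (AlgHom.id A B) Algebra.TensorProduct.includeRight
  let d₂ : B ⊗[A] B →ₐ[A] B ⊗[A] (B ⊗[A] B) :=
    Algebra.TensorProduct.map (AlgHom.id A B) Algebra.TensorProduct.includeLeft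
  let iL : B →ₐ[A] B ⊗[A] B := Algebra.TensorProduct.includeLeft
  let iR : B →ₐ[A] B ⊗[A] B := Algebra.TensorProduct.includeRight
  have key : AffVan.rA (GmS S) (cvHom a d₀) (cocSec hE ht) + AffVan.rA (GmS S) (cvHom a d₂) (cocSec hE ht) =
      AffVan.rA (GmS S) (cvHom a d₁) (cocSec hE ht) := by
    apply jI_injective hE
    rw [map_add, nat_res, nat_res, nat_res, jI_cocSec]
    have e : ∀ (d : B ⊗[A] B →ₐ[A] B ⊗[A] (B ⊗[A] B)), AffVan.rA I (cvHom a d) (diff₂ a B t) =
        AffVan.rA I (cvHom a (d.comp iR)) t - AffVan.rA I (cvHom a (d.comp iL)) t := fun d => by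
      rw [diff₂, map_sub, AffVan.rA_comp, AffVan.rA_comp, ← cvHom_eq a iR d _ rfl, ← cvHom_eq a iL d _ rfl]
      rfl
    rw [e, e, e]
    have e1 : d₀.comp iL = d₂.comp iR := AlgHom.ext fun b => rfl
    have e2 : d₁.comp iL = d₂.comp iL := AlgHom.ext fun b => rfl
    have e3 : d₁.comp iR = d₀.comp iR := AlgHom.ext fun b => rfl
    rw [e1, e2, e3]
    abel
  have h := congrArg gv key
  rw [gv_add, gv_res _ d₀.toRingHom rfl, gv_res _ d₂.toRingHom rfl, gv_res _ d₁.toRingHom rfl] at h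
  exact h

theorem cob_of_lift (ht : IsLocLift a B π u t) {z : I.obj.obj (op (Over.mk a))}
    (hz : (π.hom.app (op (Over.mk a))).hom z = u) : Cob (coc hE ht) := by
  obtain ⟨m, hm⟩ := exists_jI_eq hE (t - AffVan.rA I (cvMap a B) z) (by
    rw [map_sub, nat_res, hz]
    exact sub_eq_zero.2 ht)
  refine ⟨gv m, isUnit_gv m, ?_⟩
  have hc : AffVan.rA (GmS S) (pr₁ a B) m = cocSec hE ht + AffVan.rA (GmS S) (pr₀ a B) m := by
    apply jI_injective hE
    rw [map_add, nat_res, nat_res, jI_cocSec, hm, diff₂, map_sub, map_sub, AffVan.rA_comp, AffVan.rA_comp]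
    have : pr₁ a B ≫ cvMap a B = pr₀ a B ≫ cvMap a B := Over.OverMorphism.ext (by
      show Spec.map _ ≫ Spec.map _ = Spec.map _ ≫ Spec.map _
      rw [← Spec.map_comp, ← Spec.map_comp]
      exact congrArg Spec.map (CommRingCat.hom_ext (RingHom.ext fun c => by
        show (1 : B) ⊗ₜ[A] algebraMap A B c = algebraMap A B c ⊗ₜ[A] (1 : B)
        rw [Algebra.algebraMap_eq_smul_one, tmul_smul, smul_tmul'])))
    rw [this]
    abel
  have h := congrArg gv hc
  rw [gv_add, gv_res (pr₀ a B) (Algebra.TensorProduct.includeLeftRingHom : B →+* B ⊗[A] B) rfl,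
    gv_res (pr₁ a B) (Algebra.TensorProduct.includeRight : B →ₐ[A] B ⊗[A] B).toRingHom rfl] at h
  exact h

variable [Module.FaithfullyFlat A B] [LocallyOfFinitePresentation (Spec.map (CommRingCat.ofHom (algebraMap A B)))]

theorem cover_mem (a : Spec (CommRingCat.of A) ⟶ S) (B : Type u) [CommRing B] [Algebra A B]
    [Module.FaithfullyFlat A B] [LocallyOfFinitePresentation (Spec.map (CommRingCat.ofHom (algebraMap A B)))] :
    Sieve.generate (Presieve.ofArrows (fun _ : PUnit.{1} => (cv a B).left) fun _ => (cvMap a B).left) ∈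
      Scheme.fppfPrecoverage.toGrothendieck (Over.mk a).left :=
  haveI : Module.FaithfullyFlat (CommRingCat.of A) B := ‹Module.FaithfullyFlat A B›
  haveI : LocallyOfFinitePresentation (Spec.map (CommRingCat.ofHom (algebraMap (CommRingCat.of A) B))) :=
    ‹LocallyOfFinitePresentation (Spec.map (CommRingCat.ofHom (algebraMap A B)))›
  AffVan.cov_mem (R := CommRingCat.of A) a B

theorem lift_of_cob (ht : IsLocLift a B π u t) (h : Cob (coc hE ht)) :
    ∃ z, (π.hom.app (op (Over.mk a))).hom z = u := by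
  obtain ⟨m₀, hm₀, hrel⟩ := h
  obtain ⟨m, hm⟩ := exists_gv (sMap a (algebraMap A B)) hm₀.unit
  rw [IsUnit.unit_spec] at hm
  have hc : AffVan.rA (GmS S) (pr₁ a B) m = cocSec hE ht + AffVan.rA (GmS S) (pr₀ a B) m := by
    refine gv_ext ?_
    rw [gv_add, gv_res (pr₀ a B) (Algebra.TensorProduct.includeLeftRingHom : B →+* B ⊗[A] B) rfl,
      gv_res (pr₁ a B) (Algebra.TensorProduct.includeRight : B →ₐ[A] B ⊗[A] B).toRingHom rfl, hm]
    exact hrel
  let t' := t - (jI.hom.app (op (cv a B))).hom m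
  have hd : AffVan.rA I (pr₁ a B) t' = AffVan.rA I (pr₀ a B) t' := by
    have h1 := congrArg (jI.hom.app (op (cv a (B ⊗[A] B)))).hom hc
    rw [map_add, nat_res, nat_res, jI_cocSec, diff₂] at h1
    rw [map_sub, map_sub]
    linear_combination (norm := abel) -h1
  have hpb : IsPullback (Spec.map (CommRingCat.ofHom (Algebra.TensorProduct.includeLeftRingHom : B →+* B ⊗[A] B)))
      (Spec.map (CommRingCat.ofHom (Algebra.TensorProduct.includeRight : B →ₐ[A] B ⊗[A] B).toRingHom))
      (Spec.map (CommRingCat.ofHom (algebraMap A B))) (Spec.map (CommRingCat.ofHom (algebraMap A B))) :=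
    isPullback_SpecMap_of_isPushout _ _ _ _ (CommRingCat.isPushout_tensorProduct A B B)
  obtain ⟨z, hz⟩ := AffVan.glueA I (fun _ : PUnit.{1} => cv a B) (fun _ => cvMap a B) (cover_mem a B)
    (fun _ => t') fun _ _ W p q hpq => by
      let m₂ : W ⟶ cv a (B ⊗[A] B) :=
        Over.homMk (hpb.lift p.left q.left (congrArg CommaMorphism.left hpq)) (by
          show hpb.lift _ _ _ ≫ Spec.map (CommRingCat.ofHom (algebraMap A (B ⊗[A] B))) ≫ a = W.hom
          rw [← Over.w p]
          show _ = p.left ≫ Spec.map (CommRingCat.ofHom (algebraMap A B)) ≫ a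
          conv_rhs => rw [← hpb.lift_fst p.left q.left (congrArg CommaMorphism.left hpq), Category.assoc,
            ← Spec.map_comp_assoc]
          rfl)
      have h0 : m₂ ≫ pr₀ a B = p := Over.OverMorphism.ext (hpb.lift_fst _ _ _)
      have h1 : m₂ ≫ pr₁ a B = q := Over.OverMorphism.ext (hpb.lift_snd _ _ _)
      rw [← h0, ← h1, ← AffVan.rA_comp, ← AffVan.rA_comp, hd]
  refine ⟨z, AffVan.eq_of_cover Q (fun _ : PUnit.{1} => cv a B) (fun _ => cvMap a B) (cover_mem a B) _ _ fun _ => ?_⟩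
  rw [← nat_res, hz PUnit.unit, map_sub, π_jI hE, sub_zero]
  exact ht

omit [Module.FaithfullyFlat A B] [LocallyOfFinitePresentation (Spec.map (CommRingCat.ofHom (algebraMap A B)))] in
theorem coc_nat {A' : Type u} [CommRing A'] {a' : Spec (CommRingCat.of A') ⟶ S} {B' : Type u} [CommRing B']
    [Algebra A' B'] (ρ : A →+* A') (ψ : B →+* B') (hψ : ∀ c, ψ (algebraMap A B c) = algebraMap A' B' (ρ c))
    (m : Over.mk a' ⟶ Over.mk a) (hm : m.left = Spec.map (CommRingCat.ofHom ρ))
    (c : cv a' B' ⟶ cv a B) (hc : c.left = Spec.map (CommRingCat.ofHom ψ))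
    (ht : IsLocLift a B π u t) :
    ∃ ht' : IsLocLift a' B' π (AffVan.rA Q m u) (AffVan.rA I c t), coc hE ht' = sqMap ρ ψ hψ (coc hE ht) := by
  have ht' : IsLocLift a' B' π (AffVan.rA Q m u) (AffVan.rA I c t) := by
    rw [IsLocLift, nat_res, ht, AffVan.rA_comp, AffVan.rA_comp]
    refine congrArg (fun g => AffVan.rA Q g u) (Over.OverMorphism.ext ?_)
    show c.left ≫ Spec.map _ = Spec.map _ ≫ m.left
    rw [hc, hm, ← Spec.map_comp, ← Spec.map_comp]
    exact congrArg Spec.map (CommRingCat.hom_ext (RingHom.ext hψ))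
  refine ⟨ht', ?_⟩
  let c₂ : cv a' (B' ⊗[A'] B') ⟶ cv a (B ⊗[A] B) :=
    Over.homMk (Spec.map (CommRingCat.ofHom (sqMap ρ ψ hψ))) (by
      show _ ≫ _ ≫ a = _ ≫ a'
      have hw : m.left ≫ a = a' := Over.w m
      rw [← hw, hm, ← Category.assoc, ← Category.assoc, ← Spec.map_comp, ← Spec.map_comp]
      exact congrArg (fun w => Spec.map w ≫ a) (CommRingCat.hom_ext (RingHom.ext fun x => by
        show sqMap ρ ψ hψ (algebraMap A B x ⊗ₜ[A] (1 : B)) = algebraMap A' B' (ρ x) ⊗ₜ[A'] (1 : B')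
        rw [sqMap_tmul, hψ, map_one])))
  have e0 : pr₀ a' B' ≫ c = c₂ ≫ pr₀ a B := Over.OverMorphism.ext (by
    show Spec.map _ ≫ c.left = Spec.map _ ≫ Spec.map _
    rw [hc, ← Spec.map_comp, ← Spec.map_comp]
    exact congrArg Spec.map (CommRingCat.hom_ext (RingHom.ext fun x => by
      show ψ x ⊗ₜ[A'] (1 : B') = sqMap ρ ψ hψ (x ⊗ₜ[A] (1 : B))
      rw [sqMap_tmul, map_one])))
  have e1 : pr₁ a' B' ≫ c = c₂ ≫ pr₁ a B := Over.OverMorphism.ext (by
    show Spec.map _ ≫ c.left = Spec.map _ ≫ Spec.map _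
    rw [hc, ← Spec.map_comp, ← Spec.map_comp]
    exact congrArg Spec.map (CommRingCat.hom_ext (RingHom.ext fun x => by
      show (1 : B') ⊗ₜ[A'] ψ x = sqMap ρ ψ hψ ((1 : B) ⊗ₜ[A] x)
      rw [sqMap_tmul, map_one])))
  have hs : cocSec hE ht' = AffVan.rA (GmS S) c₂ (cocSec hE ht) := by
    apply jI_injective hE
    rw [nat_res, jI_cocSec, jI_cocSec, diff₂, diff₂, map_sub, AffVan.rA_comp, AffVan.rA_comp, AffVan.rA_comp,
      AffVan.rA_comp, e0, e1]
  rw [coc, hs, gv_res c₂ (sqMap ρ ψ hψ) rfl]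
  rfl

omit [Module.FaithfullyFlat A B] [LocallyOfFinitePresentation (Spec.map (CommRingCat.ofHom (algebraMap A B)))] in
theorem gv_nsmul {R : Type u} [CommRing R] {b : Spec (CommRingCat.of R) ⟶ S}
    (x : (GmS S).obj.obj (op (Over.mk b))) (n : ℕ) : gv (n • x) = gv x ^ n := by
  induction n with
  | zero => rw [zero_nsmul, gv_zero, pow_zero]
  | succ n ih => rw [succ_nsmul, gv_add, ih, pow_succ]

omit [Module.FaithfullyFlat A B] [LocallyOfFinitePresentation (Spec.map (CommRingCat.ofHom (algebraMap A B)))] in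
theorem coc_nsmul (ht : IsLocLift a B π u t) (n : ℕ) :
    ∃ ht' : IsLocLift a B π (n • u) (n • t), coc hE ht' = coc hE ht ^ n := by
  have ht' : IsLocLift a B π (n • u) (n • t) := by rw [IsLocLift, map_nsmul, map_nsmul, ht]
  refine ⟨ht', ?_⟩
  have hs : cocSec hE ht' = n • cocSec hE ht := by
    apply jI_injective hE
    rw [map_nsmul, jI_cocSec, jI_cocSec, diff₂, diff₂, map_nsmul, map_nsmul, nsmul_sub]
  rw [coc, hs, gv_nsmul]
  rfl

variable (a)

omit [Module.FaithfullyFlat A B] [LocallyOfFinitePresentation (Spec.map (CommRingCat.ofHom (algebraMap A B)))] in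
include hE in
/-- Liftings exist over a faithfully flat algebra of finite presentation. -/
theorem exists_locLift (u : Q.obj.obj (op (Over.mk a))) :
    ∃ (B : Type u) (_ : CommRing B) (_ : Algebra A B) (_ : Module.FaithfullyFlat A B)
      (_ : LocallyOfFinitePresentation (Spec.map (CommRingCat.ofHom (algebraMap A B))))
      (t : I.obj.obj (op (cv a B))), IsLocLift a B π u t := by
  haveI : Epi π := hE.epi_g
  obtain ⟨B, i₁, i₂, i₃, i₄, t, ht⟩ := AffVan.exists_lift_single (R := CommRingCat.of A) a π u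
  exact ⟨B, i₁, i₂, i₃, i₄, t, ht⟩

/-- Raising to the `p`-th power is the map induced by Frobenius. -/
theorem sqMap_frob {R : Type u} [CommRing R] {C : Type u} [CommRing C] [Algebra R C] (p : ℕ) [hp : Fact p.Prime]
    (φ : R →+* R) (ψ : C →+* C) (hψ : ∀ c, ψ (algebraMap R C c) = algebraMap R C (φ c)) (hψp : ∀ c, ψ c = c ^ p)
    (hC : (p : C) = 0) (x : C ⊗[R] C) : sqMap φ ψ hψ x = x ^ p := by
  have hp0 : (p : C ⊗[R] C) = 0 := by
    rw [← map_natCast (Algebra.TensorProduct.includeLeftRingHom : C →+* C ⊗[R] C), hC, map_zero]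
  induction x using TensorProduct.induction_on with
  | zero => rw [map_zero, zero_pow hp.out.ne_zero]
  | tmul x y => rw [sqMap_tmul, hψp, hψp, Algebra.TensorProduct.tmul_pow]
  | add x y hx hy =>
    obtain ⟨r, hr⟩ := exists_add_pow_prime_eq hp.out x y
    rw [map_add, hx, hy, hr, hp0]
    ring

omit [Module.FaithfullyFlat A B] [LocallyOfFinitePresentation (Spec.map (CommRingCat.ofHom (algebraMap A B)))] in
include hE in
/-- If a multiple of `u` by `p` lifts, its pullback along a map factoring Frobenius by a surjection lifts. -/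
theorem exists_lift_frob (p : ℕ) [hp : Fact p.Prime] (hA : (p : A) = 0) {A' : Type u} [CommRing A']
    {a' : Spec (CommRingCat.of A') ⟶ S} (m : Over.mk a' ⟶ Over.mk a) (ρ₁ : A →+* A') (ρ₂ : A' →+* A)
    (hm : m.left = Spec.map (CommRingCat.ofHom ρ₁)) (hfac : ∀ c, ρ₂ (ρ₁ c) = c ^ p)
    (hρ₂ : Function.Surjective ρ₂) (hρ₂' : Function.Surjective (PrimeSpectrum.comap ρ₂))
    (u : Q.obj.obj (op (Over.mk a))) (hu : ∃ z, (π.hom.app (op (Over.mk a))).hom z = p • u) :
    ∃ z, (π.hom.app (op (Over.mk a'))).hom z = AffVan.rA Q m u := by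
  obtain ⟨B, iB, iA, hff, hlfp, t, ht⟩ := exists_locLift a hE u
  obtain ⟨z₀, hz₀⟩ := hu
  obtain ⟨htp, hwp⟩ := coc_nsmul hE ht p
  have hcobp : Cob (coc hE ht ^ p) := hwp ▸ cob_of_lift hE htp hz₀
  letI := ρ₁.toAlgebra
  haveI : Algebra.FinitePresentation A B :=
    RingHom.finitePresentation_algebraMap.1 ((HasRingHomProperty.Spec_iff (P := @LocallyOfFinitePresentation)).1 hlfp)
  let B' := A' ⊗[A] B
  haveI : LocallyOfFinitePresentation (Spec.map (CommRingCat.ofHom (algebraMap A' B'))) :=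
    (HasRingHomProperty.Spec_iff (P := @LocallyOfFinitePresentation)).2
      (RingHom.finitePresentation_algebraMap.2 inferInstance)
  let ψ₁ : B →+* B' := (Algebra.TensorProduct.includeRight : B →ₐ[A] A' ⊗[A] B).toRingHom
  have hψ₁ : ∀ c, ψ₁ (algebraMap A B c) = algebraMap A' B' (ρ₁ c) := fun c =>
    ((Algebra.TensorProduct.includeRight : B →ₐ[A] A' ⊗[A] B).commutes c)
  have hB : (p : B) = 0 := by rw [← map_natCast (algebraMap A B), hA, map_zero]
  let fr : B →+* B :=
    { toFun := fun b => b ^ p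
      map_one' := one_pow p
      map_mul' := fun x y => mul_pow x y p
      map_zero' := zero_pow hp.out.ne_zero
      map_add' := fun x y => by
        obtain ⟨r, hr⟩ := exists_add_pow_prime_eq hp.out x y
        simp only [hr, hB]
        ring }
  have hpo := CommRingCat.isPushout_tensorProduct A A' B
  let ψ₂c : CommRingCat.of B' ⟶ CommRingCat.of B :=
    hpo.desc (CommRingCat.ofHom ((algebraMap A B).comp ρ₂)) (CommRingCat.ofHom fr)
      (CommRingCat.hom_ext (RingHom.ext fun c => by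
        show algebraMap A B (ρ₂ (ρ₁ c)) = algebraMap A B c ^ p
        rw [hfac, map_pow]))
  let ψ₂ : B' →+* B := ψ₂c.hom
  have hψ₂ : ∀ c, ψ₂ (algebraMap A' B' c) = algebraMap A B (ρ₂ c) := fun c =>
    RingHom.congr_fun (congrArg CommRingCat.Hom.hom (hpo.inl_desc _ _ _)) c
  have hψ₁₂ : ∀ b, ψ₂ (ψ₁ b) = b ^ p := fun b =>
    RingHom.congr_fun (congrArg CommRingCat.Hom.hom (hpo.inr_desc _ _ _)) b
  let c : cv a' B' ⟶ cv a B := Over.homMk (Spec.map (CommRingCat.ofHom ψ₁)) (by
    show _ ≫ _ ≫ a = _ ≫ a'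
    have hw : m.left ≫ a = a' := Over.w m
    rw [← hw, hm, ← Category.assoc, ← Category.assoc, ← Spec.map_comp, ← Spec.map_comp]
    exact congrArg (fun w => Spec.map w ≫ a) (CommRingCat.hom_ext (RingHom.ext hψ₁)))
  obtain ⟨ht', hw'⟩ := coc_nat hE ρ₁ ψ₁ hψ₁ m hm c rfl ht
  refine lift_of_cob hE ht' ?_
  refine Cob.descend ρ₂ ψ₂ hψ₂ (isUnit_coc hE ht') (isCoc_coc hE ht') hρ₂ hρ₂' ?_
  have hfr : ∀ c, fr (algebraMap A B c) = algebraMap A B (c ^ p) := fun c => (map_pow _ _ _).symm
  let φ : A →+* A := ρ₂.comp ρ₁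
  have hφ : ∀ c, fr (algebraMap A B c) = algebraMap A B (φ c) := fun c => by rw [hfr]; exact congrArg _ (hfac c).symm
  rw [hw', sqMap_comp ρ₁ ψ₁ hψ₁ ρ₂ ψ₂ hψ₂ φ fr hφ hψ₁₂, sqMap_frob p φ fr hφ (fun _ => rfl) hB]
  exact hcobp

end Groth.Agent.GaExt80
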