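import Mathlib.RingTheory.AdjoinRoot
import Mathlib.RingTheory.Flat.FaithfullyFlat.Basic
import Mathlib.RingTheory.MvPolynomial.Basic
import Mathlib.RingTheory.Finiteness.Basic
import Mathlib.RingTheory.IntegralClosure.IsIntegral.Basic
import Mathlib.Algebra.CharP.Lemmas
import Mathlib.Algebra.CharP.Algebra
import Mathlib.Algebra.MvPolynomial.Supported

/-!
# A semiperfect extension exhausted by finite free algebras
-/

set_option autoImplicit false
set_option linter.style.haveILetI false

universe u

open Polynomial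

namespace Groth.Agent.GaExt80

/-- Prescribed roots exist in a finite free algebra. -/
theorem exists_roots {E : Type u} [CommRing E] [Nontrivial E] {ι : Type u} (s : Finset ι) (e : ι → E) (k : ι → ℕ)
    (hk : ∀ i, 0 < k i) :
    ∃ (E' : Type u) (_ : CommRing E') (_ : Algebra E E'),
      Module.Free E E' ∧ Module.Finite E E' ∧ Nontrivial E' ∧
        ∃ z : ι → E', ∀ i ∈ s, z i ^ k i = algebraMap E E' (e i) := by
  classical
  induction s using Finset.induction with
  | empty => exact ⟨E, inferInstance, Algebra.id E, inferInstance, inferInstance, inferInstance, fun _ => 0, by simp⟩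
  | insert a s ha ih =>
    obtain ⟨E', _, _, hfree, hfin, hnt, z, hz⟩ := ih
    let f : E'[X] := X ^ k a - C (algebraMap E E' (e a))
    have hf : f.Monic := monic_X_pow_sub_C _ (hk a).ne'
    let pb := AdjoinRoot.powerBasis' hf
    haveI : Module.Free E' (AdjoinRoot f) := Module.Free.of_basis pb.basis
    haveI : Module.Finite E' (AdjoinRoot f) := pb.finite
    haveI : Nonempty (Fin pb.dim) := ⟨⟨0, by
      rw [AdjoinRoot.powerBasis'_dim, natDegree_X_pow_sub_C]
      exact hk a⟩⟩
    haveI : Nontrivial (AdjoinRoot f) := pb.basis.repr.toEquiv.nontrivial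
    refine ⟨AdjoinRoot f, inferInstance, inferInstance, Module.Free.trans (R := E) (S := E'),
      Module.Finite.trans E' (AdjoinRoot f), inferInstance,
      Function.update (fun i => algebraMap E' (AdjoinRoot f) (z i)) a (AdjoinRoot.root f), fun i hi => ?_⟩
    rcases Finset.mem_insert.1 hi with rfl | hi'
    · rw [Function.update_self, IsScalarTower.algebraMap_apply E E' (AdjoinRoot f), ← sub_eq_zero]
      have h := AdjoinRoot.eval₂_root f
      simpa [f] using h
    · rw [Function.update_of_ne (by rintro rfl; exact ha hi'), ← map_pow, hz i hi',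
        ← IsScalarTower.algebraMap_apply E E' (AdjoinRoot f)]

variable (p : ℕ) (C : Type u) [CommRing C]

/-- The relations of the iterated roots. -/
noncomputable def rootRel : C × ℕ → MvPolynomial (C × ℕ) C
  | (c, 0) => MvPolynomial.X (c, 0) - MvPolynomial.C c
  | (c, m + 1) => MvPolynomial.X (c, m + 1) ^ p - MvPolynomial.X (c, m)

/-- The ring of all iterated roots. -/
abbrev PerfRoots : Type u := MvPolynomial (C × ℕ) C ⧸ Ideal.span (Set.range (rootRel p C))

variable {p C}

/-- The chosen iterated roots. -/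
noncomputable def rtp (c : C) (m : ℕ) : PerfRoots p C := Ideal.Quotient.mk _ (MvPolynomial.X (c, m))

theorem rtp_zero (c : C) : rtp (p := p) c 0 = algebraMap C _ c := by
  rw [rtp, ← sub_eq_zero]
  show Ideal.Quotient.mk _ (MvPolynomial.X (c, 0)) - Ideal.Quotient.mk _ (MvPolynomial.C c) = 0
  rw [← map_sub, Ideal.Quotient.eq_zero_iff_mem]
  exact Ideal.subset_span ⟨(c, 0), rfl⟩

theorem rtp_pow (c : C) (m : ℕ) : rtp (p := p) c (m + 1) ^ p = rtp c m := by
  rw [rtp, rtp, ← map_pow, ← sub_eq_zero, ← map_sub, Ideal.Quotient.eq_zero_iff_mem]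
  exact Ideal.subset_span ⟨(c, m + 1), rfl⟩

theorem rtp_pow_add (c : C) (m k : ℕ) : rtp (p := p) c (m + k) ^ p ^ k = rtp c m := by
  induction k with
  | zero => simp
  | succ k ih => rw [pow_succ', pow_mul, ← add_assoc, rtp_pow, ih]

theorem rtp_pow_self (c : C) (n : ℕ) : rtp (p := p) c n ^ p ^ n = algebraMap C _ c := by
  have := rtp_pow_add (p := p) c 0 n
  rwa [zero_add, rtp_zero] at this

variable (p C)

/-- Adjoining one root to a generated stage. -/
theorem gen_step [hp : Fact p.Prime] [DecidableEq C] (n : ℕ) (s : Finset C) (a : C) (ha : a ∉ s)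
    {E : Type u} [CommRing E] [Algebra C E] [Module.Free C E] [Module.Finite C E] [Nontrivial E]
    (y : C → E) (φ : E →ₐ[C] PerfRoots p C) (hgen : Algebra.adjoin C (y '' s) = ⊤)
    (hy : ∀ c ∈ s, φ (y c) = rtp c n ∧ y c ^ p ^ n = algebraMap C E c) :
    ∃ (E : Type u) (_ : CommRing E) (_ : Algebra C E), Module.Free C E ∧ Module.Finite C E ∧ Nontrivial E ∧
      ∃ (y : C → E) (φ : E →ₐ[C] PerfRoots p C), Algebra.adjoin C (y '' ↑(insert a s)) = ⊤ ∧
        ∀ c ∈ insert a s, φ (y c) = rtp c n ∧ y c ^ p ^ n = algebraMap C E c := by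
  let f : E[X] := X ^ p ^ n - Polynomial.C (algebraMap C E a)
  have hf : f.Monic := monic_X_pow_sub_C _ (pow_ne_zero _ hp.out.ne_zero)
  let pb := AdjoinRoot.powerBasis' hf
  haveI : Module.Free E (AdjoinRoot f) := Module.Free.of_basis pb.basis
  haveI : Module.Finite E (AdjoinRoot f) := pb.finite
  haveI : Nonempty (Fin pb.dim) := ⟨⟨0, by
    rw [AdjoinRoot.powerBasis'_dim, natDegree_X_pow_sub_C]
    exact pow_pos hp.out.pos n⟩⟩
  haveI : Nontrivial (AdjoinRoot f) := pb.basis.repr.toEquiv.nontrivial
  have hev : f.eval₂ φ.toRingHom (rtp a n) = 0 := by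
    rw [Polynomial.eval₂_sub, Polynomial.eval₂_X_pow, Polynomial.eval₂_C, rtp_pow_self, sub_eq_zero]
    exact (φ.commutes a).symm
  let φ' : AdjoinRoot f →ₐ[C] PerfRoots p C := AdjoinRoot.liftAlgHom f φ (rtp a n) hev
  let y' := Function.update (fun c => algebraMap E (AdjoinRoot f) (y c)) a (AdjoinRoot.root f)
  have hys : ∀ c ∈ s, y' c = algebraMap E (AdjoinRoot f) (y c) := fun c hc =>
    Function.update_of_ne (by rintro rfl; exact ha hc) _ _
  have hya : y' a = AdjoinRoot.root f := Function.update_self _ _ _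
  refine ⟨AdjoinRoot f, inferInstance, inferInstance, Module.Free.trans (R := C) (S := E),
    Module.Finite.trans E (AdjoinRoot f), inferInstance, y', φ', ?_, fun c hc => ?_⟩
  · rw [eq_top_iff]
    intro x _
    obtain ⟨q, rfl⟩ := AdjoinRoot.mk_surjective x
    have hroot : AdjoinRoot.root f ∈ Algebra.adjoin C (y' '' ↑(insert a s)) :=
      Algebra.subset_adjoin ⟨a, by simp, hya⟩
    have hE : ∀ e : E, algebraMap E (AdjoinRoot f) e ∈ Algebra.adjoin C (y' '' ↑(insert a s)) := by
      intro e
      have h : Algebra.adjoin C (y '' s) ≤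
          (Algebra.adjoin C (y' '' ↑(insert a s))).comap (IsScalarTower.toAlgHom C E (AdjoinRoot f)) := by
        refine Algebra.adjoin_le ?_
        rintro _ ⟨c, hc, rfl⟩
        exact Algebra.subset_adjoin ⟨c, by simp [show c ∈ s from hc], hys c hc⟩
      rw [hgen] at h
      exact h Algebra.mem_top
    induction q using Polynomial.induction_on' with
    | add q r hq hr => rw [map_add]; exact add_mem (hq trivial) (hr trivial)
    | monomial i e =>
      rw [← Polynomial.C_mul_X_pow_eq_monomial, map_mul, map_pow, AdjoinRoot.mk_C, AdjoinRoot.mk_X]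
      exact mul_mem (hE e) (pow_mem hroot i)
  · rcases Finset.mem_insert.1 hc with rfl | hc'
    · refine ⟨?_, ?_⟩
      · rw [hya]
        exact AdjoinRoot.lift_root hev
      · rw [hya, IsScalarTower.algebraMap_apply C E (AdjoinRoot f), ← sub_eq_zero]
        have h := AdjoinRoot.eval₂_root f
        rw [Polynomial.eval₂_sub, Polynomial.eval₂_X_pow, Polynomial.eval₂_C] at h
        exact h
    · rw [hys c hc', ← map_pow, (hy c hc').2, ← IsScalarTower.algebraMap_apply]
      exact ⟨(AdjoinRoot.lift_of hev).trans (hy c hc').1, rfl⟩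

/-- A generated finite free stage. -/
theorem exists_gen_stage [hp : Fact p.Prime] [Nontrivial C] (s : Finset C) (n : ℕ) :
    ∃ (E : Type u) (_ : CommRing E) (_ : Algebra C E), Module.Free C E ∧ Module.Finite C E ∧ Nontrivial E ∧
      ∃ (y : C → E) (φ : E →ₐ[C] PerfRoots p C), Algebra.adjoin C (y '' s) = ⊤ ∧
        ∀ c ∈ s, φ (y c) = rtp c n ∧ y c ^ p ^ n = algebraMap C E c := by
  classical
  induction s using Finset.induction with
  | empty =>
    refine ⟨C, inferInstance, Algebra.id C, inferInstance, inferInstance, inferInstance, id, Algebra.ofId C _,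
      Algebra.eq_top_iff.2 fun x => Subalgebra.algebraMap_mem _ x, by simp⟩
  | insert a s ha ih =>
    obtain ⟨E, _, _, hfree, hfin, hnt, y, φ, hgen, hy⟩ := ih
    exact gen_step p C n s a ha y φ hgen hy

/-- The stage maps are injective. -/
theorem stage_injective [hp : Fact p.Prime] {E : Type u} [CommRing E] [Algebra C E] [Nontrivial E] (s : Finset C)
    (n : ℕ) (y : C → E) (φ : E →ₐ[C] PerfRoots p C) (hgen : Algebra.adjoin C (y '' s) = ⊤)
    (hy : ∀ c ∈ s, φ (y c) = rtp c n ∧ y c ^ p ^ n = algebraMap C E c) : Function.Injective φ := by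
  classical
  refine (injective_iff_map_eq_zero φ).2 fun e he => ?_
  obtain ⟨q, rfl⟩ : e ∈ (MvPolynomial.aeval (fun c : s => y c) : MvPolynomial s C →ₐ[C] E).range := by
    rw [← Algebra.adjoin_range_eq_range_aeval, show Set.range (fun c : s => y c) = y '' s by ext; simp, hgen]
    exact Algebra.mem_top
  let qh : MvPolynomial (C × ℕ) C := MvPolynomial.rename (fun c : s => ((c : C), n)) q
  have hq : qh ∈ Ideal.span (Set.range (rootRel p C)) := by
    rw [← Ideal.Quotient.eq_zero_iff_mem]
    refine Eq.trans ?_ he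
    have h : (Ideal.Quotient.mkₐ C (Ideal.span (Set.range (rootRel p C)))).comp
        (MvPolynomial.rename (fun c : s => ((c : C), n))) = φ.comp (MvPolynomial.aeval fun c : s => y c) :=
      MvPolynomial.algHom_ext fun c => by
        simp only [AlgHom.comp_apply, MvPolynomial.rename_X, MvPolynomial.aeval_X, (hy c c.2).1]
        rfl
    exact AlgHom.congr_fun h q
  obtain ⟨l, hl⟩ := Finsupp.mem_span_range_iff_exists_finsupp.1 hq
  let n' : ℕ := max n (l.support.sup Prod.snd)
  let s' : Finset C := s ∪ l.support.image Prod.fst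
  let e' : C → E := fun c => if c ∈ s then y c else algebraMap C E c
  let k : C → ℕ := fun c => if c ∈ s then p ^ (n' - n) else p ^ n'
  obtain ⟨E', _, _, hfree, -, hnt, z, hz⟩ := exists_roots s' e' k fun c => by
    simp only [k]; split_ifs <;> exact pow_pos hp.out.pos _
  letI : Algebra C E' := ((algebraMap E E').comp (algebraMap C E)).toAlgebra
  haveI : IsScalarTower C E E' := IsScalarTower.of_algebraMap_eq fun _ => rfl
  have hzn : ∀ c ∈ s', z c ^ p ^ n' = algebraMap C E' c := fun c hc => by
    have h := hz c hc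
    simp only [e', k] at h
    split_ifs at h with hcs
    · rw [show p ^ n' = p ^ (n' - n) * p ^ n by rw [← pow_add]; congr 1; omega, pow_mul, h, ← map_pow, (hy c hcs).2]
      rfl
    · exact h
  let Φ : MvPolynomial (C × ℕ) C →ₐ[C] E' := MvPolynomial.aeval fun v => z v.1 ^ p ^ (n' - v.2)
  have hΦ : ∀ v ∈ l.support, Φ (rootRel p C v) = 0 := by
    rintro ⟨c, m⟩ hv
    have hcs : c ∈ s' := Finset.mem_union_right _ (Finset.mem_image.2 ⟨(c, m), hv, rfl⟩)
    have hm : m ≤ n' := le_max_of_le_right (Finset.le_sup (f := Prod.snd) hv)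
    cases m with
    | zero => simp [Φ, rootRel, hzn c hcs]
    | succ m =>
      simp only [Φ, rootRel, map_sub, map_pow, MvPolynomial.aeval_X]
      rw [← pow_mul, ← pow_succ, show n' - (m + 1) + 1 = n' - m by omega, sub_self]
  have h0 : Φ qh = 0 := by
    rw [← hl, map_finsuppSum]
    exact Finset.sum_eq_zero fun v hv => by simp [hΦ v hv]
  have h1 : Φ qh = algebraMap E E' (MvPolynomial.aeval (fun c : s => y c) q) := by
    have h : Φ.comp (MvPolynomial.rename (fun c : s => ((c : C), n))) =
        (IsScalarTower.toAlgHom C E E').comp (MvPolynomial.aeval fun c : s => y c) :=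
      MvPolynomial.algHom_ext fun c => by
        simp only [AlgHom.comp_apply, MvPolynomial.rename_X, Φ, MvPolynomial.aeval_X]
        have h := hz c (Finset.mem_union_left _ c.2)
        simp only [e', k, if_pos c.2] at h
        exact h
    exact AlgHom.congr_fun h q
  haveI : Nontrivial E' := hnt
  exact FaithfulSMul.algebraMap_injective E E' ((h1.symm.trans h0).trans (map_zero _).symm)

/-- Every finite set lies in a finite free stage. -/
theorem exists_stage [hp : Fact p.Prime] [Nontrivial C] (F : Finset (PerfRoots p C)) :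
    ∃ (E : Type u) (_ : CommRing E) (_ : Algebra C E), Module.Free C E ∧ Module.Finite C E ∧ Nontrivial E ∧
      ∃ φ : E →ₐ[C] PerfRoots p C, Function.Injective φ ∧ ↑F ⊆ Set.range φ := by
  classical
  choose lift hlift using fun x : PerfRoots p C => Ideal.Quotient.mk_surjective x
  let V : Finset (C × ℕ) := F.biUnion fun x => (lift x).vars
  let n : ℕ := V.sup Prod.snd
  obtain ⟨E, _, _, h₁, h₂, h₃, y, φ, hgen, hy⟩ := exists_gen_stage p C (V.image Prod.fst) n
  refine ⟨E, inferInstance, inferInstance, h₁, h₂, h₃, φ, stage_injective p C _ n y φ hgen hy, fun x hx => ?_⟩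
  have h : (lift x) ∈ MvPolynomial.supported C ((lift x).vars : Set (C × ℕ)) := MvPolynomial.mem_supported_vars _
  have hle : (MvPolynomial.supported C ((lift x).vars : Set (C × ℕ))).map
      (Ideal.Quotient.mkₐ C (Ideal.span (Set.range (rootRel p C)))) ≤ φ.range := by
    rw [MvPolynomial.supported, AlgHom.map_adjoin, Algebra.adjoin_le_iff]
    rintro _ ⟨_, ⟨⟨c, m⟩, hcm, rfl⟩, rfl⟩
    have hV : (c, m) ∈ V := Finset.mem_biUnion.2 ⟨x, hx, hcm⟩
    refine ⟨y c ^ p ^ (n - m), ?_⟩
    show φ (y c ^ p ^ (n - m)) = rtp c m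
    rw [map_pow, (hy c (Finset.mem_image.2 ⟨_, hV, rfl⟩)).1]
    conv_lhs => rw [show n = m + (n - m) by have := Finset.le_sup (f := Prod.snd) hV; omega, Nat.add_sub_cancel_left]
    exact rtp_pow_add c m _
  exact hle ⟨lift x, h, hlift x⟩

theorem algebraMap_perfRoots_injective [Fact p.Prime] [Nontrivial C] :
    Function.Injective (algebraMap C (PerfRoots p C)) := by
  obtain ⟨E, _, _, h₁, -, h₃, φ, hφ, -⟩ := exists_stage p C ∅
  rw [← φ.comp_algebraMap]
  exact hφ.comp (FaithfulSMul.algebraMap_injective C E)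

theorem charP_perfRoots [Fact p.Prime] [Nontrivial C] [CharP C p] : CharP (PerfRoots p C) p :=
  charP_of_injective_ringHom (algebraMap_perfRoots_injective p C) p

theorem frobenius_perfRoots_surjective [hp : Fact p.Prime] [CharP (PerfRoots p C) p] :
    Function.Surjective (frobenius (PerfRoots p C) p) := by
  intro x
  obtain ⟨q, rfl⟩ := Ideal.Quotient.mk_surjective x
  suffices h : Ideal.Quotient.mk _ q ∈ (frobenius (PerfRoots p C) p).range from h
  induction q using MvPolynomial.induction_on with
  | C c => exact ⟨rtp c 1, (rtp_pow c 0).trans (rtp_zero c)⟩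
  | add q r hq hr => rw [map_add]; exact add_mem hq hr
  | mul_X q v hq =>
    rw [map_mul]
    exact mul_mem hq ⟨rtp v.1 (v.2 + 1), rtp_pow v.1 v.2⟩

theorem isIntegral_perfRoots [hp : Fact p.Prime] [Nontrivial C] (x : PerfRoots p C) : IsIntegral C x := by
  obtain ⟨E, _, _, -, h₂, -, φ, -, hF⟩ := exists_stage p C {x}
  obtain ⟨e, he⟩ := hF (Finset.mem_singleton_self x)
  exact he ▸ (Algebra.IsIntegral.isIntegral (R := C) e).map φ

end Groth.Agent.GaExt80
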