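import Groth.Agent.GaExt80.LocLift
import Groth.Agent.H23.CocycleMod

/-!
# Sections lift along extensions by the multiplicative group if invertible modules are trivial
-/

set_option autoImplicit false
set_option backward.isDefEq.respectTransparency.types false
set_option linter.style.haveILetI false

universe u

open CategoryTheory Limits AlgebraicGeometry Opposite
open Groth.Agent.Adeq2Lib Groth.Agent.DualNorm79 Groth.Agent.DualGm79
open Groth.Agent.AModX Groth.Agent.InvX Groth.Agent.H23

namespace Groth.Agent.GaExt80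

open GaDual80 (sMap toBase)

variable {S : Scheme.{u}} (W : Over S)

/-- An open of a test object. -/
noncomputable abbrev opObj (V : W.left.Opens) : Over S := Over.mk (V.ι ≫ W.hom)

/-- The inclusion of an open. -/
noncomputable abbrev opIncl (V : W.left.Opens) : opObj W V ⟶ W := Over.homMk V.ι

/-- Inclusions of opens. -/
noncomputable abbrev opRes {V V' : W.left.Opens} (h : V ≤ V') : opObj W V ⟶ opObj W V' :=
  Over.homMk (W.left.homOfLE h) (by
    show W.left.homOfLE h ≫ V'.ι ≫ W.hom = V.ι ≫ W.hom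
    rw [Scheme.homOfLE_ι_assoc])

theorem opRes_incl {V V' : W.left.Opens} (h : V ≤ V') : opRes W h ≫ opIncl W V' = opIncl W V :=
  Over.OverMorphism.ext (Scheme.homOfLE_ι _ h)

theorem opRes_comp {V V' V'' : W.left.Opens} (h : V ≤ V') (h' : V' ≤ V'') :
    opRes W h ≫ opRes W h' = opRes W (h.trans h') :=
  Over.OverMorphism.ext (Scheme.homOfLE_homOfLE _ h h')

/-- The function on an open of a section of the multiplicative group. -/
noncomputable def opFn (V : W.left.Opens) (m : (GmS S).obj.obj (op (opObj W V))) : Γ(W.left, V) :=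
  V.topIso.hom.hom (fn m)

theorem opFn_res {V V' : W.left.Opens} (h : V ≤ V') (m : (GmS S).obj.obj (op (opObj W V'))) :
    opFn W V (AffVan.rA (GmS S) (opRes W h) m) = resR h (opFn W V' m) := by
  rw [opFn, opFn, fn_res]
  have h1 : (W.left.homOfLE h).appTop ≫ V.topIso.hom = V'.topIso.hom ≫ W.left.presheaf.map (homOfLE h).op := by
    simp only [Scheme.Opens.topIso_hom, Scheme.Hom.appTop, Scheme.homOfLE_app]
    erw [← Functor.map_comp, ← Functor.map_comp]
    rfl
  exact ConcreteCategory.congr_hom h1 (fn m)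

theorem opFn_add (V : W.left.Opens) (m n : (GmS S).obj.obj (op (opObj W V))) :
    opFn W V (m + n) = opFn W V m * opFn W V n := by
  rw [opFn, opFn, opFn, fn_add, map_mul]

theorem isUnit_opFn (V : W.left.Opens) (m : (GmS S).obj.obj (op (opObj W V))) : IsUnit (opFn W V m) :=
  ((GmPts.unitOfPt (Additive.toMul m.down)).isUnit).map V.topIso.hom.hom

theorem opFn_ext (V : W.left.Opens) {m n : (GmS S).obj.obj (op (opObj W V))} (h : opFn W V m = opFn W V n) : m = n :=
  fn_ext ((ConcreteCategory.bijective_of_isIso V.topIso.hom).1 h)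

theorem exists_opFn (V : W.left.Opens) {v : Γ(W.left, V)} (hv : IsUnit v) :
    ∃ m : (GmS S).obj.obj (op (opObj W V)), opFn W V m = v := by
  refine ⟨ULift.up (Additive.ofMul (GmPts.ptOfUnit (T := opObj W V) (hv.map V.topIso.inv.hom).unit)), ?_⟩
  show V.topIso.hom.hom (Red.gmFn (GmPts.ptOfUnit (T := opObj W V) _)) = v
  rw [GmPts.gmFn_ptOfUnit, IsUnit.unit_spec]
  exact Iso.inv_hom_id_apply V.topIso v

variable {I Q : AffVan.AbT S} {jI : GmS S ⟶ I} {π : I ⟶ Q} {w₀ : jI ≫ π = 0}
  (hE : (ShortComplex.mk jI π w₀).ShortExact)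

include hE in
/-- A section lifts near every point. -/
theorem exists_open_lift (u : Q.obj.obj (op W)) (x : W.left) :
    ∃ V : W.left.Opens, x ∈ V ∧ ∃ z, (π.hom.app (op (opObj W V))).hom z = AffVan.rA Q (opIncl W V) u := by
  obtain ⟨U, hU, hxU, -⟩ := exists_isAffineOpen_mem_and_subset (TopologicalSpace.Opens.mem_top x)
  obtain ⟨P, hP⟩ : x ∈ Set.range hU.fromSpec := by rw [hU.range_fromSpec]; exact hxU
  let a : Spec Γ(W.left, U) ⟶ S := hU.fromSpec ≫ W.hom
  let e₀ : Over.mk a ⟶ W := Over.homMk hU.fromSpec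
  obtain ⟨f, hf, z, hz⟩ := exists_basic_lift a hE (AffVan.rA Q e₀ u) P
  let j : Spec (CommRingCat.of (Localization.Away f)) ⟶ W.left :=
    Spec.map (CommRingCat.ofHom (algebraMap Γ(W.left, U) (Localization.Away f))) ≫ hU.fromSpec
  haveI : IsOpenImmersion (Spec.map (CommRingCat.ofHom (algebraMap Γ(W.left, U) (Localization.Away f)))) :=
    IsOpenImmersion.of_isLocalization f
  haveI : IsOpenImmersion j := inferInstanceAs (IsOpenImmersion (_ ≫ _))
  refine ⟨j.opensRange, ?_, ?_⟩
  · obtain ⟨P', hP'⟩ : P ∈ Set.range (PrimeSpectrum.comap (algebraMap Γ(W.left, U) (Localization.Away f))) := by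
      rw [PrimeSpectrum.localization_away_comap_range (Localization.Away f) f]
      exact hf
    refine ⟨P', ?_⟩
    show hU.fromSpec (Spec.map (CommRingCat.ofHom (algebraMap Γ(W.left, U) (Localization.Away f))) P') = x
    rw [← hP]
    exact congrArg hU.fromSpec hP'
  · let e : opObj W j.opensRange ⟶ Over.mk (sMap a (algebraMap Γ(W.left, U) (Localization.Away f))) :=
      Over.homMk j.isoOpensRange.inv (by
        show j.isoOpensRange.inv ≫ Spec.map _ ≫ hU.fromSpec ≫ W.hom = j.opensRange.ι ≫ W.hom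
        rw [← Scheme.Hom.isoOpensRange_inv_comp j, Category.assoc, Category.assoc])
    refine ⟨AffVan.rA I e z, ?_⟩
    rw [nat_res, hz, AffVan.rA_comp, AffVan.rA_comp]
    refine congrArg (fun g => AffVan.rA Q g u) (Over.OverMorphism.ext ?_)
    show (j.isoOpensRange.inv ≫ Spec.map _) ≫ hU.fromSpec = j.opensRange.ι
    rw [← Scheme.Hom.isoOpensRange_inv_comp j]
    simp [j]

/-- The opens form a covering. -/
theorem opens_cover_mem {ι : Type u} (V : ι → W.left.Opens) (hV : ∀ x, ∃ i, x ∈ V i) :
    Sieve.generate (Presieve.ofArrows (fun i => (opObj W (V i)).left) fun i => (opIncl W (V i)).left) ∈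
      Scheme.fppfPrecoverage.toGrothendieck W.left :=
  Precoverage.toGrothendieck_mono Scheme.zariskiPrecoverage_le_fppfPrecoverage _
    (Scheme.openCoverOfIsOpenCover W.left V (eq_top_iff.2 fun x _ => TopologicalSpace.Opens.mem_iSup.2
      (hV x))).mem_grothendieckTopology

/-- Sections on an open covering agreeing on intersections glue. -/
theorem glue_opens (G : AffVan.AbT S) {ι : Type u} (V : ι → W.left.Opens) (hV : ∀ x, ∃ i, x ∈ V i)
    (y : ∀ i, G.obj.obj (op (opObj W (V i))))
    (hy : ∀ i j, AffVan.rA G (opRes W (inf_le_left : V i ⊓ V j ≤ V i)) (y i) =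
      AffVan.rA G (opRes W (inf_le_right : V i ⊓ V j ≤ V j)) (y j)) :
    ∃ z, ∀ i, AffVan.rA G (opIncl W (V i)) z = y i := by
  refine AffVan.glueA G (fun i => opObj W (V i)) (fun i => opIncl W (V i)) (opens_cover_mem W V hV) y
    fun i j T p q hpq => ?_
  have hl : p.left ≫ (V i).ι = q.left ≫ (V j).ι := congrArg CommaMorphism.left hpq
  have hr : Set.range (p.left ≫ (V i).ι) ⊆ Set.range (V i ⊓ V j).ι := by
    rw [Scheme.Opens.range_ι]
    rintro _ ⟨t, rfl⟩
    refine ⟨?_, ?_⟩
    · exact (p.left t).2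
    · rw [hl]
      exact (q.left t).2
  let m₀ := IsOpenImmersion.lift (V i ⊓ V j).ι (p.left ≫ (V i).ι) hr
  let m : T ⟶ opObj W (V i ⊓ V j) := Over.homMk m₀ (by
    show m₀ ≫ (V i ⊓ V j).ι ≫ W.hom = T.hom
    rw [IsOpenImmersion.lift_fac_assoc]
    exact Over.w (p ≫ opIncl W (V i)))
  have hp : p = m ≫ opRes W inf_le_left := Over.OverMorphism.ext (by
    rw [← cancel_mono (V i).ι, Over.comp_left, Category.assoc]
    show _ = m₀ ≫ W.left.homOfLE (inf_le_left : V i ⊓ V j ≤ V i) ≫ (V i).ι
    rw [Scheme.homOfLE_ι, IsOpenImmersion.lift_fac])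
  have hq : q = m ≫ opRes W inf_le_right := Over.OverMorphism.ext (by
    rw [← cancel_mono (V j).ι, Over.comp_left, Category.assoc]
    show _ = m₀ ≫ W.left.homOfLE (inf_le_right : V i ⊓ V j ≤ V j) ≫ (V j).ι
    rw [Scheme.homOfLE_ι, IsOpenImmersion.lift_fac, hl])
  rw [hp, hq, ← AffVan.rA_comp, ← AffVan.rA_comp, hy]

include hE in
/-- Sections lift if every invertible module is trivial. -/
theorem exists_lift_of_pic (hPic : ∀ L : W.left.Modules, PicF.IsInvertible L →
      Nonempty (L ≅ Coh.structureModule W.left)) (u : Q.obj.obj (op W)) :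
    ∃ z, (π.hom.app (op W)).hom z = u := by
  choose V hxV z hz using exists_open_lift W hE u
  have hd : ∀ x y : W.left, ∃ m, (jI.hom.app (op (opObj W (V x ⊓ V y)))).hom m =
      AffVan.rA I (opRes W inf_le_left) (z x) - AffVan.rA I (opRes W inf_le_right) (z y) := fun x y => by
    refine exists_jI_eq hE _ ?_
    rw [map_sub, nat_res, nat_res, hz, hz, AffVan.rA_comp, AffVan.rA_comp, opRes_incl, opRes_incl, sub_self]
  choose m hm using hd
  have hm' : ∀ x y (T : W.left.Opens) (hx : T ≤ V x) (hy : T ≤ V y),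
      (jI.hom.app (op (opObj W T))).hom (AffVan.rA (GmS S) (opRes W (le_inf hx hy)) (m x y)) =
        AffVan.rA I (opRes W hx) (z x) - AffVan.rA I (opRes W hy) (z y) := fun x y T hx hy => by
    rw [nat_res, hm, map_sub, AffVan.rA_comp, AffVan.rA_comp, opRes_comp, opRes_comp]
  let t : CocycleMod.Cocycle V :=
    { g := fun x y => (isUnit_opFn W _ (m x y)).unit
      trans := fun i j k T hi hj hk => by
        simp only [IsUnit.unit_spec]
        rw [← opFn_res, ← opFn_res, ← opFn_res, ← opFn_add]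
        refine congrArg _ (jI_injective hE _ ?_)
        rw [map_add, hm' i k T hi hk, hm' j k T hj hk, hm' i j T hi hj]
        abel }
  obtain ⟨e⟩ := hPic _ (CocycleMod.isInvertible t (eq_top_iff.2 fun x _ => TopologicalSpace.Opens.mem_iSup.2
    ⟨x, hxV x⟩))
  let s : Γ(CocycleMod.mod t, ⊤) := e.inv.app ⊤ (1 : Γ(W.left, ⊤))
  let f : ∀ x, Γ(W.left, V x) := fun x => resR (le_inf le_top le_rfl) ((CocycleMod.fam t s).1 x)
  have hf : ∀ x, IsUnit (f x) := fun x => by
    let c : Γ(W.left, V x) := e.hom.app (V x) (CocycleMod.frame t x)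
    have hs : res (CocycleMod.mod t) (le_top : V x ≤ ⊤) s = e.inv.app (V x) (1 : Γ(W.left, V x)) := by
      refine ((app_res e.inv (le_top : V x ≤ ⊤) (1 : Γ(W.left, ⊤))).symm).trans ?_
      exact congrArg (e.inv.app (V x)) (map_one (resR (le_top : V x ≤ ⊤)))
    have hc : CocycleMod.frame t x = c • res (CocycleMod.mod t) (le_top : V x ≤ ⊤) s := by
      rw [hs, ← Scheme.Modules.Hom.app_smul]
      refine Eq.trans ?_ (congrArg (e.inv.app (V x)) (mul_one c)).symm
      exact ((congrArg (fun g => Scheme.Modules.Hom.app g (V x) (CocycleMod.frame t x)) e.hom_inv_id).symm)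
    have h1 := congrArg (fun g : Γ(CocycleMod.mod t, V x) =>
      resR (le_inf le_rfl le_rfl : V x ≤ V x ⊓ V x) ((CocycleMod.fam t g).1 x)) hc
    simp only [CocycleMod.fam_smul, map_mul, resR_resR, CocycleMod.fam_res] at h1
    have h2 : resR (le_inf le_rfl le_rfl : V x ≤ V x ⊓ V x)
        ((CocycleMod.fam t (CocycleMod.frame t x)).1 x) = 1 := by
      show resR _ (CocycleMod.tr t x x (V x ⊓ V x) inf_le_left inf_le_right) = 1
      rw [CocycleMod.tr_self, map_one]
    rw [h2] at h1
    exact IsUnit.of_mul_eq_one_right _ h1.symm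
  choose n hn using fun x => exists_opFn W (V x) (hf x)
  obtain ⟨z', hz'⟩ := glue_opens W I V (fun x => ⟨x, hxV x⟩)
    (fun x => z x + (jI.hom.app (op (opObj W (V x)))).hom (n x)) fun x y => by
      have key : m x y + AffVan.rA (GmS S) (opRes W inf_le_left) (n x) =
          AffVan.rA (GmS S) (opRes W inf_le_right) (n y) := by
        refine opFn_ext W _ ?_
        rw [opFn_add, opFn_res, opFn_res, hn, hn]
        have h3 := (CocycleMod.fam t s).2 x y (V x ⊓ V y) le_top inf_le_left inf_le_right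
        simp only [f, resR_resR]
        refine Eq.trans ?_ h3.symm
        show opFn W _ (m x y) * _ = resR (le_inf inf_le_left inf_le_right) (opFn W _ (m x y)) * _
        rw [resR_self]
      have h4 := congrArg (jI.hom.app (op (opObj W (V x ⊓ V y)))).hom key
      rw [map_add, hm, nat_res, nat_res] at h4
      rw [map_add, map_add, ← h4]
      abel
  refine ⟨z', AffVan.eq_of_cover Q (fun x => opObj W (V x)) (fun x => opIncl W (V x))
    (opens_cover_mem W V fun x => ⟨x, hxV x⟩) _ _ fun x => ?_⟩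
  rw [← nat_res, hz', map_add, π_jI hE, add_zero, hz]

end Groth.Agent.GaExt80
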