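import Groth.Agent.GaExt80.PicGlue
import Groth.Agent.GaExt80.ExtOne
import Groth.Agent.GaChar.Units

/-!
# Extensions of the additive by the multiplicative group over a reduced base
-/

set_option autoImplicit false
set_option backward.isDefEq.respectTransparency.types false
set_option linter.style.haveILetI false

universe u

open CategoryTheory Limits AlgebraicGeometry Opposite
open Groth.Agent.Adeq2Lib Groth.Agent.DualNorm79 Groth.Agent.DualGm79

namespace Groth.Agent.GaExt80

open GaDual80 (GaS afn afn_ext afn_add afn_res ofA afn_ofA)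

variable {X : Scheme.{u}}

/-- The universal point of the additive group, as a section. -/
noncomputable def idSec (X : Scheme.{u}) : (GaS X).obj.obj (op (Red.Ga X)) :=
  ULift.up (Additive.ofMul (𝟙 (Red.Ga X)))

/-- The point of a section of the additive group. -/
noncomputable abbrev gp {T : Over X} (x : (GaS X).obj.obj (op T)) : T ⟶ Red.Ga X := Additive.toMul x.down

theorem res_idSec {T : Over X} (x : (GaS X).obj.obj (op T)) : AffVan.rA (GaS X) (gp x) (idSec X) = x :=
  ULift.ext _ _ (congrArg Additive.ofMul (Category.comp_id (gp x)))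

theorem gp_res {T T' : Over X} (g : T' ⟶ T) (x : (GaS X).obj.obj (op T)) :
    gp (AffVan.rA (GaS X) g x) = g ≫ gp x := rfl

variable (X) in
/-- The universal pair of points of the additive group. -/
noncomputable abbrev pairObj : Over X := Over.mk (𝔸(ULift.{u} (Fin 2); X) ↘ X)

variable (X) in
/-- The universal points. -/
noncomputable def pairSec (i : Fin 2) : (GaS X).obj.obj (op (pairObj X)) :=
  ofA (T := pairObj X) (AffineSpace.coord X (ULift.up i))

theorem exists_pairMap {T : Over X} (x y : (GaS X).obj.obj (op T)) :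
    ∃ g : T ⟶ pairObj X, AffVan.rA (GaS X) g (pairSec X 0) = x ∧ AffVan.rA (GaS X) g (pairSec X 1) = y := by
  let v : ULift.{u} (Fin 2) → Γ(T.left, ⊤) := fun i => ![afn x, afn y] i.down
  refine ⟨Over.homMk (AffineSpace.homOfVector T.hom v) (AffineSpace.homOfVector_over _ _), ?_, ?_⟩
  all_goals
    refine afn_ext ?_
    rw [afn_res, pairSec, afn_ofA]
    exact (AffineSpace.homOfVector_appTop_coord T.hom v _).trans rfl

variable {I Q : AffVan.AbT X} {jI : GmS X ⟶ I} {π : I ⟶ Q} {w₀ : jI ≫ π = 0}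
  (hE : (ShortComplex.mk jI π w₀).ShortExact)

include hE in
/-- Homomorphisms out of the additive group lift along extensions by the multiplicative group. -/
theorem exists_lift_reduced [IsReduced X] (hPic : ∀ L : (Red.Ga X).left.Modules, PicF.IsInvertible L →
      Nonempty (L ≅ Coh.structureModule (Red.Ga X).left)) (f : GaS X ⟶ Q) :
    ∃ g : GaS X ⟶ I, g ≫ π = f := by
  let G₀ := Red.Ga X
  obtain ⟨z₀, hz₀⟩ := exists_lift_of_pic G₀ hE hPic ((f.hom.app (op G₀)).hom (idSec X))
  let z := z₀ - AffVan.rA I (gp (0 : (GaS X).obj.obj (op G₀))) z₀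
  have hv : ∀ {T : Over X} (x : (GaS X).obj.obj (op T)),
      (π.hom.app (op T)).hom (AffVan.rA I (gp x) z₀) = (f.hom.app (op T)).hom x := fun {T} x => by
    rw [nat_res, hz₀, ← nat_res, res_idSec]
  have hπ : ∀ {T : Over X} (x : (GaS X).obj.obj (op T)),
      (π.hom.app (op T)).hom (AffVan.rA I (gp x) z) = (f.hom.app (op T)).hom x := fun {T} x => by
    rw [map_sub, map_sub, hv, AffVan.rA_comp, ← gp_res, map_zero, hv, map_zero, sub_zero]
  have h0 : ∀ {T : Over X}, AffVan.rA I (gp (0 : (GaS X).obj.obj (op T))) z = 0 := fun {T} => by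
    rw [map_sub, AffVan.rA_comp, ← gp_res, map_zero, sub_self]
  let δ : ∀ {T : Over X}, (GaS X).obj.obj (op T) → (GaS X).obj.obj (op T) → I.obj.obj (op T) := fun x y =>
    AffVan.rA I (gp (x + y)) z - AffVan.rA I (gp x) z - AffVan.rA I (gp y) z
  have hδ : ∀ {T T' : Over X} (g : T' ⟶ T) (x y : (GaS X).obj.obj (op T)),
      AffVan.rA I g (δ x y) = δ (AffVan.rA (GaS X) g x) (AffVan.rA (GaS X) g y) := fun g x y => by
    simp only [δ, map_sub, AffVan.rA_comp, ← gp_res, map_add]
  obtain ⟨m, hm⟩ := exists_jI_eq hE (δ (pairSec X 0) (pairSec X 1)) (by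
    show (π.hom.app (op (pairObj X))).hom (_ - _ - _) = 0
    rw [map_sub, map_sub, hπ, hπ, hπ, map_add]
    abel)
  obtain ⟨v, -, hv'⟩ := GaChar.exists_unit (ULift.{u} (Fin 2)) X (fn m)
    ((GmPts.unitOfPt (Additive.toMul m.down)).isUnit)
  obtain ⟨o, ho0, ho1⟩ := exists_pairMap (0 : (GaS X).obj.obj (op (Over.mk (𝟙 X)))) 0
  have hom : AffVan.rA (GmS X) o m = 0 := by
    refine jI_injective hE _ ?_
    rw [nat_res, hm, hδ, ho0, ho1, map_zero]
    show _ - _ - _ = _
    rw [add_zero, h0, sub_self, sub_zero]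
  have hv1 : v = 1 := by
    have h1 := congrArg fn hom
    rw [fn_res, fn_zero, ← hv'] at h1
    have h2 : o.left ≫ 𝔸(ULift.{u} (Fin 2); X) ↘ X = 𝟙 X := Over.w o
    rw [← GaChar.appTop_comp, h2] at h1
    exact h1
  have hm0 : m = 0 := fn_ext (T := pairObj X) (by rw [← hv', hv1, map_one, fn_zero])
  have hadd : ∀ {T : Over X} (x y : (GaS X).obj.obj (op T)),
      AffVan.rA I (gp (x + y)) z = AffVan.rA I (gp x) z + AffVan.rA I (gp y) z := fun {T} x y => by
    obtain ⟨g, hx, hy⟩ := exists_pairMap x y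
    have h := hδ g (pairSec X 0) (pairSec X 1)
    rw [hx, hy, ← hm, hm0, map_zero, map_zero] at h
    rw [← sub_eq_zero, ← sub_sub]
    exact h.symm
  let η : (GaS X).obj ⟶ I.obj :=
    { app := fun T => AddCommGrpCat.ofHom (X := (GaS X).obj.obj T) (Y := I.obj.obj T)
        (AddMonoidHom.mk' (fun x => AffVan.rA I (gp (T := T.unop) x) z) fun x y => hadd (T := T.unop) x y)
      naturality := fun T T' g => AddCommGrpCat.ext fun x => by
        show AffVan.rA I (gp (AffVan.rA (GaS X) g.unop x)) z = AffVan.rA I g.unop (AffVan.rA I (gp x) z)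
        rw [AffVan.rA_comp, gp_res] }
  exact ⟨⟨η⟩, Sheaf.hom_ext (NatTrans.ext (funext fun T => AddCommGrpCat.ext fun x => hπ (T := T.unop) x))⟩

end Groth.Agent.GaExt80
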