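import Groth.Agent.GaExt80.Univ
import Groth.Agent.GaDual80.BidualP
import Groth.Agent.GaChar.MulCocycle
import Groth.Agent.S13374
import Mathlib.RingTheory.MvPolynomial.Expand
import Mathlib.RingTheory.AdjoinRoot

/-!
# Additive sections lift along extensions by the multiplicative group over semiperfect rings
-/

set_option autoImplicit false
set_option backward.isDefEq.respectTransparency.types false
set_option linter.style.haveILetI false

universe u

open CategoryTheory Limits AlgebraicGeometry Opposite TensorProduct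
open Groth.Agent.Adeq2Lib Groth.Agent.DualNorm79 Groth.Agent.DualGm79

namespace Groth.Agent.GaExt80

open GaDual80 (GaS sMap)

variable {S : Scheme.{u}} {C : Type u} [CommRing C] (a : Spec (CommRingCat.of C) ⟶ S)
  {G : AffVan.AbT S}

section Df

variable {R R' : Type u} [CommRing R] [Algebra C R] [CommRing R'] [Algebra C R']

/-- The defect of additivity. -/
noncomputable def df (x y : R) (s : G.obj.obj (op (cv a (Polynomial C)))) : G.obj.obj (op (cv a R)) :=
  at' a (x + y) s - at' a x s - at' a y s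

theorem res_df (φ : R →ₐ[C] R') (x y : R) (s : G.obj.obj (op (cv a (Polynomial C)))) :
    AffVan.rA G (cvHom a φ) (df a x y s) = df a (φ x) (φ y) s := by
  rw [df, df, map_sub, map_sub, res_at', res_at', res_at', map_add]

theorem df_comm (x y : R) (s : G.obj.obj (op (cv a (Polynomial C)))) : df a x y s = df a y x s := by
  rw [df, df, add_comm x y]; abel

theorem df_cocycle (x y z : R) (s : G.obj.obj (op (cv a (Polynomial C)))) :
    df a y z s + df a x (y + z) s = df a (x + y) z s + df a x y s := by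
  rw [df, df, df, df, add_assoc x y z]; abel

theorem isAdd_iff_df {s : G.obj.obj (op (cv a (Polynomial C)))} :
    IsAdd a s ↔ df a (MvPolynomial.X 0 : MvPolynomial (Fin 2) C) (MvPolynomial.X 1) s = 0 := by
  rw [IsAdd, df, sub_sub, sub_eq_zero]

theorem df_nat {F : AffVan.AbT S} (φ : F ⟶ G) (x y : R) (s : F.obj.obj (op (cv a (Polynomial C)))) :
    (φ.hom.app (op (cv a R))).hom (df a x y s) =
      df a x y ((φ.hom.app (op (cv a (Polynomial C)))).hom s) := by
  rw [df, df, map_sub, map_sub, at'_nat, at'_nat, at'_nat]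

theorem gv_df (x y : R) (m : (GmS S).obj.obj (op (cv a (Polynomial C)))) :
    Polynomial.aeval (x + y) (gv m) =
      Polynomial.aeval x (gv m) * Polynomial.aeval y (gv m) * gv (df a x y m) := by
  rw [← gv_at' a, ← gv_at' a, ← gv_at' a, ← gv_add, ← gv_add]
  refine congrArg gv ?_
  rw [df]; abel

end Df

theorem exists_gm {R : Type u} [CommRing R] [Algebra C R] {v : R} (hv : IsUnit v) :
    ∃ m : (GmS S).obj.obj (op (cv a R)), gv m = v :=
  ⟨_, (exists_gv (sMap a (algebraMap C R)) hv.unit).choose_spec.trans hv.unit_spec⟩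

variable {I Q : AffVan.AbT S} {jI : GmS S ⟶ I} {π : I ⟶ Q} {w₀ : jI ≫ π = 0}
  (hE : (ShortComplex.mk jI π w₀).ShortExact) (p : ℕ) [hp : Fact p.Prime] [hC : CharP C p]
  {u : Q.obj.obj (op (cv a (Polynomial C)))} (hu : IsAdd a u)

include hE hu hC in
/-- The pullback by Frobenius of an additive section lifts. -/
theorem exists_lift_pow (hF : Function.Surjective (frobenius C p)) :
    ∃ z, (π.hom.app (op (cv a (Polynomial C)))).hom z = at' a (Polynomial.X ^ p : Polynomial C) u := by
  let ρ₁ : Polynomial C →ₐ[C] Polynomial C := Polynomial.aeval (Polynomial.X ^ p)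
  let ρ₂ : Polynomial C →+* Polynomial C := Polynomial.mapRingHom (frobenius C p)
  have hfac : ∀ c, ρ₂ (ρ₁ c) = c ^ p := fun c => Polynomial.map_frobenius_expand p c
  have hcomm : ∀ c, ρ₁ (ρ₂ c) = c ^ p := fun c => by
    refine Eq.trans ?_ (hfac c)
    exact (Polynomial.map_expand (p := p) (f := frobenius C p) (q := c)).symm
  have hρ₂ : Function.Surjective ρ₂ := Polynomial.map_surjective _ hF
  have hρ₂' : Function.Surjective (PrimeSpectrum.comap ρ₂) := fun P => by
    refine ⟨PrimeSpectrum.comap ρ₁.toRingHom P, ?_⟩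
    refine PrimeSpectrum.ext (Ideal.ext fun c => ?_)
    show ρ₁ (ρ₂ c) ∈ P.asIdeal ↔ c ∈ P.asIdeal
    rw [hcomm]
    exact ⟨fun h => P.2.mem_of_pow_mem p h, fun h => Ideal.pow_mem_of_mem _ h p hp.out.pos⟩
  refine exists_lift_frob (sMap a (algebraMap C (Polynomial C))) hE p
    (by rw [← map_natCast (Polynomial.C : C →+* Polynomial C), CharP.cast_eq_zero, map_zero])
    (cvHom a ρ₁) ρ₁.toRingHom ρ₂ rfl hfac hρ₂ hρ₂' u ⟨0, ?_⟩
  rw [map_zero]
  have h := hu.nsmul a p (Polynomial.X : Polynomial C)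
  rw [at'_X, nsmul_eq_mul, ← map_natCast (Polynomial.C : C →+* Polynomial C), CharP.cast_eq_zero, map_zero,
    zero_mul, hu.zero] at h
  exact h

include hE hu hC in
/-- The pullback by Frobenius of an additive section lifts to an additive section. -/
theorem exists_add_lift_pow (hF : Function.Surjective (frobenius C p)) :
    ∃ s, IsAdd a s ∧ (π.hom.app (op (cv a (Polynomial C)))).hom s = at' a (Polynomial.X ^ p : Polynomial C) u := by
  obtain ⟨z₀, hz₀⟩ := exists_lift_pow a hE p hu hF
  let z := z₀ - at' a (0 : Polynomial C) z₀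
  have hz : (π.hom.app (op (cv a (Polynomial C)))).hom z = at' a (Polynomial.X ^ p : Polynomial C) u := by
    rw [map_sub, at'_nat, hz₀, at'_at', map_pow, Polynomial.aeval_X, zero_pow hp.out.ne_zero, hu.zero, sub_zero]
  have hz0 : at' a (0 : C) z = 0 := by
    rw [at'_sub, at'_at', map_zero, sub_self]
  clear_value z
  let R₂ := MvPolynomial (Fin 2) C
  haveI : CharP R₂ p := inferInstance
  let d := df a (MvPolynomial.X 0 : R₂) (MvPolynomial.X 1) z
  have hd : (π.hom.app (op (cv a R₂))).hom d = 0 := by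
    rw [df_nat, hz, df, at'_at', at'_at', at'_at', map_pow, map_pow, map_pow, Polynomial.aeval_X, Polynomial.aeval_X,
      Polynomial.aeval_X, add_pow_char, hu.add, add_sub_cancel_left, sub_self]
  obtain ⟨m, hm⟩ := exists_jI_eq hE d hd
  have hres : ∀ (T : Type u) [CommRing T] [Algebra C T] (v : Fin 2 → T),
      (jI.hom.app (op (cv a T))).hom (AffVan.rA (GmS S) (cvHom a (MvPolynomial.aeval v)) m) = df a (v 0) (v 1) z := by
    intro T _ _ v
    rw [nat_res, hm, res_df, MvPolynomial.aeval_X, MvPolynomial.aeval_X]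
  have hgv : ∀ (T : Type u) [CommRing T] [Algebra C T] (v : Fin 2 → T),
      gv (AffVan.rA (GmS S) (cvHom a (MvPolynomial.aeval v)) m) = MvPolynomial.aeval v (gv m) := fun T _ _ v =>
    gv_res (cvHom a (MvPolynomial.aeval v)) (MvPolynomial.aeval v).toRingHom rfl m
  have hcoc : GaChar.IsMCoc (gv m) := by
    refine ⟨?_, ?_⟩
    · rw [← hgv]
      refine congrArg gv (jI_injective hE _ ?_)
      rw [hres, hm, df_comm]
      rfl
    · rw [← hgv, ← hgv, ← hgv, ← hgv, ← gv_add, ← gv_add]
      refine congrArg gv (jI_injective hE _ ?_)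
      rw [map_add, map_add, hres, hres, hres, hres]
      simp only [Matrix.cons_val_zero, Matrix.cons_val_one]
      exact df_cocycle a _ _ _ z
  have hc0 : MvPolynomial.constantCoeff (gv m) = 1 := by
    have h := hgv C (fun _ => (0 : C))
    rw [show AffVan.rA (GmS S) (cvHom a (MvPolynomial.aeval fun _ : Fin 2 => (0 : C))) m = 0 from
      jI_injective hE _ (by rw [hres, map_zero, df, add_zero, hz0, sub_self, sub_zero]), gv_zero,
      show (fun _ : Fin 2 => (0 : C)) = 0 from rfl, MvPolynomial.aeval_zero] at h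
    simpa using h.symm
  obtain ⟨f, hf, hsol⟩ := GaChar.exists_splitting p hF (isUnit_gv m) hc0 hcoc
  obtain ⟨mf, hmf⟩ := exists_gm a hf
  have hdm : df a (MvPolynomial.X 0 : R₂) (MvPolynomial.X 1) mf = m := by
    refine gv_ext ((((hf.map (Polynomial.aeval (MvPolynomial.X 0 : R₂))).mul
      (hf.map (Polynomial.aeval (MvPolynomial.X 1 : R₂)))).mul_left_cancel ?_))
    have h := gv_df a (MvPolynomial.X 0 : R₂) (MvPolynomial.X 1) mf
    rw [hmf] at h
    exact h.symm.trans hsol
  refine ⟨z - (jI.hom.app (op (cv a (Polynomial C)))).hom mf, (isAdd_iff_df a).2 ?_, ?_⟩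
  · rw [df, at'_sub, at'_sub, at'_sub, ← at'_nat, ← at'_nat, ← at'_nat]
    have h1 : (jI.hom.app (op (cv a R₂))).hom (df a (MvPolynomial.X 0 : R₂) (MvPolynomial.X 1) mf) = d := by
      rw [hdm, hm]
    rw [df, map_sub, map_sub] at h1
    show _ = (0 : I.obj.obj (op (cv a R₂)))
    linear_combination (norm := (simp only [d, df]; abel)) -h1
  · rw [map_sub, π_jI hE, sub_zero, hz]

omit hp hC in
theorem ev_root {R : Type u} [CommRing R] [Algebra C R] {x : R} (hx : x ^ p = 0) :
    ∃ φ : AdjoinRoot (Polynomial.X ^ p : Polynomial C) →ₐ[C] R, φ (AdjoinRoot.root _) = x :=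
  ⟨AdjoinRoot.liftAlgHom _ (Algebra.ofId C R) x (by simp [hx]), AdjoinRoot.liftAlgHom_root _ _ _ _⟩

include hE hu hC in
/-- There is a lifting of the pullback by Frobenius vanishing on its kernel. -/
theorem exists_add_lift_kernel (hF : Function.Surjective (frobenius C p)) :
    ∃ s, IsAdd a s ∧ (π.hom.app (op (cv a (Polynomial C)))).hom s = at' a (Polynomial.X ^ p : Polynomial C) u ∧
      at' a (AdjoinRoot.root (Polynomial.X ^ p : Polynomial C)) s = 0 := by
  obtain ⟨s, hs, hπ⟩ := exists_add_lift_pow a hE p hu hF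
  haveI : Nontrivial C := CharP.nontrivial_of_char_ne_one hp.out.ne_one
  let N := AdjoinRoot (Polynomial.X ^ p : Polynomial C)
  let r : N := AdjoinRoot.root _
  have hr : r ^ p = 0 := by
    have := AdjoinRoot.eval₂_root (Polynomial.X ^ p : Polynomial C)
    simpa using this
  have hmon : (Polynomial.X ^ p : Polynomial C).Monic := Polynomial.monic_X_pow p
  obtain ⟨m, hm⟩ := exists_jI_eq hE (at' a r s) (by
    rw [at'_nat, hπ, at'_at', map_pow, Polynomial.aeval_X, hr, hu.zero])
  let f : Polynomial C := AdjoinRoot.modByMonicHom hmon (gv m)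
  have hdeg : f.natDegree < p ^ 1 := by
    obtain ⟨q, hq⟩ := AdjoinRoot.mk_surjective (gv m)
    rw [pow_one, show f = q %ₘ (Polynomial.X ^ p) by simp only [f, ← hq, AdjoinRoot.modByMonicHom_mk]]
    refine lt_of_lt_of_eq (Polynomial.natDegree_modByMonic_lt q hmon ?_) (Polynomial.natDegree_X_pow p)
    intro h
    have := congrArg Polynomial.natDegree h
    simp [hp.out.ne_zero] at this
  have hfm : Polynomial.aeval r f = gv m :=
    (AdjoinRoot.aeval_eq f).trans (AdjoinRoot.mk_leftInverse hmon (gv m))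
  have hev : ∀ {R : Type u} [CommRing R] [Algebra C R] (φ : N →ₐ[C] R),
      Polynomial.aeval (φ r) f = gv (AffVan.rA (GmS S) (cvHom a φ) m) := fun φ => by
    rw [gv_res (cvHom a φ) φ.toRingHom rfl, Polynomial.aeval_algHom_apply, hfm]
    rfl
  have hjev : ∀ {R : Type u} [CommRing R] [Algebra C R] (φ : N →ₐ[C] R),
      (jI.hom.app (op (cv a R))).hom (AffVan.rA (GmS S) (cvHom a φ) m) = at' a (φ r) s := fun φ => by
    rw [nat_res, hm, res_at']
  have h0 : f.eval 0 = 1 := by
    obtain ⟨φ, hφ⟩ := ev_root (C := C) (R := C) (x := 0) p (zero_pow hp.out.ne_zero)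
    have h := hev (R := C) φ
    rw [hφ, show AffVan.rA (GmS S) (cvHom a φ) m = 0 from jI_injective hE _ (by rw [hjev, hφ, map_zero, hs.zero]),
      gv_zero, Polynomial.coe_aeval_eq_eval] at h
    exact h
  obtain ⟨b, hb, hfb⟩ := S13374.result p C 1 f hdeg h0 (by
    let J : Ideal (MvPolynomial (Fin 2) C) :=
      Ideal.span {MvPolynomial.X 0 ^ p ^ 1, MvPolynomial.X 1 ^ p ^ 1}
    let q := Ideal.Quotient.mkₐ C J
    have hx : ∀ i, q (MvPolynomial.X i) ^ p = 0 := fun i => by
      rw [← map_pow, Ideal.Quotient.mkₐ_eq_mk, Ideal.Quotient.eq_zero_iff_mem]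
      refine Ideal.subset_span ?_
      fin_cases i <;> simp
    haveI : CharP (MvPolynomial (Fin 2) C) p := inferInstance
    obtain ⟨φ₀, hφ₀⟩ := ev_root (C := C) p (hx 0)
    obtain ⟨φ₁, hφ₁⟩ := ev_root (C := C) p (hx 1)
    obtain ⟨φ₂, hφ₂⟩ := ev_root (C := C) p (show q (MvPolynomial.X 0 + MvPolynomial.X 1) ^ p = 0 by
      rw [← map_pow, add_pow_char, map_add, map_pow, map_pow, hx, hx, add_zero])
    show q (Polynomial.aeval _ f) = q (Polynomial.aeval _ f * Polynomial.aeval _ f)
    rw [map_mul, ← Polynomial.aeval_algHom_apply, ← Polynomial.aeval_algHom_apply, ← Polynomial.aeval_algHom_apply,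
      ← hφ₀, ← hφ₁, ← hφ₂, hev, hev, hev, ← gv_add]
    refine congrArg gv (jI_injective hE _ ?_)
    rw [map_add, hjev, hjev, hjev, hφ₀, hφ₁, hφ₂, map_add, hs.add])
  have hfe : f = GaChar.expp p (b 0) 0 := by
    rw [hfb, Finset.prod_range_one]
    rfl
  have hfu : IsUnit f := hfe ▸ GaChar.isUnit_expp p ⟨p, hb 0⟩ 0
  obtain ⟨mf, hmf⟩ := exists_gm a hfu
  have hmfadd : IsAdd a mf := by
    refine gv_ext ?_
    rw [gv_at', gv_add, gv_at', gv_at', hmf, hfe]
    exact (GaDual80.isChar_expp' (CharP.cast_eq_zero C p) (hb 0) 0).2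
  refine ⟨s - (jI.hom.app (op (cv a (Polynomial C)))).hom mf, ?_, ?_, ?_⟩
  · rw [IsAdd, at'_sub, at'_sub, at'_sub, hs, ← at'_nat, ← at'_nat, ← at'_nat, hmfadd, map_add]
    abel
  · rw [map_sub, π_jI hE, sub_zero, hπ]
  · rw [at'_sub, ← at'_nat, ← hm, ← map_sub,
      show at' a r mf = m from gv_ext (by rw [gv_at', hmf, hfm]), sub_self, map_zero]

end Groth.Agent.GaExt80
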