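import Groth.Agent.GaExt80.HomTorsor
import Groth.Agent.GaExt80.Reduced
import Groth.Agent.InvUfdLib.Trivial
import Mathlib.RingTheory.Polynomial.UniqueFactorization

/-!
# Lifting of homomorphisms along extensions by the multiplicative group for towers of additive groups
-/

set_option autoImplicit false
set_option backward.isDefEq.respectTransparency.types false
set_option linter.style.haveILetI false

universe u

open CategoryTheory Limits AlgebraicGeometry Opposite
open Groth.Agent.Adeq2Lib Groth.Agent.DualNorm79 Groth.Agent.DualGm79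

namespace Groth.Agent.GaExt80

open GaDual80 (GaS sMap)

/-- Homomorphisms lift along extensions by the multiplicative group with injective middle term. -/
def LiftP {S : Scheme.{u}} (F : AffVan.AbT S) : Prop :=
  ∀ {I Q : AffVan.AbT S} (jI : GmS S ⟶ I) (π : I ⟶ Q) (w : jI ≫ π = 0),
    (ShortComplex.mk jI π w).ShortExact → Injective I → ∀ f : F ⟶ Q, ∃ g : F ⟶ I, g ≫ π = f

theorem LiftP.of_isZero {S : Scheme.{u}} {F : AffVan.AbT S} (h : IsZero F) : LiftP F :=
  fun _ _ _ _ _ f => ⟨0, h.eq_of_src _ f⟩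

/-- The property is closed under extensions. -/
theorem LiftP.of_shortExact {S : Scheme.{u}} (E : ShortComplex (AffVan.AbT S)) (hE : E.ShortExact)
    (h₁ : LiftP E.X₁) (h₃ : LiftP E.X₃) : LiftP E.X₂ := by
  intro I Q jI π w hI hInj f
  haveI := hE.mono_f
  haveI := hE.epi_g
  obtain ⟨g₁, hg₁⟩ := h₁ jI π w hI hInj (E.f ≫ f)
  let g₂ := Injective.factorThru g₁ E.f
  have h0 : E.f ≫ (f - g₂ ≫ π) = 0 := by
    rw [Preadditive.comp_sub, ← Category.assoc, Injective.comp_factorThru, hg₁, sub_self]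
  obtain ⟨g₃, hg₃⟩ := h₃ jI π w hI hInj (hE.exact.desc (f - g₂ ≫ π) h0)
  refine ⟨g₂ + E.g ≫ g₃, ?_⟩
  rw [Preadditive.add_comp, Category.assoc, hg₃, hE.exact.g_desc, add_sub_cancel]

/-- The additive group over a semiperfect ring. -/
theorem liftP_Ga_semiperfect (p : ℕ) [Fact p.Prime] (R : Type u) [CommRing R] [CharP R p]
    (hF : Function.Surjective (frobenius R p)) : LiftP (GaS (Spec (CommRingCat.of R))) :=
  fun _ π _ hE _ f => exists_lift_of_add π f fun _ hu => exists_additive_lift _ p hE hF hu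

theorem nontrivial_of_mvUnit {k : Type u} [Field k] {v : MvPolynomial (Fin 2) k} (hv : IsUnit v)
    (h0 : MvPolynomial.constantCoeff v = 1) : v = 1 := by
  obtain ⟨c, -, hc⟩ := MvPolynomial.isUnit_iff_eq_C_of_isReduced.1 hv
  rw [hc, MvPolynomial.constantCoeff_C] at h0
  rw [hc, h0, map_one]

/-- The additive group over a field. -/
theorem liftP_Ga_field (k : Type u) [Field k] : LiftP (GaS (Spec (CommRingCat.of k))) := by
  intro I Q jI π w hE _ f
  refine exists_lift_of_add π f fun u hu => ?_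
  let a := 𝟙 (Spec (CommRingCat.of k))
  let A₁ := cv a (Polynomial k)
  let W : Over (Spec (CommRingCat.of k)) := opObj A₁ ⊤
  obtain ⟨z₁, hz₁⟩ := exists_lift_of_pic W hE
    (fun L hL => InvUfdLib.nonempty_iso (R := CommRingCat.of (Polynomial k)) ⊤ L hL)
    (AffVan.rA Q (opIncl A₁ ⊤) u)
  let e : A₁ ⟶ W := Over.homMk (Scheme.topIso A₁.left).inv (by
    show (Scheme.topIso A₁.left).inv ≫ (⊤ : A₁.left.Opens).ι ≫ A₁.hom = A₁.hom
    rw [← Category.assoc, show (Scheme.topIso A₁.left).inv ≫ (⊤ : A₁.left.Opens).ι = 𝟙 _ from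
      (Scheme.topIso A₁.left).inv_hom_id, Category.id_comp])
  have he : e ≫ opIncl A₁ ⊤ = 𝟙 A₁ := Over.OverMorphism.ext (Scheme.topIso A₁.left).inv_hom_id
  let z₀ := AffVan.rA I e z₁
  have hz₀ : (π.hom.app (op A₁)).hom z₀ = u := by
    rw [nat_res, hz₁, AffVan.rA_comp, he, AffVan.rA_id]
  let z := z₀ - at' a (0 : Polynomial k) z₀
  have hz : (π.hom.app (op A₁)).hom z = u := by
    rw [map_sub, at'_nat, hz₀, hu.zero, sub_zero]
  have hz0 : at' a (0 : k) z = 0 := by
    rw [at'_sub, at'_at', map_zero, sub_self]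
  clear_value z
  let R₂ := MvPolynomial (Fin 2) k
  obtain ⟨m, hm⟩ := exists_jI_eq hE (df a (MvPolynomial.X 0 : R₂) (MvPolynomial.X 1) z) (by
    rw [df_nat, hz, ← isAdd_iff_df]
    exact hu)
  refine ⟨z, (isAdd_iff_df a).2 ?_, hz⟩
  suffices gv m = 1 by rw [← hm, show m = 0 from gv_ext (this.trans gv_zero.symm), map_zero]
  refine nontrivial_of_mvUnit (isUnit_gv m) ?_
  let φ : R₂ →ₐ[k] k := MvPolynomial.aeval 0
  have h0 : AffVan.rA (GmS _) (cvHom a φ) m = 0 := jI_injective hE _ (by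
    rw [nat_res, hm, res_df, MvPolynomial.aeval_X, MvPolynomial.aeval_X, map_zero, df, Pi.zero_apply,
      Pi.zero_apply, add_zero, hz0, sub_self, sub_zero])
  have h1 := congrArg gv h0
  rw [gv_res (cvHom a φ) φ.toRingHom rfl, gv_zero] at h1
  have h2 : MvPolynomial.aeval (0 : Fin 2 → k) (gv m) = 1 := h1
  rw [MvPolynomial.aeval_zero] at h2
  simpa using h2

open MonObj in
/-- A tower of additive groups. -/
theorem LiftP.of_tower {S : Scheme.{u}} (hGa : LiftP (GaS S)) {n : ℕ} {U : Fin (n + 1) → Over S}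
    [∀ j, GrpObj (U j)] [∀ j, IsCommMonObj (U j)] (incl : ∀ j : Fin n, U j.castSucc ⟶ U j.succ)
    (proj : ∀ j : Fin n, U j.succ ⟶ Red.Ga S) [∀ j, IsMonHom (incl j)] [∀ j, IsMonHom (proj j)]
    (w : ∀ j, incl j ≫ proj j = 1)
    (hex : ∀ j, (CGrpSh.seq Scheme.fppfPrecoverage (incl j) (proj j) (w j)).ShortExact)
    (h0 : IsZero (CGrpSh.pts Scheme.fppfPrecoverage (U 0))) (j : Fin (n + 1)) :
    LiftP (CGrpSh.pts Scheme.fppfPrecoverage (U j)) := by
  induction j using Fin.induction with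
  | zero => exact LiftP.of_isZero h0
  | succ j ih => exact LiftP.of_shortExact _ (hex j) ih hGa

end Groth.Agent.GaExt80
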