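import Groth.Agent.GaExt80.Lift

/-!
# Homomorphisms out of the additive group are additive sections on the affine line
-/

set_option autoImplicit false
set_option backward.isDefEq.respectTransparency.types false
set_option linter.style.haveILetI false

universe u

open CategoryTheory Limits AlgebraicGeometry Opposite
open Groth.Agent.Adeq2Lib Groth.Agent.DualNorm79 Groth.Agent.DualGm79

namespace Groth.Agent.GaExt80

open GaDual80 (GaS sMap afn afn_ext afn_add afn_res av av_ext av_add av_res ofV av_ofV γ γ_comp)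

variable {S : Scheme.{u}} {C : Type u} [CommRing C] (a : Spec (CommRingCat.of C) ⟶ S)

/-- The ring map of a morphism to a spectrum. -/
noncomputable def rh {W : Over S} {R : Type u} [CommRing R] [Algebra C R] (g : W ⟶ cv a R) :
    R →+* Γ(W.left, ⊤) :=
  g.left.appTop.hom.comp (Scheme.ΓSpecIso (CommRingCat.of R)).inv.hom

theorem eq_toSpecΓ {X : Scheme.{u}} {R : CommRingCat.{u}} (f : X ⟶ Spec R) :
    f = X.toSpecΓ ≫ Spec.map ((Scheme.ΓSpecIso R).inv ≫ f.appTop) := by
  rw [Spec.map_comp, ← Scheme.toSpecΓ_naturality_assoc, toSpecΓ_SpecMap_ΓSpecIso_inv, Category.comp_id]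

theorem rh_ext {W : Over S} {R : Type u} [CommRing R] [Algebra C R] {g g' : W ⟶ cv a R}
    (h : rh a g = rh a g') : g = g' := by
  refine Over.OverMorphism.ext ((eq_toSpecΓ (R := CommRingCat.of R) g.left).trans ?_)
  refine Eq.trans ?_ (eq_toSpecΓ (R := CommRingCat.of R) g'.left).symm
  exact congrArg (fun z => W.left.toSpecΓ ≫ Spec.map z) (CommRingCat.hom_ext h)

theorem rh_comp_cvHom {W : Over S} {R R' : Type u} [CommRing R] [Algebra C R] [CommRing R'] [Algebra C R']
    (g : W ⟶ cv a R') (φ : R →ₐ[C] R') : rh a (g ≫ cvHom a φ) = (rh a g).comp φ.toRingHom := by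
  have h1 := Scheme.ΓSpecIso_inv_naturality (CommRingCat.ofHom φ.toRingHom)
  rw [rh, rh, Over.comp_left, Scheme.Hom.comp_appTop]
  ext x
  exact (congrArg g.left.appTop.hom (ConcreteCategory.congr_hom h1 x)).symm

/-- The morphism to a spectrum given by a ring map. -/
noncomputable def ofRh {W : Over S} {R : Type u} [CommRing R] [Algebra C R] (k : W ⟶ Over.mk a)
    (φ : R →+* Γ(W.left, ⊤)) (hφ : φ.comp (algebraMap C R) = γ k) : W ⟶ cv a R :=
  Over.homMk (W.left.toSpecΓ ≫ Spec.map (CommRingCat.ofHom φ)) (by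
    refine Eq.trans ?_ (Over.w k)
    show (_ ≫ _) ≫ _ ≫ a = k.left ≫ a
    rw [Category.assoc, ← Spec.map_comp_assoc, ← CommRingCat.ofHom_comp, hφ, ← Category.assoc]
    exact congrArg (· ≫ a) (eq_toSpecΓ (R := CommRingCat.of C) k.left).symm)

theorem rh_ofRh {W : Over S} {R : Type u} [CommRing R] [Algebra C R] (k : W ⟶ Over.mk a)
    (φ : R →+* Γ(W.left, ⊤)) (hφ : φ.comp (algebraMap C R) = γ k) : rh a (ofRh a k φ hφ) = φ := by
  have h : (Scheme.ΓSpecIso (CommRingCat.of R)).inv ≫
      Scheme.Hom.appTop (W.left.toSpecΓ ≫ Spec.map (CommRingCat.ofHom φ)) = CommRingCat.ofHom φ := by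
    rw [Scheme.Hom.comp_appTop, Scheme.toSpecΓ_appTop]
    erw [← Scheme.ΓSpecIso_inv_naturality_assoc (CommRingCat.ofHom φ), Iso.inv_hom_id]
    exact Category.comp_id _
  exact congrArg CommRingCat.Hom.hom h

theorem ofRh_comp_cvMap {W : Over S} {R : Type u} [CommRing R] [Algebra C R] (k : W ⟶ Over.mk a)
    (φ : R →+* Γ(W.left, ⊤)) (hφ : φ.comp (algebraMap C R) = γ k) : ofRh a k φ hφ ≫ cvMap a R = k := by
  refine Over.OverMorphism.ext ?_
  show (W.left.toSpecΓ ≫ Spec.map _) ≫ Spec.map _ = k.left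
  rw [Category.assoc, ← Spec.map_comp, ← CommRingCat.ofHom_comp, hφ]
  exact (eq_toSpecΓ (R := CommRingCat.of C) k.left).symm

theorem cvHom_id {R : Type u} [CommRing R] [Algebra C R] : cvHom a (AlgHom.id C R) = 𝟙 _ :=
  Over.OverMorphism.ext (Spec.map_id _)

theorem cvHom_cvMap {R R' : Type u} [CommRing R] [Algebra C R] [CommRing R'] [Algebra C R'] (φ : R →ₐ[C] R') :
    cvHom a φ ≫ cvMap a R = cvMap a R' := by
  refine Over.OverMorphism.ext ?_
  show Spec.map _ ≫ Spec.map _ = Spec.map _
  rw [← Spec.map_comp]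
  exact congrArg Spec.map (CommRingCat.hom_ext (RingHom.ext φ.commutes))

variable {F G : AffVan.AbT S}

/-- The value of a section on the affine line at a ring element. -/
noncomputable def at' {R : Type u} [CommRing R] [Algebra C R] (x : R)
    (s : G.obj.obj (op (cv a (Polynomial C)))) : G.obj.obj (op (cv a R)) :=
  AffVan.rA G (cvHom a (Polynomial.aeval x)) s

variable {R R' : Type u} [CommRing R] [Algebra C R] [CommRing R'] [Algebra C R']

theorem res_at' (φ : R →ₐ[C] R') (x : R) (s : G.obj.obj (op (cv a (Polynomial C)))) :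
    AffVan.rA G (cvHom a φ) (at' a x s) = at' a (φ x) s := by
  rw [at', at', AffVan.rA_comp, cvHom_eq a _ φ _ (Polynomial.aeval_algHom φ x).symm]

theorem at'_X (s : G.obj.obj (op (cv a (Polynomial C)))) : at' a Polynomial.X s = s := by
  rw [at', Polynomial.aeval_X_left, cvHom_id, AffVan.rA_id]

theorem at'_sub (x : R) (s t : G.obj.obj (op (cv a (Polynomial C)))) :
    at' a x (s - t) = at' a x s - at' a x t := map_sub _ _ _

theorem at'_nat (φ : F ⟶ G) (x : R) (s : F.obj.obj (op (cv a (Polynomial C)))) :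
    (φ.hom.app (op (cv a R))).hom (at' a x s) = at' a x ((φ.hom.app (op (cv a (Polynomial C)))).hom s) :=
  nat_res φ _ s

theorem at'_at' (x : R) (y : Polynomial C) (s : G.obj.obj (op (cv a (Polynomial C)))) :
    at' a x (at' a y s) = at' a (Polynomial.aeval x y) s :=
  res_at' a (Polynomial.aeval x) y s

theorem gv_at' (x : R) (m : (GmS S).obj.obj (op (cv a (Polynomial C)))) :
    gv (at' a x m) = Polynomial.aeval x (gv m) :=
  gv_res (cvHom a (Polynomial.aeval x)) (Polynomial.aeval x).toRingHom rfl m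

/-- Additive sections on the affine line. -/
def IsAdd (s : G.obj.obj (op (cv a (Polynomial C)))) : Prop :=
  at' a (MvPolynomial.X 0 + MvPolynomial.X 1 : MvPolynomial (Fin 2) C) s =
    at' a (MvPolynomial.X 0 : MvPolynomial (Fin 2) C) s + at' a (MvPolynomial.X 1 : MvPolynomial (Fin 2) C) s

theorem IsAdd.add {s : G.obj.obj (op (cv a (Polynomial C)))} (hs : IsAdd a s) (x y : R) :
    at' a (x + y) s = at' a x s + at' a y s := by
  have h := congrArg (AffVan.rA G (cvHom a (MvPolynomial.aeval ![x, y]))) hs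
  rw [map_add, res_at', res_at', res_at', map_add] at h
  simpa using h

theorem IsAdd.zero {s : G.obj.obj (op (cv a (Polynomial C)))} (hs : IsAdd a s) : at' a (0 : R) s = 0 := by
  have h := hs.add a (0 : R) 0
  rw [add_zero] at h
  exact left_eq_add.1 h

theorem IsAdd.sub' {s : G.obj.obj (op (cv a (Polynomial C)))} (hs : IsAdd a s) (x y : R) :
    at' a (x - y) s = at' a x s - at' a y s := by
  rw [eq_sub_iff_add_eq, ← hs.add, sub_add_cancel]

theorem IsAdd.nsmul {s : G.obj.obj (op (cv a (Polynomial C)))} (hs : IsAdd a s) (n : ℕ) (x : R) :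
    at' a (n • x) s = n • at' a x s := by
  induction n with
  | zero => rw [zero_nsmul, zero_nsmul, hs.zero]
  | succ n ih => rw [succ_nsmul, succ_nsmul, hs.add, ih]

/-- The universal section of the additive group. -/
noncomputable abbrev univ : (GaS S).obj.obj (op (cv a (Polynomial C))) :=
  ofV (sMap a (algebraMap C (Polynomial C))) Polynomial.X

theorem at'_univ (x : R) : at' a x (univ a) = ofV (sMap a (algebraMap C R)) x :=
  av_ext (by
    rw [at', av_res _ (Polynomial.aeval x).toRingHom rfl, av_ofV, av_ofV]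
    exact Polynomial.aeval_X x)

theorem isAdd_univ : IsAdd a (univ a) := av_ext (by simp only [av_add, at'_univ, av_ofV])

variable {W : Over S} (k : W ⟶ Over.mk a)

/-- The point of the affine line of a function. -/
noncomputable def pt (x : Γ(W.left, ⊤)) : W ⟶ cv a (Polynomial C) :=
  ofRh a k (Polynomial.eval₂RingHom (γ k) x) (RingHom.ext fun _ => Polynomial.eval₂_C _ _)

theorem res_pt_univ (x : (GaS S).obj.obj (op W)) : AffVan.rA (GaS S) (pt a k (afn x)) (univ a) = x := by
  refine afn_ext ?_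
  rw [afn_res]
  have h : (Scheme.ΓSpecIso (CommRingCat.of (Polynomial C))).inv (av (univ a)) = afn (univ a) :=
    Iso.hom_inv_id_apply _ _
  rw [← h, show av (univ a) = Polynomial.X from av_ofV _ _]
  show rh a (pt a k (afn x)) Polynomial.X = afn x
  rw [pt, rh_ofRh]
  exact Polynomial.eval₂_X _ _

theorem pt_res {W' : Over S} (m : W' ⟶ W) (k' : W' ⟶ Over.mk a) (h : m ≫ k = k') (x : Γ(W.left, ⊤)) :
    m ≫ pt a k x = pt a k' (m.left.appTop x) := by
  subst h
  refine rh_ext a ?_
  rw [rh, Over.comp_left, Scheme.Hom.comp_appTop, CommRingCat.hom_comp, RingHom.comp_assoc, ← rh, pt, pt, rh_ofRh,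
    rh_ofRh]
  refine RingHom.ext fun f => ?_
  show m.left.appTop.hom (f.eval₂ (γ k) x) = f.eval₂ (γ (m ≫ k)) _
  rw [Polynomial.hom_eval₂, γ_comp]

theorem res_pt_add {s : G.obj.obj (op (cv a (Polynomial C)))} (hs : IsAdd a s) (x y : Γ(W.left, ⊤)) :
    AffVan.rA G (pt a k (x + y)) s = AffVan.rA G (pt a k x) s + AffVan.rA G (pt a k y) s := by
  let q : W ⟶ cv a (MvPolynomial (Fin 2) C) := ofRh a k (MvPolynomial.eval₂Hom (γ k) ![x, y])
    (RingHom.ext fun c => MvPolynomial.eval₂Hom_C _ _ c)
  have key : ∀ w : MvPolynomial (Fin 2) C,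
      q ≫ cvHom a (Polynomial.aeval w) = pt a k (MvPolynomial.eval₂Hom (γ k) ![x, y] w) := fun w => by
    refine rh_ext a ?_
    rw [rh_comp_cvHom, rh_ofRh, pt, rh_ofRh]
    refine Polynomial.ringHom_ext (fun c => ?_) ?_
    · simp [MvPolynomial.algebraMap_eq]
    · simp
  have h := congrArg (AffVan.rA G q) hs
  rw [map_add, at', at', at', AffVan.rA_comp, AffVan.rA_comp, AffVan.rA_comp, key, key, key, map_add] at h
  simpa using h

/-- The homomorphism of an additive section. -/
noncomputable def homOfSec (s : G.obj.obj (op (cv a (Polynomial C)))) (hs : IsAdd a s) :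
    (GaS S).over (Over.mk a) ⟶ G.over (Over.mk a) :=
  mkHom (fun W k => AddMonoidHom.mk' (fun x => AffVan.rA G (pt a k (afn x)) s) fun x y => by
      show AffVan.rA G (pt a k (afn (x + y))) s = _
      rw [afn_add, res_pt_add a k hs])
    fun W W' m k k' hk x => by
      show AffVan.rA G m (AffVan.rA G (pt a k (afn x)) s) = AffVan.rA G (pt a k' (afn (AffVan.rA (GaS S) m x))) s
      rw [AffVan.rA_comp, pt_res a k m k' hk, afn_res]

theorem val_homOfSec (s : G.obj.obj (op (cv a (Polynomial C)))) (hs : IsAdd a s) (x : (GaS S).obj.obj (op W)) :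
    val (homOfSec a s hs) k x = AffVan.rA G (pt a k (afn x)) s := rfl

/-- The universal value of a homomorphism. -/
noncomputable def secOfHom (χ : (GaS S).over (Over.mk a) ⟶ G.over (Over.mk a)) :
    G.obj.obj (op (cv a (Polynomial C))) :=
  val χ (cvMap a (Polynomial C)) (univ a)

theorem at'_secOfHom (χ : (GaS S).over (Over.mk a) ⟶ G.over (Over.mk a)) (x : R) :
    at' a x (secOfHom a χ) = val χ (cvMap a R) (ofV (sMap a (algebraMap C R)) x) := by
  rw [← at'_univ]
  exact val_res χ _ _ _ (cvHom_cvMap a _) _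

theorem isAdd_secOfHom (χ : (GaS S).over (Over.mk a) ⟶ G.over (Over.mk a)) : IsAdd a (secOfHom a χ) := by
  rw [IsAdd, at'_secOfHom, at'_secOfHom, at'_secOfHom, ← map_add]
  refine congrArg (val χ _) (av_ext ?_)
  rw [av_add, av_ofV, av_ofV, av_ofV]

theorem val_eq_sec (χ : (GaS S).over (Over.mk a) ⟶ G.over (Over.mk a)) (x : (GaS S).obj.obj (op W)) :
    val χ k x = AffVan.rA G (pt a k (afn x)) (secOfHom a χ) := by
  rw [secOfHom, val_res χ (pt a k (afn x)) _ k (ofRh_comp_cvMap a k _ _)]
  exact congrArg (val χ k) (res_pt_univ a k x).symm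

/-- A homomorphism lifts along a map of sheaves if its universal value has an additive lifting. -/
theorem exists_lift_hom {I Q : AffVan.AbT S} (π : I ⟶ Q) (χ : (GaS S).over (Over.mk a) ⟶ Q.over (Over.mk a))
    (h : ∃ s, IsAdd a s ∧ (π.hom.app (op (cv a (Polynomial C)))).hom s = secOfHom a χ) :
    ∃ g : (GaS S).over (Over.mk a) ⟶ I.over (Over.mk a),
      ∀ (W : Over S) (k : W ⟶ Over.mk a) (x : (GaS S).obj.obj (op W)),
        (π.hom.app (op W)).hom (val g k x) = val χ k x := by
  obtain ⟨s, hs, hπ⟩ := h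
  refine ⟨homOfSec a s hs, fun W k x => ?_⟩
  rw [val_homOfSec, nat_res, hπ, ← val_eq_sec]

end Groth.Agent.GaExt80
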